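/-
The Sylow 2-subgroup of a large Ree group in coordinates.
-/
import Mathlib.Algebra.CharP.Two
import Mathlib.Algebra.Group.MinimalAxioms
import Mathlib.Algebra.Group.Subgroup.Basic
import Mathlib.Tactic
import Cfsg.Agent.Base

set_option autoImplicit false
set_option linter.unusedSimpArgs false

namespace CL.Oct

/-- a field endomorphism whose square is the Frobenius map -/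
structure Par (K : Type*) [Field K] where
  σ : K →+* K
  sq : ∀ t, σ (σ t) = t ^ 2

/-- coordinates of `x₁(a1) y₂(b2) x₂(a2) x₃(a3) y₄(b4) x₄(a4) x₅(a5) y₆(b6) x₆(a6) x₇(a7) y₈(b8) x₈(a8)` -/
@[ext] structure UO {K : Type*} [Field K] (P : Par K) where
  a1 : K
  b2 : K
  a2 : K
  a3 : K
  b4 : K
  a4 : K
  a5 : K
  b6 : K
  a6 : K
  a7 : K
  b8 : K
  a8 : K

namespace UO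

variable {K : Type*} [Field K] {P : Par K}

instance : One (UO P) := ⟨⟨0, 0, 0, 0, 0, 0, 0, 0, 0, 0, 0, 0⟩⟩

instance : Mul (UO P) := ⟨fun x y => {
    a1 := x.a1 + y.a1
    b2 := x.b2 + y.b2 + x.b8 * y.a1
    a2 := x.a2 + y.a2 + x.b4 * y.a1 + x.b2 * P.σ y.b2 + x.b6 * P.σ y.a1 + x.b8 * y.a1 * P.σ y.b2 +
      x.a8 * y.a1 * P.σ y.a1 + x.b2 * P.σ x.b8 * P.σ y.a1
    a3 := x.a3 + y.a3 + x.b4 * y.b2 + x.b8 * y.a2 + x.b4 * x.b8 * y.a1 + P.σ x.b6 * y.a1 + x.a7 * P.σ y.a1 +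
      x.b8 * y.b2 * P.σ y.b2 + x.a8 * P.σ y.a1 * y.b2 + x.b8 * x.a8 * y.a1 * P.σ y.a1 + P.σ x.a8 * y.a1 * P.σ y.a1 +
      x.b8 ^ 2 * P.σ x.b8 * y.a1 * P.σ y.a1
    b4 := x.b4 + y.b4 + x.b8 * P.σ y.b2 + x.a8 * P.σ y.a1
    a4 := x.a4 + y.a4 + x.a5 * y.b2 + x.b6 * y.a3 + x.a6 * y.a1 + x.a7 * y.a2 + x.b4 * P.σ y.b4 + x.a5 * x.b8 * y.a1 +
      x.b6 * x.b8 * y.a2 + x.b8 * P.σ y.a3 + x.a8 * y.a1 * y.a3 + x.a8 * y.b2 * y.a2 + x.a8 * P.σ y.a2 +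
      x.b6 * x.a7 * P.σ y.a1 + x.a7 * y.b2 * P.σ y.b2 + P.σ x.a7 * y.a1 * y.b2 + P.σ x.b8 * y.b2 * y.a3 +
      P.σ x.a8 * y.a1 * y.a2 + x.b4 * P.σ x.b8 * y.b2 ^ 2 + x.b4 * P.σ x.a8 * y.a1 ^ 2 +
      x.b6 * x.b8 * y.b2 * P.σ y.b2 + x.b6 * x.a8 * P.σ y.a1 * y.b2 + x.a7 * x.a8 * y.a1 * P.σ y.a1 +
      P.σ x.a7 * x.b8 * y.a1 ^ 2 + x.b8 * P.σ x.b8 * y.a1 * y.a3 + x.b8 * P.σ x.b8 * y.b2 * y.a2 +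
      x.b8 * P.σ y.b2 * P.σ y.b4 + x.a8 * P.σ y.a1 * P.σ y.b4 + x.a8 * y.b2 ^ 2 * P.σ y.b2 +
      x.b6 * x.b8 * x.a8 * y.a1 * P.σ y.a1 + x.b6 * P.σ x.a8 * y.a1 * P.σ y.a1 + x.a7 * P.σ x.b8 * P.σ y.a1 * y.b2 +
      x.a8 ^ 2 * y.a1 * P.σ y.a1 * y.b2 + P.σ x.a8 * y.a1 * y.b2 * P.σ y.b2 +
      x.a7 * x.b8 * P.σ x.b8 * y.a1 * P.σ y.a1 + x.b8 * P.σ x.b8 * y.b2 ^ 2 * P.σ y.b2 +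
      x.b8 * x.a8 ^ 2 * y.a1 ^ 2 * P.σ y.a1 + P.σ x.b8 * x.a8 * P.σ y.a1 * y.b2 ^ 2 +
      x.a8 * P.σ x.a8 * y.a1 ^ 2 * P.σ y.a1 + x.b6 * x.b8 ^ 2 * P.σ x.b8 * y.a1 * P.σ y.a1 +
      P.σ x.b8 * P.σ x.a8 * y.a1 * P.σ y.a1 * y.b2 + x.b8 * P.σ x.b8 * P.σ x.a8 * y.a1 ^ 2 * P.σ y.a1 +
      x.b8 ^ 2 * P.σ x.b8 ^ 2 * y.a1 * P.σ y.a1 * y.b2 + x.b8 ^ 3 * P.σ x.b8 ^ 2 * y.a1 ^ 2 * P.σ y.a1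
    a5 := x.a5 + y.a5 + x.b6 * y.b4 + x.a8 * y.a2 + x.a7 * P.σ y.b2 + P.σ x.a7 * y.a1 + P.σ x.b8 * y.a3 +
      x.a8 * y.a1 * y.b4 + x.b6 * x.b8 * P.σ y.b2 + x.b6 * x.a8 * P.σ y.a1 + x.b8 * P.σ x.b8 * y.a2 +
      P.σ x.b8 * y.b2 * y.b4 + x.a7 * P.σ x.b8 * P.σ y.a1 + x.b8 * P.σ x.b8 * y.a1 * y.b4 +
      x.a8 ^ 2 * y.a1 * P.σ y.a1 + P.σ x.a8 * y.a1 * P.σ y.b2 + P.σ x.b8 * P.σ x.a8 * y.a1 * P.σ y.a1 +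
      x.b8 ^ 2 * P.σ x.b8 ^ 2 * y.a1 * P.σ y.a1
    b6 := x.b6 + y.b6 + x.a8 * y.a1 + P.σ x.b8 * y.b2 + x.b8 * P.σ x.b8 * y.a1
    a6 := x.a6 + y.a6 + x.a7 * y.b4 + x.b8 * y.a5 + x.a8 * y.a3 + x.b6 * P.σ y.b6 + P.σ x.a7 * y.b2 +
      x.b8 * x.a8 * y.a2 + x.a8 * y.b2 * y.b4 + P.σ x.a8 * y.a2 + x.a7 * x.b8 * P.σ y.b2 + x.a7 * x.a8 * P.σ y.a1 +
      P.σ x.a7 * x.b8 * y.a1 + x.b8 * x.a8 * y.a1 * y.b4 + x.a8 * y.a1 * P.σ y.b6 + P.σ x.a8 * y.a1 * y.b4 +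
      x.b6 * x.b8 ^ 2 * P.σ y.b2 + x.b6 * P.σ x.a8 * P.σ y.a1 + x.b8 ^ 2 * P.σ x.b8 * y.a2 +
      P.σ x.b8 * y.b2 * P.σ y.b6 + x.a8 ^ 2 * P.σ y.a1 * y.b2 + P.σ x.a8 * y.b2 * P.σ y.b2 +
      x.b8 ^ 2 * P.σ x.b8 * y.a1 * y.b4 + x.b8 * P.σ x.b8 * y.a1 * P.σ y.b6 + x.b8 * x.a8 ^ 2 * y.a1 * P.σ y.a1 +
      x.b8 * P.σ x.a8 * y.a1 * P.σ y.b2 + x.b6 * x.b8 ^ 2 * P.σ x.b8 * P.σ y.a1 +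
      P.σ x.b8 * P.σ x.a8 * P.σ y.a1 * y.b2 + x.b8 * P.σ x.b8 * P.σ x.a8 * y.a1 * P.σ y.a1 +
      x.b8 ^ 2 * P.σ x.b8 ^ 2 * P.σ y.a1 * y.b2 + x.b8 ^ 3 * P.σ x.b8 ^ 2 * y.a1 * P.σ y.a1
    a7 := x.a7 + y.a7 + x.b8 * y.b6 + x.a8 * y.b2 + x.b8 * x.a8 * y.a1 + P.σ x.a8 * y.a1 + x.b8 ^ 2 * P.σ x.b8 * y.a1
    b8 := x.b8 + y.b8
    a8 := x.a8 + y.a8 + x.b8 * P.σ y.b8 }⟩

instance : Inv (UO P) := ⟨fun x => {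
    a1 := x.a1
    b2 := x.b2 + x.a1 * x.b8
    a2 := x.a2 + x.a1 * x.b4 + P.σ x.a1 * x.b6 + x.b2 * P.σ x.b2 + x.a1 * P.σ x.a1 * x.a8 + x.a1 * P.σ x.b2 * x.b8 +
      x.a1 * P.σ x.a1 * x.b8 * P.σ x.b8
    a3 := x.a3 + x.b2 * x.b4 + x.a2 * x.b8 + x.a1 * x.b4 * x.b8 + x.a1 * P.σ x.b6 + P.σ x.a1 * x.a7 +
      P.σ x.a1 * x.b2 * x.a8 + P.σ x.a1 * x.b6 * x.b8 + x.a1 * P.σ x.a1 * x.b8 * x.a8 + x.a1 * P.σ x.a1 * P.σ x.a8 +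
      P.σ x.a1 * x.b2 * x.b8 * P.σ x.b8 + x.a1 * P.σ x.a1 * x.b8 ^ 2 * P.σ x.b8
    b4 := x.b4 + P.σ x.a1 * x.a8 + P.σ x.b2 * x.b8 + P.σ x.a1 * x.b8 * P.σ x.b8
    a4 := x.a4 + x.a1 * x.a6 + x.b2 * x.a5 + x.a2 * x.a7 + x.a3 * x.b6 + x.a1 * x.a3 * x.a8 + x.a1 * x.b4 * x.a7 +
      x.b2 * x.a2 * x.a8 + x.b2 * x.b4 * x.b6 + P.σ x.a2 * x.a8 + P.σ x.a3 * x.b8 + x.b4 * P.σ x.b4 +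
      x.a1 * x.b2 * P.σ x.a7 + x.a1 * x.a2 * P.σ x.a8 + x.a1 * x.b6 * P.σ x.b6 + P.σ x.a1 * x.b6 * x.a7 +
      x.b2 * x.a3 * P.σ x.b8 + x.a1 ^ 2 * x.b4 * P.σ x.a8 + x.a1 ^ 2 * P.σ x.a7 * x.b8 +
      x.a1 * P.σ x.a1 * x.a7 * x.a8 + P.σ x.a1 * x.b2 * x.b6 * x.a8 + P.σ x.a1 * x.b6 ^ 2 * x.b8 +
      x.b2 ^ 2 * P.σ x.b2 * x.a8 + x.b2 ^ 2 * x.b4 * P.σ x.b8 + P.σ x.a2 * x.b8 * P.σ x.b8 +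
      x.a1 * P.σ x.a1 * x.b2 * x.a8 ^ 2 + x.a1 * P.σ x.a1 * x.b6 * P.σ x.a8 + x.a1 * x.b2 * P.σ x.b6 * P.σ x.b8 +
      x.a1 * x.a2 * x.b8 ^ 2 * P.σ x.b8 + P.σ x.a1 * x.b2 * x.a7 * P.σ x.b8 +
      x.a1 ^ 2 * P.σ x.a1 * x.b8 * x.a8 ^ 2 + x.a1 ^ 2 * P.σ x.a1 * x.a8 * P.σ x.a8 +
      x.a1 ^ 2 * x.b4 * x.b8 ^ 2 * P.σ x.b8 + x.a1 ^ 2 * P.σ x.b6 * x.b8 * P.σ x.b8 +
      P.σ x.a1 * x.b2 ^ 2 * P.σ x.b8 * x.a8 + x.b2 ^ 2 * P.σ x.b2 * x.b8 * P.σ x.b8 +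
      x.a1 * P.σ x.a1 * x.b2 * P.σ x.b8 * P.σ x.a8 + x.a1 * P.σ x.a1 * x.b6 * x.b8 ^ 2 * P.σ x.b8 +
      x.a1 ^ 2 * P.σ x.a1 * x.b8 ^ 2 * P.σ x.b8 * x.a8 + P.σ x.a1 * x.b2 ^ 2 * x.b8 * P.σ x.b8 ^ 2 +
      x.a1 * P.σ x.a1 * x.b2 * x.b8 ^ 2 * P.σ x.b8 ^ 2
    a5 := x.a5 + x.a2 * x.a8 + x.b4 * x.b6 + x.a1 * P.σ x.a7 + P.σ x.b2 * x.a7 + x.a3 * P.σ x.b8 +
      P.σ x.a1 * x.b6 * x.a8 + x.b2 * P.σ x.b2 * x.a8 + x.a1 * P.σ x.a1 * x.a8 ^ 2 + x.a1 * P.σ x.b2 * P.σ x.a8 +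
      x.a1 * P.σ x.b6 * P.σ x.b8 + P.σ x.a1 * x.a7 * P.σ x.b8 + x.a1 * P.σ x.a1 * P.σ x.b8 * P.σ x.a8 +
      x.a1 * P.σ x.b2 * x.b8 ^ 2 * P.σ x.b8 + x.a1 * P.σ x.a1 * x.b8 ^ 2 * P.σ x.b8 ^ 2
    b6 := x.b6 + x.a1 * x.a8 + x.b2 * P.σ x.b8
    a6 := x.a6 + x.a3 * x.a8 + x.b4 * x.a7 + x.a5 * x.b8 + x.b2 * P.σ x.a7 + x.a2 * x.b8 * x.a8 + x.a2 * P.σ x.a8 +
      x.b4 * x.b6 * x.b8 + x.b6 * P.σ x.b6 + x.a1 * P.σ x.a7 * x.b8 + P.σ x.a1 * x.a7 * x.a8 +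
      P.σ x.b2 * x.a7 * x.b8 + x.a3 * x.b8 * P.σ x.b8 + P.σ x.a1 * x.b2 * x.a8 ^ 2 + P.σ x.a1 * x.b6 * x.b8 * x.a8 +
      P.σ x.a1 * x.b6 * P.σ x.a8 + x.b2 * P.σ x.b2 * x.b8 * x.a8 + x.b2 * P.σ x.b6 * P.σ x.b8 +
      x.a2 * x.b8 ^ 2 * P.σ x.b8 + x.a1 * P.σ x.a1 * x.b8 * x.a8 ^ 2 + x.a1 * P.σ x.b2 * x.b8 * P.σ x.a8 +
      x.a1 * P.σ x.b6 * x.b8 * P.σ x.b8 + P.σ x.a1 * x.a7 * x.b8 * P.σ x.b8 +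
      P.σ x.a1 * x.b2 * P.σ x.b8 * P.σ x.a8 + P.σ x.a1 * x.b6 * x.b8 ^ 2 * P.σ x.b8 +
      x.a1 * P.σ x.a1 * x.b8 * P.σ x.b8 * P.σ x.a8 + x.a1 * P.σ x.b2 * x.b8 ^ 3 * P.σ x.b8 +
      P.σ x.a1 * x.b2 * x.b8 ^ 2 * P.σ x.b8 ^ 2 + x.a1 * P.σ x.a1 * x.b8 ^ 3 * P.σ x.b8 ^ 2
    a7 := x.a7 + x.b2 * x.a8 + x.b6 * x.b8 + x.a1 * x.b8 * x.a8 + x.a1 * P.σ x.a8 + x.b2 * x.b8 * P.σ x.b8 +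
      x.a1 * x.b8 ^ 2 * P.σ x.b8
    b8 := x.b8
    a8 := x.a8 + x.b8 * P.σ x.b8 }⟩

@[simp] theorem one_a1 : (1 : UO P).a1 = 0 := rfl
@[simp] theorem one_b2 : (1 : UO P).b2 = 0 := rfl
@[simp] theorem one_a2 : (1 : UO P).a2 = 0 := rfl
@[simp] theorem one_a3 : (1 : UO P).a3 = 0 := rfl
@[simp] theorem one_b4 : (1 : UO P).b4 = 0 := rfl
@[simp] theorem one_a4 : (1 : UO P).a4 = 0 := rfl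
@[simp] theorem one_a5 : (1 : UO P).a5 = 0 := rfl
@[simp] theorem one_b6 : (1 : UO P).b6 = 0 := rfl
@[simp] theorem one_a6 : (1 : UO P).a6 = 0 := rfl
@[simp] theorem one_a7 : (1 : UO P).a7 = 0 := rfl
@[simp] theorem one_b8 : (1 : UO P).b8 = 0 := rfl
@[simp] theorem one_a8 : (1 : UO P).a8 = 0 := rfl

@[simp] theorem mul_a1 (x y : UO P) : (x * y).a1 =
      x.a1 + y.a1 := rfl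
@[simp] theorem mul_b2 (x y : UO P) : (x * y).b2 =
      x.b2 + y.b2 + x.b8 * y.a1 := rfl
@[simp] theorem mul_a2 (x y : UO P) : (x * y).a2 =
      x.a2 + y.a2 + x.b4 * y.a1 + x.b2 * P.σ y.b2 + x.b6 * P.σ y.a1 + x.b8 * y.a1 * P.σ y.b2 +
      x.a8 * y.a1 * P.σ y.a1 + x.b2 * P.σ x.b8 * P.σ y.a1 := rfl
@[simp] theorem mul_a3 (x y : UO P) : (x * y).a3 =
      x.a3 + y.a3 + x.b4 * y.b2 + x.b8 * y.a2 + x.b4 * x.b8 * y.a1 + P.σ x.b6 * y.a1 + x.a7 * P.σ y.a1 +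
      x.b8 * y.b2 * P.σ y.b2 + x.a8 * P.σ y.a1 * y.b2 + x.b8 * x.a8 * y.a1 * P.σ y.a1 + P.σ x.a8 * y.a1 * P.σ y.a1 +
      x.b8 ^ 2 * P.σ x.b8 * y.a1 * P.σ y.a1 := rfl
@[simp] theorem mul_b4 (x y : UO P) : (x * y).b4 =
      x.b4 + y.b4 + x.b8 * P.σ y.b2 + x.a8 * P.σ y.a1 := rfl
@[simp] theorem mul_a4 (x y : UO P) : (x * y).a4 =
      x.a4 + y.a4 + x.a5 * y.b2 + x.b6 * y.a3 + x.a6 * y.a1 + x.a7 * y.a2 + x.b4 * P.σ y.b4 + x.a5 * x.b8 * y.a1 +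
      x.b6 * x.b8 * y.a2 + x.b8 * P.σ y.a3 + x.a8 * y.a1 * y.a3 + x.a8 * y.b2 * y.a2 + x.a8 * P.σ y.a2 +
      x.b6 * x.a7 * P.σ y.a1 + x.a7 * y.b2 * P.σ y.b2 + P.σ x.a7 * y.a1 * y.b2 + P.σ x.b8 * y.b2 * y.a3 +
      P.σ x.a8 * y.a1 * y.a2 + x.b4 * P.σ x.b8 * y.b2 ^ 2 + x.b4 * P.σ x.a8 * y.a1 ^ 2 +
      x.b6 * x.b8 * y.b2 * P.σ y.b2 + x.b6 * x.a8 * P.σ y.a1 * y.b2 + x.a7 * x.a8 * y.a1 * P.σ y.a1 +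
      P.σ x.a7 * x.b8 * y.a1 ^ 2 + x.b8 * P.σ x.b8 * y.a1 * y.a3 + x.b8 * P.σ x.b8 * y.b2 * y.a2 +
      x.b8 * P.σ y.b2 * P.σ y.b4 + x.a8 * P.σ y.a1 * P.σ y.b4 + x.a8 * y.b2 ^ 2 * P.σ y.b2 +
      x.b6 * x.b8 * x.a8 * y.a1 * P.σ y.a1 + x.b6 * P.σ x.a8 * y.a1 * P.σ y.a1 + x.a7 * P.σ x.b8 * P.σ y.a1 * y.b2 +
      x.a8 ^ 2 * y.a1 * P.σ y.a1 * y.b2 + P.σ x.a8 * y.a1 * y.b2 * P.σ y.b2 +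
      x.a7 * x.b8 * P.σ x.b8 * y.a1 * P.σ y.a1 + x.b8 * P.σ x.b8 * y.b2 ^ 2 * P.σ y.b2 +
      x.b8 * x.a8 ^ 2 * y.a1 ^ 2 * P.σ y.a1 + P.σ x.b8 * x.a8 * P.σ y.a1 * y.b2 ^ 2 +
      x.a8 * P.σ x.a8 * y.a1 ^ 2 * P.σ y.a1 + x.b6 * x.b8 ^ 2 * P.σ x.b8 * y.a1 * P.σ y.a1 +
      P.σ x.b8 * P.σ x.a8 * y.a1 * P.σ y.a1 * y.b2 + x.b8 * P.σ x.b8 * P.σ x.a8 * y.a1 ^ 2 * P.σ y.a1 +
      x.b8 ^ 2 * P.σ x.b8 ^ 2 * y.a1 * P.σ y.a1 * y.b2 + x.b8 ^ 3 * P.σ x.b8 ^ 2 * y.a1 ^ 2 * P.σ y.a1 := rfl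
@[simp] theorem mul_a5 (x y : UO P) : (x * y).a5 =
      x.a5 + y.a5 + x.b6 * y.b4 + x.a8 * y.a2 + x.a7 * P.σ y.b2 + P.σ x.a7 * y.a1 + P.σ x.b8 * y.a3 +
      x.a8 * y.a1 * y.b4 + x.b6 * x.b8 * P.σ y.b2 + x.b6 * x.a8 * P.σ y.a1 + x.b8 * P.σ x.b8 * y.a2 +
      P.σ x.b8 * y.b2 * y.b4 + x.a7 * P.σ x.b8 * P.σ y.a1 + x.b8 * P.σ x.b8 * y.a1 * y.b4 +
      x.a8 ^ 2 * y.a1 * P.σ y.a1 + P.σ x.a8 * y.a1 * P.σ y.b2 + P.σ x.b8 * P.σ x.a8 * y.a1 * P.σ y.a1 +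
      x.b8 ^ 2 * P.σ x.b8 ^ 2 * y.a1 * P.σ y.a1 := rfl
@[simp] theorem mul_b6 (x y : UO P) : (x * y).b6 =
      x.b6 + y.b6 + x.a8 * y.a1 + P.σ x.b8 * y.b2 + x.b8 * P.σ x.b8 * y.a1 := rfl
@[simp] theorem mul_a6 (x y : UO P) : (x * y).a6 =
      x.a6 + y.a6 + x.a7 * y.b4 + x.b8 * y.a5 + x.a8 * y.a3 + x.b6 * P.σ y.b6 + P.σ x.a7 * y.b2 +
      x.b8 * x.a8 * y.a2 + x.a8 * y.b2 * y.b4 + P.σ x.a8 * y.a2 + x.a7 * x.b8 * P.σ y.b2 + x.a7 * x.a8 * P.σ y.a1 +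
      P.σ x.a7 * x.b8 * y.a1 + x.b8 * x.a8 * y.a1 * y.b4 + x.a8 * y.a1 * P.σ y.b6 + P.σ x.a8 * y.a1 * y.b4 +
      x.b6 * x.b8 ^ 2 * P.σ y.b2 + x.b6 * P.σ x.a8 * P.σ y.a1 + x.b8 ^ 2 * P.σ x.b8 * y.a2 +
      P.σ x.b8 * y.b2 * P.σ y.b6 + x.a8 ^ 2 * P.σ y.a1 * y.b2 + P.σ x.a8 * y.b2 * P.σ y.b2 +
      x.b8 ^ 2 * P.σ x.b8 * y.a1 * y.b4 + x.b8 * P.σ x.b8 * y.a1 * P.σ y.b6 + x.b8 * x.a8 ^ 2 * y.a1 * P.σ y.a1 +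
      x.b8 * P.σ x.a8 * y.a1 * P.σ y.b2 + x.b6 * x.b8 ^ 2 * P.σ x.b8 * P.σ y.a1 +
      P.σ x.b8 * P.σ x.a8 * P.σ y.a1 * y.b2 + x.b8 * P.σ x.b8 * P.σ x.a8 * y.a1 * P.σ y.a1 +
      x.b8 ^ 2 * P.σ x.b8 ^ 2 * P.σ y.a1 * y.b2 + x.b8 ^ 3 * P.σ x.b8 ^ 2 * y.a1 * P.σ y.a1 := rfl
@[simp] theorem mul_a7 (x y : UO P) : (x * y).a7 =
      x.a7 + y.a7 + x.b8 * y.b6 + x.a8 * y.b2 + x.b8 * x.a8 * y.a1 + P.σ x.a8 * y.a1 + x.b8 ^ 2 * P.σ x.b8 * y.a1 := rfl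
@[simp] theorem mul_b8 (x y : UO P) : (x * y).b8 =
      x.b8 + y.b8 := rfl
@[simp] theorem mul_a8 (x y : UO P) : (x * y).a8 =
      x.a8 + y.a8 + x.b8 * P.σ y.b8 := rfl

@[simp] theorem inv_a1 (x : UO P) : (x⁻¹).a1 =
      x.a1 := rfl
@[simp] theorem inv_b2 (x : UO P) : (x⁻¹).b2 =
      x.b2 + x.a1 * x.b8 := rfl
@[simp] theorem inv_a2 (x : UO P) : (x⁻¹).a2 =
      x.a2 + x.a1 * x.b4 + P.σ x.a1 * x.b6 + x.b2 * P.σ x.b2 + x.a1 * P.σ x.a1 * x.a8 + x.a1 * P.σ x.b2 * x.b8 +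
      x.a1 * P.σ x.a1 * x.b8 * P.σ x.b8 := rfl
@[simp] theorem inv_a3 (x : UO P) : (x⁻¹).a3 =
      x.a3 + x.b2 * x.b4 + x.a2 * x.b8 + x.a1 * x.b4 * x.b8 + x.a1 * P.σ x.b6 + P.σ x.a1 * x.a7 +
      P.σ x.a1 * x.b2 * x.a8 + P.σ x.a1 * x.b6 * x.b8 + x.a1 * P.σ x.a1 * x.b8 * x.a8 + x.a1 * P.σ x.a1 * P.σ x.a8 +
      P.σ x.a1 * x.b2 * x.b8 * P.σ x.b8 + x.a1 * P.σ x.a1 * x.b8 ^ 2 * P.σ x.b8 := rfl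
@[simp] theorem inv_b4 (x : UO P) : (x⁻¹).b4 =
      x.b4 + P.σ x.a1 * x.a8 + P.σ x.b2 * x.b8 + P.σ x.a1 * x.b8 * P.σ x.b8 := rfl
@[simp] theorem inv_a4 (x : UO P) : (x⁻¹).a4 =
      x.a4 + x.a1 * x.a6 + x.b2 * x.a5 + x.a2 * x.a7 + x.a3 * x.b6 + x.a1 * x.a3 * x.a8 + x.a1 * x.b4 * x.a7 +
      x.b2 * x.a2 * x.a8 + x.b2 * x.b4 * x.b6 + P.σ x.a2 * x.a8 + P.σ x.a3 * x.b8 + x.b4 * P.σ x.b4 +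
      x.a1 * x.b2 * P.σ x.a7 + x.a1 * x.a2 * P.σ x.a8 + x.a1 * x.b6 * P.σ x.b6 + P.σ x.a1 * x.b6 * x.a7 +
      x.b2 * x.a3 * P.σ x.b8 + x.a1 ^ 2 * x.b4 * P.σ x.a8 + x.a1 ^ 2 * P.σ x.a7 * x.b8 +
      x.a1 * P.σ x.a1 * x.a7 * x.a8 + P.σ x.a1 * x.b2 * x.b6 * x.a8 + P.σ x.a1 * x.b6 ^ 2 * x.b8 +
      x.b2 ^ 2 * P.σ x.b2 * x.a8 + x.b2 ^ 2 * x.b4 * P.σ x.b8 + P.σ x.a2 * x.b8 * P.σ x.b8 +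
      x.a1 * P.σ x.a1 * x.b2 * x.a8 ^ 2 + x.a1 * P.σ x.a1 * x.b6 * P.σ x.a8 + x.a1 * x.b2 * P.σ x.b6 * P.σ x.b8 +
      x.a1 * x.a2 * x.b8 ^ 2 * P.σ x.b8 + P.σ x.a1 * x.b2 * x.a7 * P.σ x.b8 +
      x.a1 ^ 2 * P.σ x.a1 * x.b8 * x.a8 ^ 2 + x.a1 ^ 2 * P.σ x.a1 * x.a8 * P.σ x.a8 +
      x.a1 ^ 2 * x.b4 * x.b8 ^ 2 * P.σ x.b8 + x.a1 ^ 2 * P.σ x.b6 * x.b8 * P.σ x.b8 +
      P.σ x.a1 * x.b2 ^ 2 * P.σ x.b8 * x.a8 + x.b2 ^ 2 * P.σ x.b2 * x.b8 * P.σ x.b8 +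
      x.a1 * P.σ x.a1 * x.b2 * P.σ x.b8 * P.σ x.a8 + x.a1 * P.σ x.a1 * x.b6 * x.b8 ^ 2 * P.σ x.b8 +
      x.a1 ^ 2 * P.σ x.a1 * x.b8 ^ 2 * P.σ x.b8 * x.a8 + P.σ x.a1 * x.b2 ^ 2 * x.b8 * P.σ x.b8 ^ 2 +
      x.a1 * P.σ x.a1 * x.b2 * x.b8 ^ 2 * P.σ x.b8 ^ 2 := rfl
@[simp] theorem inv_a5 (x : UO P) : (x⁻¹).a5 =
      x.a5 + x.a2 * x.a8 + x.b4 * x.b6 + x.a1 * P.σ x.a7 + P.σ x.b2 * x.a7 + x.a3 * P.σ x.b8 +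
      P.σ x.a1 * x.b6 * x.a8 + x.b2 * P.σ x.b2 * x.a8 + x.a1 * P.σ x.a1 * x.a8 ^ 2 + x.a1 * P.σ x.b2 * P.σ x.a8 +
      x.a1 * P.σ x.b6 * P.σ x.b8 + P.σ x.a1 * x.a7 * P.σ x.b8 + x.a1 * P.σ x.a1 * P.σ x.b8 * P.σ x.a8 +
      x.a1 * P.σ x.b2 * x.b8 ^ 2 * P.σ x.b8 + x.a1 * P.σ x.a1 * x.b8 ^ 2 * P.σ x.b8 ^ 2 := rfl
@[simp] theorem inv_b6 (x : UO P) : (x⁻¹).b6 =
      x.b6 + x.a1 * x.a8 + x.b2 * P.σ x.b8 := rfl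
@[simp] theorem inv_a6 (x : UO P) : (x⁻¹).a6 =
      x.a6 + x.a3 * x.a8 + x.b4 * x.a7 + x.a5 * x.b8 + x.b2 * P.σ x.a7 + x.a2 * x.b8 * x.a8 + x.a2 * P.σ x.a8 +
      x.b4 * x.b6 * x.b8 + x.b6 * P.σ x.b6 + x.a1 * P.σ x.a7 * x.b8 + P.σ x.a1 * x.a7 * x.a8 +
      P.σ x.b2 * x.a7 * x.b8 + x.a3 * x.b8 * P.σ x.b8 + P.σ x.a1 * x.b2 * x.a8 ^ 2 + P.σ x.a1 * x.b6 * x.b8 * x.a8 +
      P.σ x.a1 * x.b6 * P.σ x.a8 + x.b2 * P.σ x.b2 * x.b8 * x.a8 + x.b2 * P.σ x.b6 * P.σ x.b8 +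
      x.a2 * x.b8 ^ 2 * P.σ x.b8 + x.a1 * P.σ x.a1 * x.b8 * x.a8 ^ 2 + x.a1 * P.σ x.b2 * x.b8 * P.σ x.a8 +
      x.a1 * P.σ x.b6 * x.b8 * P.σ x.b8 + P.σ x.a1 * x.a7 * x.b8 * P.σ x.b8 +
      P.σ x.a1 * x.b2 * P.σ x.b8 * P.σ x.a8 + P.σ x.a1 * x.b6 * x.b8 ^ 2 * P.σ x.b8 +
      x.a1 * P.σ x.a1 * x.b8 * P.σ x.b8 * P.σ x.a8 + x.a1 * P.σ x.b2 * x.b8 ^ 3 * P.σ x.b8 +
      P.σ x.a1 * x.b2 * x.b8 ^ 2 * P.σ x.b8 ^ 2 + x.a1 * P.σ x.a1 * x.b8 ^ 3 * P.σ x.b8 ^ 2 := rfl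
@[simp] theorem inv_a7 (x : UO P) : (x⁻¹).a7 =
      x.a7 + x.b2 * x.a8 + x.b6 * x.b8 + x.a1 * x.b8 * x.a8 + x.a1 * P.σ x.a8 + x.b2 * x.b8 * P.σ x.b8 +
      x.a1 * x.b8 ^ 2 * P.σ x.b8 := rfl
@[simp] theorem inv_b8 (x : UO P) : (x⁻¹).b8 =
      x.b8 := rfl
@[simp] theorem inv_a8 (x : UO P) : (x⁻¹).a8 =
      x.a8 + x.b8 * P.σ x.b8 := rfl

variable [CharP K 2]

theorem assoc_a1 (x y z : UO P) : (x * y * z).a1 = (x * (y * z)).a1 := by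
  simp only [mul_a1, mul_b2, mul_a2, mul_a3, mul_b4, mul_a4, mul_a5, mul_b6, mul_a6, mul_a7, mul_b8, mul_a8,
    map_add, map_mul, map_pow, P.sq]
  grind

theorem assoc_b2 (x y z : UO P) : (x * y * z).b2 = (x * (y * z)).b2 := by
  simp only [mul_a1, mul_b2, mul_a2, mul_a3, mul_b4, mul_a4, mul_a5, mul_b6, mul_a6, mul_a7, mul_b8, mul_a8,
    map_add, map_mul, map_pow, P.sq]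
  grind

theorem assoc_a2 (x y z : UO P) : (x * y * z).a2 = (x * (y * z)).a2 := by
  simp only [mul_a1, mul_b2, mul_a2, mul_a3, mul_b4, mul_a4, mul_a5, mul_b6, mul_a6, mul_a7, mul_b8, mul_a8,
    map_add, map_mul, map_pow, P.sq]
  grind

theorem assoc_a3 (x y z : UO P) : (x * y * z).a3 = (x * (y * z)).a3 := by
  simp only [mul_a1, mul_b2, mul_a2, mul_a3, mul_b4, mul_a4, mul_a5, mul_b6, mul_a6, mul_a7, mul_b8, mul_a8,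
    map_add, map_mul, map_pow, P.sq]
  grind

theorem assoc_b4 (x y z : UO P) : (x * y * z).b4 = (x * (y * z)).b4 := by
  simp only [mul_a1, mul_b2, mul_a2, mul_a3, mul_b4, mul_a4, mul_a5, mul_b6, mul_a6, mul_a7, mul_b8, mul_a8,
    map_add, map_mul, map_pow, P.sq]
  grind

theorem assoc_a4 (x y z : UO P) : (x * y * z).a4 = (x * (y * z)).a4 := by
  simp only [mul_a1, mul_b2, mul_a2, mul_a3, mul_b4, mul_a4, mul_a5, mul_b6, mul_a6, mul_a7, mul_b8, mul_a8,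
    map_add, map_mul, map_pow, P.sq]
  grind

theorem assoc_a5 (x y z : UO P) : (x * y * z).a5 = (x * (y * z)).a5 := by
  simp only [mul_a1, mul_b2, mul_a2, mul_a3, mul_b4, mul_a4, mul_a5, mul_b6, mul_a6, mul_a7, mul_b8, mul_a8,
    map_add, map_mul, map_pow, P.sq]
  grind

theorem assoc_b6 (x y z : UO P) : (x * y * z).b6 = (x * (y * z)).b6 := by
  simp only [mul_a1, mul_b2, mul_a2, mul_a3, mul_b4, mul_a4, mul_a5, mul_b6, mul_a6, mul_a7, mul_b8, mul_a8,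
    map_add, map_mul, map_pow, P.sq]
  grind

theorem assoc_a6 (x y z : UO P) : (x * y * z).a6 = (x * (y * z)).a6 := by
  simp only [mul_a1, mul_b2, mul_a2, mul_a3, mul_b4, mul_a4, mul_a5, mul_b6, mul_a6, mul_a7, mul_b8, mul_a8,
    map_add, map_mul, map_pow, P.sq]
  grind

theorem assoc_a7 (x y z : UO P) : (x * y * z).a7 = (x * (y * z)).a7 := by
  simp only [mul_a1, mul_b2, mul_a2, mul_a3, mul_b4, mul_a4, mul_a5, mul_b6, mul_a6, mul_a7, mul_b8, mul_a8,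
    map_add, map_mul, map_pow, P.sq]
  grind

theorem assoc_b8 (x y z : UO P) : (x * y * z).b8 = (x * (y * z)).b8 := by
  simp only [mul_a1, mul_b2, mul_a2, mul_a3, mul_b4, mul_a4, mul_a5, mul_b6, mul_a6, mul_a7, mul_b8, mul_a8,
    map_add, map_mul, map_pow, P.sq]
  grind

theorem assoc_a8 (x y z : UO P) : (x * y * z).a8 = (x * (y * z)).a8 := by
  simp only [mul_a1, mul_b2, mul_a2, mul_a3, mul_b4, mul_a4, mul_a5, mul_b6, mul_a6, mul_a7, mul_b8, mul_a8,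
    map_add, map_mul, map_pow, P.sq]
  grind

instance : Group (UO P) :=
  Group.ofLeftAxioms
    (fun x y z => UO.ext (assoc_a1 x y z) (assoc_b2 x y z) (assoc_a2 x y z) (assoc_a3 x y z) (assoc_b4 x y z) (assoc_a4 x y z)
      (assoc_a5 x y z) (assoc_b6 x y z) (assoc_a6 x y z) (assoc_a7 x y z) (assoc_b8 x y z) (assoc_a8 x y z))
    (fun x => by ext <;> simp)
    (fun x => by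
      ext <;> simp only [mul_a1, mul_b2, mul_a2, mul_a3, mul_b4, mul_a4, mul_a5, mul_b6, mul_a6, mul_a7, mul_b8, mul_a8,
        inv_a1, inv_b2, inv_a2, inv_a3, inv_b4, inv_a4, inv_a5, inv_b6, inv_a6, inv_a7, inv_b8, inv_a8,
        one_a1, one_b2, one_a2, one_a3, one_b4, one_a4, one_a5, one_b6, one_a6, one_a7, one_b8, one_a8, map_add, map_mul, map_pow, P.sq] <;> grind)

end UO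

end CL.Oct
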