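/-
Root elements, coordinate subgroups, reflections and the torus of the coordinate group `UO`.
-/
import Cfsg.Agent.Oct.U0

set_option autoImplicit false
set_option linter.unusedSimpArgs false
set_option linter.unusedSectionVars false
set_option maxRecDepth 20000

namespace CL.Oct

namespace UO

variable {K : Type*} [Field K] {P : Par K} [CharP K 2]

/-! ### root elements -/

def x1 (t : K) : UO P := ⟨t, 0, 0, 0, 0, 0, 0, 0, 0, 0, 0, 0⟩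
def y2 (t : K) : UO P := ⟨0, t, 0, 0, 0, 0, 0, 0, 0, 0, 0, 0⟩
def x2 (t : K) : UO P := ⟨0, 0, t, 0, 0, 0, 0, 0, 0, 0, 0, 0⟩
def x3 (t : K) : UO P := ⟨0, 0, 0, t, 0, 0, 0, 0, 0, 0, 0, 0⟩
def y4 (t : K) : UO P := ⟨0, 0, 0, 0, t, 0, 0, 0, 0, 0, 0, 0⟩
def x4 (t : K) : UO P := ⟨0, 0, 0, 0, 0, t, 0, 0, 0, 0, 0, 0⟩
def x5 (t : K) : UO P := ⟨0, 0, 0, 0, 0, 0, t, 0, 0, 0, 0, 0⟩
def y6 (t : K) : UO P := ⟨0, 0, 0, 0, 0, 0, 0, t, 0, 0, 0, 0⟩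
def x6 (t : K) : UO P := ⟨0, 0, 0, 0, 0, 0, 0, 0, t, 0, 0, 0⟩
def x7 (t : K) : UO P := ⟨0, 0, 0, 0, 0, 0, 0, 0, 0, t, 0, 0⟩
def y8 (t : K) : UO P := ⟨0, 0, 0, 0, 0, 0, 0, 0, 0, 0, t, 0⟩
def x8 (t : K) : UO P := ⟨0, 0, 0, 0, 0, 0, 0, 0, 0, 0, 0, t⟩

@[simp] theorem x1_a1 (t : K) : (x1 t : UO P).a1 = t := rfl
@[simp] theorem x1_b2 (t : K) : (x1 t : UO P).b2 = 0 := rfl
@[simp] theorem x1_a2 (t : K) : (x1 t : UO P).a2 = 0 := rfl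
@[simp] theorem x1_a3 (t : K) : (x1 t : UO P).a3 = 0 := rfl
@[simp] theorem x1_b4 (t : K) : (x1 t : UO P).b4 = 0 := rfl
@[simp] theorem x1_a4 (t : K) : (x1 t : UO P).a4 = 0 := rfl
@[simp] theorem x1_a5 (t : K) : (x1 t : UO P).a5 = 0 := rfl
@[simp] theorem x1_b6 (t : K) : (x1 t : UO P).b6 = 0 := rfl
@[simp] theorem x1_a6 (t : K) : (x1 t : UO P).a6 = 0 := rfl
@[simp] theorem x1_a7 (t : K) : (x1 t : UO P).a7 = 0 := rfl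
@[simp] theorem x1_b8 (t : K) : (x1 t : UO P).b8 = 0 := rfl
@[simp] theorem x1_a8 (t : K) : (x1 t : UO P).a8 = 0 := rfl
@[simp] theorem y2_a1 (t : K) : (y2 t : UO P).a1 = 0 := rfl
@[simp] theorem y2_b2 (t : K) : (y2 t : UO P).b2 = t := rfl
@[simp] theorem y2_a2 (t : K) : (y2 t : UO P).a2 = 0 := rfl
@[simp] theorem y2_a3 (t : K) : (y2 t : UO P).a3 = 0 := rfl
@[simp] theorem y2_b4 (t : K) : (y2 t : UO P).b4 = 0 := rfl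
@[simp] theorem y2_a4 (t : K) : (y2 t : UO P).a4 = 0 := rfl
@[simp] theorem y2_a5 (t : K) : (y2 t : UO P).a5 = 0 := rfl
@[simp] theorem y2_b6 (t : K) : (y2 t : UO P).b6 = 0 := rfl
@[simp] theorem y2_a6 (t : K) : (y2 t : UO P).a6 = 0 := rfl
@[simp] theorem y2_a7 (t : K) : (y2 t : UO P).a7 = 0 := rfl
@[simp] theorem y2_b8 (t : K) : (y2 t : UO P).b8 = 0 := rfl
@[simp] theorem y2_a8 (t : K) : (y2 t : UO P).a8 = 0 := rfl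
@[simp] theorem x2_a1 (t : K) : (x2 t : UO P).a1 = 0 := rfl
@[simp] theorem x2_b2 (t : K) : (x2 t : UO P).b2 = 0 := rfl
@[simp] theorem x2_a2 (t : K) : (x2 t : UO P).a2 = t := rfl
@[simp] theorem x2_a3 (t : K) : (x2 t : UO P).a3 = 0 := rfl
@[simp] theorem x2_b4 (t : K) : (x2 t : UO P).b4 = 0 := rfl
@[simp] theorem x2_a4 (t : K) : (x2 t : UO P).a4 = 0 := rfl
@[simp] theorem x2_a5 (t : K) : (x2 t : UO P).a5 = 0 := rfl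
@[simp] theorem x2_b6 (t : K) : (x2 t : UO P).b6 = 0 := rfl
@[simp] theorem x2_a6 (t : K) : (x2 t : UO P).a6 = 0 := rfl
@[simp] theorem x2_a7 (t : K) : (x2 t : UO P).a7 = 0 := rfl
@[simp] theorem x2_b8 (t : K) : (x2 t : UO P).b8 = 0 := rfl
@[simp] theorem x2_a8 (t : K) : (x2 t : UO P).a8 = 0 := rfl
@[simp] theorem x3_a1 (t : K) : (x3 t : UO P).a1 = 0 := rfl
@[simp] theorem x3_b2 (t : K) : (x3 t : UO P).b2 = 0 := rfl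
@[simp] theorem x3_a2 (t : K) : (x3 t : UO P).a2 = 0 := rfl
@[simp] theorem x3_a3 (t : K) : (x3 t : UO P).a3 = t := rfl
@[simp] theorem x3_b4 (t : K) : (x3 t : UO P).b4 = 0 := rfl
@[simp] theorem x3_a4 (t : K) : (x3 t : UO P).a4 = 0 := rfl
@[simp] theorem x3_a5 (t : K) : (x3 t : UO P).a5 = 0 := rfl
@[simp] theorem x3_b6 (t : K) : (x3 t : UO P).b6 = 0 := rfl
@[simp] theorem x3_a6 (t : K) : (x3 t : UO P).a6 = 0 := rfl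
@[simp] theorem x3_a7 (t : K) : (x3 t : UO P).a7 = 0 := rfl
@[simp] theorem x3_b8 (t : K) : (x3 t : UO P).b8 = 0 := rfl
@[simp] theorem x3_a8 (t : K) : (x3 t : UO P).a8 = 0 := rfl
@[simp] theorem y4_a1 (t : K) : (y4 t : UO P).a1 = 0 := rfl
@[simp] theorem y4_b2 (t : K) : (y4 t : UO P).b2 = 0 := rfl
@[simp] theorem y4_a2 (t : K) : (y4 t : UO P).a2 = 0 := rfl
@[simp] theorem y4_a3 (t : K) : (y4 t : UO P).a3 = 0 := rfl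
@[simp] theorem y4_b4 (t : K) : (y4 t : UO P).b4 = t := rfl
@[simp] theorem y4_a4 (t : K) : (y4 t : UO P).a4 = 0 := rfl
@[simp] theorem y4_a5 (t : K) : (y4 t : UO P).a5 = 0 := rfl
@[simp] theorem y4_b6 (t : K) : (y4 t : UO P).b6 = 0 := rfl
@[simp] theorem y4_a6 (t : K) : (y4 t : UO P).a6 = 0 := rfl
@[simp] theorem y4_a7 (t : K) : (y4 t : UO P).a7 = 0 := rfl
@[simp] theorem y4_b8 (t : K) : (y4 t : UO P).b8 = 0 := rfl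
@[simp] theorem y4_a8 (t : K) : (y4 t : UO P).a8 = 0 := rfl
@[simp] theorem x4_a1 (t : K) : (x4 t : UO P).a1 = 0 := rfl
@[simp] theorem x4_b2 (t : K) : (x4 t : UO P).b2 = 0 := rfl
@[simp] theorem x4_a2 (t : K) : (x4 t : UO P).a2 = 0 := rfl
@[simp] theorem x4_a3 (t : K) : (x4 t : UO P).a3 = 0 := rfl
@[simp] theorem x4_b4 (t : K) : (x4 t : UO P).b4 = 0 := rfl
@[simp] theorem x4_a4 (t : K) : (x4 t : UO P).a4 = t := rfl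
@[simp] theorem x4_a5 (t : K) : (x4 t : UO P).a5 = 0 := rfl
@[simp] theorem x4_b6 (t : K) : (x4 t : UO P).b6 = 0 := rfl
@[simp] theorem x4_a6 (t : K) : (x4 t : UO P).a6 = 0 := rfl
@[simp] theorem x4_a7 (t : K) : (x4 t : UO P).a7 = 0 := rfl
@[simp] theorem x4_b8 (t : K) : (x4 t : UO P).b8 = 0 := rfl
@[simp] theorem x4_a8 (t : K) : (x4 t : UO P).a8 = 0 := rfl
@[simp] theorem x5_a1 (t : K) : (x5 t : UO P).a1 = 0 := rfl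
@[simp] theorem x5_b2 (t : K) : (x5 t : UO P).b2 = 0 := rfl
@[simp] theorem x5_a2 (t : K) : (x5 t : UO P).a2 = 0 := rfl
@[simp] theorem x5_a3 (t : K) : (x5 t : UO P).a3 = 0 := rfl
@[simp] theorem x5_b4 (t : K) : (x5 t : UO P).b4 = 0 := rfl
@[simp] theorem x5_a4 (t : K) : (x5 t : UO P).a4 = 0 := rfl
@[simp] theorem x5_a5 (t : K) : (x5 t : UO P).a5 = t := rfl
@[simp] theorem x5_b6 (t : K) : (x5 t : UO P).b6 = 0 := rfl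
@[simp] theorem x5_a6 (t : K) : (x5 t : UO P).a6 = 0 := rfl
@[simp] theorem x5_a7 (t : K) : (x5 t : UO P).a7 = 0 := rfl
@[simp] theorem x5_b8 (t : K) : (x5 t : UO P).b8 = 0 := rfl
@[simp] theorem x5_a8 (t : K) : (x5 t : UO P).a8 = 0 := rfl
@[simp] theorem y6_a1 (t : K) : (y6 t : UO P).a1 = 0 := rfl
@[simp] theorem y6_b2 (t : K) : (y6 t : UO P).b2 = 0 := rfl
@[simp] theorem y6_a2 (t : K) : (y6 t : UO P).a2 = 0 := rfl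
@[simp] theorem y6_a3 (t : K) : (y6 t : UO P).a3 = 0 := rfl
@[simp] theorem y6_b4 (t : K) : (y6 t : UO P).b4 = 0 := rfl
@[simp] theorem y6_a4 (t : K) : (y6 t : UO P).a4 = 0 := rfl
@[simp] theorem y6_a5 (t : K) : (y6 t : UO P).a5 = 0 := rfl
@[simp] theorem y6_b6 (t : K) : (y6 t : UO P).b6 = t := rfl
@[simp] theorem y6_a6 (t : K) : (y6 t : UO P).a6 = 0 := rfl
@[simp] theorem y6_a7 (t : K) : (y6 t : UO P).a7 = 0 := rfl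
@[simp] theorem y6_b8 (t : K) : (y6 t : UO P).b8 = 0 := rfl
@[simp] theorem y6_a8 (t : K) : (y6 t : UO P).a8 = 0 := rfl
@[simp] theorem x6_a1 (t : K) : (x6 t : UO P).a1 = 0 := rfl
@[simp] theorem x6_b2 (t : K) : (x6 t : UO P).b2 = 0 := rfl
@[simp] theorem x6_a2 (t : K) : (x6 t : UO P).a2 = 0 := rfl
@[simp] theorem x6_a3 (t : K) : (x6 t : UO P).a3 = 0 := rfl
@[simp] theorem x6_b4 (t : K) : (x6 t : UO P).b4 = 0 := rfl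
@[simp] theorem x6_a4 (t : K) : (x6 t : UO P).a4 = 0 := rfl
@[simp] theorem x6_a5 (t : K) : (x6 t : UO P).a5 = 0 := rfl
@[simp] theorem x6_b6 (t : K) : (x6 t : UO P).b6 = 0 := rfl
@[simp] theorem x6_a6 (t : K) : (x6 t : UO P).a6 = t := rfl
@[simp] theorem x6_a7 (t : K) : (x6 t : UO P).a7 = 0 := rfl
@[simp] theorem x6_b8 (t : K) : (x6 t : UO P).b8 = 0 := rfl
@[simp] theorem x6_a8 (t : K) : (x6 t : UO P).a8 = 0 := rfl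
@[simp] theorem x7_a1 (t : K) : (x7 t : UO P).a1 = 0 := rfl
@[simp] theorem x7_b2 (t : K) : (x7 t : UO P).b2 = 0 := rfl
@[simp] theorem x7_a2 (t : K) : (x7 t : UO P).a2 = 0 := rfl
@[simp] theorem x7_a3 (t : K) : (x7 t : UO P).a3 = 0 := rfl
@[simp] theorem x7_b4 (t : K) : (x7 t : UO P).b4 = 0 := rfl
@[simp] theorem x7_a4 (t : K) : (x7 t : UO P).a4 = 0 := rfl
@[simp] theorem x7_a5 (t : K) : (x7 t : UO P).a5 = 0 := rfl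
@[simp] theorem x7_b6 (t : K) : (x7 t : UO P).b6 = 0 := rfl
@[simp] theorem x7_a6 (t : K) : (x7 t : UO P).a6 = 0 := rfl
@[simp] theorem x7_a7 (t : K) : (x7 t : UO P).a7 = t := rfl
@[simp] theorem x7_b8 (t : K) : (x7 t : UO P).b8 = 0 := rfl
@[simp] theorem x7_a8 (t : K) : (x7 t : UO P).a8 = 0 := rfl
@[simp] theorem y8_a1 (t : K) : (y8 t : UO P).a1 = 0 := rfl
@[simp] theorem y8_b2 (t : K) : (y8 t : UO P).b2 = 0 := rfl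
@[simp] theorem y8_a2 (t : K) : (y8 t : UO P).a2 = 0 := rfl
@[simp] theorem y8_a3 (t : K) : (y8 t : UO P).a3 = 0 := rfl
@[simp] theorem y8_b4 (t : K) : (y8 t : UO P).b4 = 0 := rfl
@[simp] theorem y8_a4 (t : K) : (y8 t : UO P).a4 = 0 := rfl
@[simp] theorem y8_a5 (t : K) : (y8 t : UO P).a5 = 0 := rfl
@[simp] theorem y8_b6 (t : K) : (y8 t : UO P).b6 = 0 := rfl
@[simp] theorem y8_a6 (t : K) : (y8 t : UO P).a6 = 0 := rfl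
@[simp] theorem y8_a7 (t : K) : (y8 t : UO P).a7 = 0 := rfl
@[simp] theorem y8_b8 (t : K) : (y8 t : UO P).b8 = t := rfl
@[simp] theorem y8_a8 (t : K) : (y8 t : UO P).a8 = 0 := rfl
@[simp] theorem x8_a1 (t : K) : (x8 t : UO P).a1 = 0 := rfl
@[simp] theorem x8_b2 (t : K) : (x8 t : UO P).b2 = 0 := rfl
@[simp] theorem x8_a2 (t : K) : (x8 t : UO P).a2 = 0 := rfl
@[simp] theorem x8_a3 (t : K) : (x8 t : UO P).a3 = 0 := rfl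
@[simp] theorem x8_b4 (t : K) : (x8 t : UO P).b4 = 0 := rfl
@[simp] theorem x8_a4 (t : K) : (x8 t : UO P).a4 = 0 := rfl
@[simp] theorem x8_a5 (t : K) : (x8 t : UO P).a5 = 0 := rfl
@[simp] theorem x8_b6 (t : K) : (x8 t : UO P).b6 = 0 := rfl
@[simp] theorem x8_a6 (t : K) : (x8 t : UO P).a6 = 0 := rfl
@[simp] theorem x8_a7 (t : K) : (x8 t : UO P).a7 = 0 := rfl
@[simp] theorem x8_b8 (t : K) : (x8 t : UO P).b8 = 0 := rfl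
@[simp] theorem x8_a8 (t : K) : (x8 t : UO P).a8 = t := rfl

theorem nf (x : UO P) : x = x1 x.a1 * y2 x.b2 * x2 x.a2 * x3 x.a3 * y4 x.b4 * x4 x.a4 *
    x5 x.a5 * y6 x.b6 * x6 x.a6 * x7 x.a7 * y8 x.b8 * x8 x.a8 := by
  ext <;> simp

/-! ### subgroups given by the vanishing of coordinates -/

def Zs (P : Par K) : Subgroup (UO P) where
  carrier := {x | x.a1 = 0 ∧ x.b2 = 0 ∧ x.a2 = 0 ∧ x.a3 = 0 ∧ x.b4 = 0 ∧ x.a5 = 0 ∧ x.b6 = 0 ∧ x.a6 = 0 ∧ x.a7 = 0 ∧ x.b8 = 0 ∧ x.a8 = 0}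
  one_mem' := by simp
  mul_mem' := by
    rintro x y ⟨h0, h1, h2, h3, h4, h5, h6, h7, h8, h9, h10⟩ ⟨k0, k1, k2, k3, k4, k5, k6, k7, k8, k9, k10⟩
    simp [h0, h1, h2, h3, h4, h5, h6, h7, h8, h9, h10, k0, k1, k2, k3, k4, k5, k6, k7, k8, k9, k10]
  inv_mem' := by
    rintro x ⟨h0, h1, h2, h3, h4, h5, h6, h7, h8, h9, h10⟩
    simp [h0, h1, h2, h3, h4, h5, h6, h7, h8, h9, h10]

@[simp] theorem mem_Zs {x : UO P} : x ∈ Zs P ↔ x.a1 = 0 ∧ x.b2 = 0 ∧ x.a2 = 0 ∧ x.a3 = 0 ∧ x.b4 = 0 ∧ x.a5 = 0 ∧ x.b6 = 0 ∧ x.a6 = 0 ∧ x.a7 = 0 ∧ x.b8 = 0 ∧ x.a8 = 0 := Iff.rfl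

def V6 (P : Par K) : Subgroup (UO P) where
  carrier := {x | x.a1 = 0 ∧ x.b2 = 0 ∧ x.a2 = 0 ∧ x.a3 = 0 ∧ x.b4 = 0 ∧ x.a4 = 0 ∧ x.a5 = 0 ∧ x.b6 = 0 ∧ x.a7 = 0 ∧ x.b8 = 0 ∧ x.a8 = 0}
  one_mem' := by simp
  mul_mem' := by
    rintro x y ⟨h0, h1, h2, h3, h4, h5, h6, h7, h8, h9, h10⟩ ⟨k0, k1, k2, k3, k4, k5, k6, k7, k8, k9, k10⟩
    simp [h0, h1, h2, h3, h4, h5, h6, h7, h8, h9, h10, k0, k1, k2, k3, k4, k5, k6, k7, k8, k9, k10]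
  inv_mem' := by
    rintro x ⟨h0, h1, h2, h3, h4, h5, h6, h7, h8, h9, h10⟩
    simp [h0, h1, h2, h3, h4, h5, h6, h7, h8, h9, h10]

@[simp] theorem mem_V6 {x : UO P} : x ∈ V6 P ↔ x.a1 = 0 ∧ x.b2 = 0 ∧ x.a2 = 0 ∧ x.a3 = 0 ∧ x.b4 = 0 ∧ x.a4 = 0 ∧ x.a5 = 0 ∧ x.b6 = 0 ∧ x.a7 = 0 ∧ x.b8 = 0 ∧ x.a8 = 0 := Iff.rfl

def Vs (P : Par K) : Subgroup (UO P) where
  carrier := {x | x.a1 = 0 ∧ x.b2 = 0 ∧ x.a2 = 0 ∧ x.a3 = 0 ∧ x.b4 = 0 ∧ x.a5 = 0 ∧ x.b6 = 0 ∧ x.a7 = 0 ∧ x.b8 = 0 ∧ x.a8 = 0}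
  one_mem' := by simp
  mul_mem' := by
    rintro x y ⟨h0, h1, h2, h3, h4, h5, h6, h7, h8, h9⟩ ⟨k0, k1, k2, k3, k4, k5, k6, k7, k8, k9⟩
    simp [h0, h1, h2, h3, h4, h5, h6, h7, h8, h9, k0, k1, k2, k3, k4, k5, k6, k7, k8, k9]
  inv_mem' := by
    rintro x ⟨h0, h1, h2, h3, h4, h5, h6, h7, h8, h9⟩
    simp [h0, h1, h2, h3, h4, h5, h6, h7, h8, h9]

@[simp] theorem mem_Vs {x : UO P} : x ∈ Vs P ↔ x.a1 = 0 ∧ x.b2 = 0 ∧ x.a2 = 0 ∧ x.a3 = 0 ∧ x.b4 = 0 ∧ x.a5 = 0 ∧ x.b6 = 0 ∧ x.a7 = 0 ∧ x.b8 = 0 ∧ x.a8 = 0 := Iff.rfl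

def Z3 (P : Par K) : Subgroup (UO P) where
  carrier := {x | x.a1 = 0 ∧ x.b2 = 0 ∧ x.a2 = 0 ∧ x.a3 = 0 ∧ x.b4 = 0 ∧ x.b6 = 0 ∧ x.a7 = 0 ∧ x.b8 = 0 ∧ x.a8 = 0}
  one_mem' := by simp
  mul_mem' := by
    rintro x y ⟨h0, h1, h2, h3, h4, h5, h6, h7, h8⟩ ⟨k0, k1, k2, k3, k4, k5, k6, k7, k8⟩
    simp [h0, h1, h2, h3, h4, h5, h6, h7, h8, k0, k1, k2, k3, k4, k5, k6, k7, k8]
  inv_mem' := by
    rintro x ⟨h0, h1, h2, h3, h4, h5, h6, h7, h8⟩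
    simp [h0, h1, h2, h3, h4, h5, h6, h7, h8]

@[simp] theorem mem_Z3 {x : UO P} : x ∈ Z3 P ↔ x.a1 = 0 ∧ x.b2 = 0 ∧ x.a2 = 0 ∧ x.a3 = 0 ∧ x.b4 = 0 ∧ x.b6 = 0 ∧ x.a7 = 0 ∧ x.b8 = 0 ∧ x.a8 = 0 := Iff.rfl

def Ws (P : Par K) : Subgroup (UO P) where
  carrier := {x | x.a1 = 0 ∧ x.b2 = 0 ∧ x.b4 = 0 ∧ x.b6 = 0 ∧ x.a7 = 0 ∧ x.b8 = 0 ∧ x.a8 = 0}
  one_mem' := by simp
  mul_mem' := by
    rintro x y ⟨h0, h1, h2, h3, h4, h5, h6⟩ ⟨k0, k1, k2, k3, k4, k5, k6⟩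
    simp [h0, h1, h2, h3, h4, h5, h6, k0, k1, k2, k3, k4, k5, k6]
  inv_mem' := by
    rintro x ⟨h0, h1, h2, h3, h4, h5, h6⟩
    simp [h0, h1, h2, h3, h4, h5, h6]

@[simp] theorem mem_Ws {x : UO P} : x ∈ Ws P ↔ x.a1 = 0 ∧ x.b2 = 0 ∧ x.b4 = 0 ∧ x.b6 = 0 ∧ x.a7 = 0 ∧ x.b8 = 0 ∧ x.a8 = 0 := Iff.rfl

def Rs (P : Par K) : Subgroup (UO P) where
  carrier := {x | x.a1 = 0 ∧ x.b2 = 0 ∧ x.b6 = 0 ∧ x.a7 = 0 ∧ x.b8 = 0 ∧ x.a8 = 0}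
  one_mem' := by simp
  mul_mem' := by
    rintro x y ⟨h0, h1, h2, h3, h4, h5⟩ ⟨k0, k1, k2, k3, k4, k5⟩
    simp [h0, h1, h2, h3, h4, h5, k0, k1, k2, k3, k4, k5]
  inv_mem' := by
    rintro x ⟨h0, h1, h2, h3, h4, h5⟩
    simp [h0, h1, h2, h3, h4, h5]

@[simp] theorem mem_Rs {x : UO P} : x ∈ Rs P ↔ x.a1 = 0 ∧ x.b2 = 0 ∧ x.b6 = 0 ∧ x.a7 = 0 ∧ x.b8 = 0 ∧ x.a8 = 0 := Iff.rfl

def Qs (P : Par K) : Subgroup (UO P) where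
  carrier := {x | x.b8 = 0 ∧ x.a8 = 0}
  one_mem' := by simp
  mul_mem' := by
    rintro x y ⟨h0, h1⟩ ⟨k0, k1⟩
    simp [h0, h1, k0, k1]
  inv_mem' := by
    rintro x ⟨h0, h1⟩
    simp [h0, h1]

@[simp] theorem mem_Qs {x : UO P} : x ∈ Qs P ↔ x.b8 = 0 ∧ x.a8 = 0 := Iff.rfl

def Qp (P : Par K) : Subgroup (UO P) where
  carrier := {x | x.a1 = 0}
  one_mem' := by simp
  mul_mem' := by
    rintro x y (h0 : _ = _) (k0 : _ = _)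
    simp [h0, k0]
  inv_mem' := by
    rintro x (h0 : _ = _)
    simp [h0]

@[simp] theorem mem_Qp {x : UO P} : x ∈ Qp P ↔ x.a1 = 0 := Iff.rfl

def Js (P : Par K) : Subgroup (UO P) where
  carrier := {x | x.b8 = 0}
  one_mem' := by simp
  mul_mem' := by
    rintro x y (h0 : _ = _) (k0 : _ = _)
    simp [h0, k0]
  inv_mem' := by
    rintro x (h0 : _ = _)
    simp [h0]

@[simp] theorem mem_Js {x : UO P} : x ∈ Js P ↔ x.b8 = 0 := Iff.rfl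

def Ph (P : Par K) : Subgroup (UO P) where
  carrier := {x | x.a1 = 0 ∧ x.b8 = 0}
  one_mem' := by simp
  mul_mem' := by
    rintro x y ⟨h0, h1⟩ ⟨k0, k1⟩
    simp [h0, h1, k0, k1]
  inv_mem' := by
    rintro x ⟨h0, h1⟩
    simp [h0, h1]

@[simp] theorem mem_Ph {x : UO P} : x ∈ Ph P ↔ x.a1 = 0 ∧ x.b8 = 0 := Iff.rfl

def U1 (P : Par K) : Subgroup (UO P) where
  carrier := {x | x.b2 = 0 ∧ x.a2 = 0 ∧ x.a3 = 0 ∧ x.b4 = 0 ∧ x.a4 = 0 ∧ x.a5 = 0 ∧ x.b6 = 0 ∧ x.a6 = 0 ∧ x.a7 = 0 ∧ x.b8 = 0 ∧ x.a8 = 0}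
  one_mem' := by simp
  mul_mem' := by
    rintro x y ⟨h0, h1, h2, h3, h4, h5, h6, h7, h8, h9, h10⟩ ⟨k0, k1, k2, k3, k4, k5, k6, k7, k8, k9, k10⟩
    simp [h0, h1, h2, h3, h4, h5, h6, h7, h8, h9, h10, k0, k1, k2, k3, k4, k5, k6, k7, k8, k9, k10]
  inv_mem' := by
    rintro x ⟨h0, h1, h2, h3, h4, h5, h6, h7, h8, h9, h10⟩
    simp [h0, h1, h2, h3, h4, h5, h6, h7, h8, h9, h10]

@[simp] theorem mem_U1 {x : UO P} : x ∈ U1 P ↔ x.b2 = 0 ∧ x.a2 = 0 ∧ x.a3 = 0 ∧ x.b4 = 0 ∧ x.a4 = 0 ∧ x.a5 = 0 ∧ x.b6 = 0 ∧ x.a6 = 0 ∧ x.a7 = 0 ∧ x.b8 = 0 ∧ x.a8 = 0 := Iff.rfl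

def U2 (P : Par K) : Subgroup (UO P) where
  carrier := {x | x.a1 = 0 ∧ x.a3 = 0 ∧ x.b4 = 0 ∧ x.a4 = 0 ∧ x.a5 = 0 ∧ x.b6 = 0 ∧ x.a6 = 0 ∧ x.a7 = 0 ∧ x.b8 = 0 ∧ x.a8 = 0}
  one_mem' := by simp
  mul_mem' := by
    rintro x y ⟨h0, h1, h2, h3, h4, h5, h6, h7, h8, h9⟩ ⟨k0, k1, k2, k3, k4, k5, k6, k7, k8, k9⟩
    simp [h0, h1, h2, h3, h4, h5, h6, h7, h8, h9, k0, k1, k2, k3, k4, k5, k6, k7, k8, k9]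
  inv_mem' := by
    rintro x ⟨h0, h1, h2, h3, h4, h5, h6, h7, h8, h9⟩
    simp [h0, h1, h2, h3, h4, h5, h6, h7, h8, h9]

@[simp] theorem mem_U2 {x : UO P} : x ∈ U2 P ↔ x.a1 = 0 ∧ x.a3 = 0 ∧ x.b4 = 0 ∧ x.a4 = 0 ∧ x.a5 = 0 ∧ x.b6 = 0 ∧ x.a6 = 0 ∧ x.a7 = 0 ∧ x.b8 = 0 ∧ x.a8 = 0 := Iff.rfl

def U3 (P : Par K) : Subgroup (UO P) where
  carrier := {x | x.a1 = 0 ∧ x.b2 = 0 ∧ x.a2 = 0 ∧ x.b4 = 0 ∧ x.a4 = 0 ∧ x.a5 = 0 ∧ x.b6 = 0 ∧ x.a6 = 0 ∧ x.a7 = 0 ∧ x.b8 = 0 ∧ x.a8 = 0}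
  one_mem' := by simp
  mul_mem' := by
    rintro x y ⟨h0, h1, h2, h3, h4, h5, h6, h7, h8, h9, h10⟩ ⟨k0, k1, k2, k3, k4, k5, k6, k7, k8, k9, k10⟩
    simp [h0, h1, h2, h3, h4, h5, h6, h7, h8, h9, h10, k0, k1, k2, k3, k4, k5, k6, k7, k8, k9, k10]
  inv_mem' := by
    rintro x ⟨h0, h1, h2, h3, h4, h5, h6, h7, h8, h9, h10⟩
    simp [h0, h1, h2, h3, h4, h5, h6, h7, h8, h9, h10]

@[simp] theorem mem_U3 {x : UO P} : x ∈ U3 P ↔ x.a1 = 0 ∧ x.b2 = 0 ∧ x.a2 = 0 ∧ x.b4 = 0 ∧ x.a4 = 0 ∧ x.a5 = 0 ∧ x.b6 = 0 ∧ x.a6 = 0 ∧ x.a7 = 0 ∧ x.b8 = 0 ∧ x.a8 = 0 := Iff.rfl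

def U4 (P : Par K) : Subgroup (UO P) where
  carrier := {x | x.a1 = 0 ∧ x.b2 = 0 ∧ x.a2 = 0 ∧ x.a3 = 0 ∧ x.a5 = 0 ∧ x.b6 = 0 ∧ x.a6 = 0 ∧ x.a7 = 0 ∧ x.b8 = 0 ∧ x.a8 = 0}
  one_mem' := by simp
  mul_mem' := by
    rintro x y ⟨h0, h1, h2, h3, h4, h5, h6, h7, h8, h9⟩ ⟨k0, k1, k2, k3, k4, k5, k6, k7, k8, k9⟩
    simp [h0, h1, h2, h3, h4, h5, h6, h7, h8, h9, k0, k1, k2, k3, k4, k5, k6, k7, k8, k9]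
  inv_mem' := by
    rintro x ⟨h0, h1, h2, h3, h4, h5, h6, h7, h8, h9⟩
    simp [h0, h1, h2, h3, h4, h5, h6, h7, h8, h9]

@[simp] theorem mem_U4 {x : UO P} : x ∈ U4 P ↔ x.a1 = 0 ∧ x.b2 = 0 ∧ x.a2 = 0 ∧ x.a3 = 0 ∧ x.a5 = 0 ∧ x.b6 = 0 ∧ x.a6 = 0 ∧ x.a7 = 0 ∧ x.b8 = 0 ∧ x.a8 = 0 := Iff.rfl

def U5 (P : Par K) : Subgroup (UO P) where
  carrier := {x | x.a1 = 0 ∧ x.b2 = 0 ∧ x.a2 = 0 ∧ x.a3 = 0 ∧ x.b4 = 0 ∧ x.a4 = 0 ∧ x.b6 = 0 ∧ x.a6 = 0 ∧ x.a7 = 0 ∧ x.b8 = 0 ∧ x.a8 = 0}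
  one_mem' := by simp
  mul_mem' := by
    rintro x y ⟨h0, h1, h2, h3, h4, h5, h6, h7, h8, h9, h10⟩ ⟨k0, k1, k2, k3, k4, k5, k6, k7, k8, k9, k10⟩
    simp [h0, h1, h2, h3, h4, h5, h6, h7, h8, h9, h10, k0, k1, k2, k3, k4, k5, k6, k7, k8, k9, k10]
  inv_mem' := by
    rintro x ⟨h0, h1, h2, h3, h4, h5, h6, h7, h8, h9, h10⟩
    simp [h0, h1, h2, h3, h4, h5, h6, h7, h8, h9, h10]

@[simp] theorem mem_U5 {x : UO P} : x ∈ U5 P ↔ x.a1 = 0 ∧ x.b2 = 0 ∧ x.a2 = 0 ∧ x.a3 = 0 ∧ x.b4 = 0 ∧ x.a4 = 0 ∧ x.b6 = 0 ∧ x.a6 = 0 ∧ x.a7 = 0 ∧ x.b8 = 0 ∧ x.a8 = 0 := Iff.rfl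

def U6 (P : Par K) : Subgroup (UO P) where
  carrier := {x | x.a1 = 0 ∧ x.b2 = 0 ∧ x.a2 = 0 ∧ x.a3 = 0 ∧ x.b4 = 0 ∧ x.a4 = 0 ∧ x.a5 = 0 ∧ x.a7 = 0 ∧ x.b8 = 0 ∧ x.a8 = 0}
  one_mem' := by simp
  mul_mem' := by
    rintro x y ⟨h0, h1, h2, h3, h4, h5, h6, h7, h8, h9⟩ ⟨k0, k1, k2, k3, k4, k5, k6, k7, k8, k9⟩
    simp [h0, h1, h2, h3, h4, h5, h6, h7, h8, h9, k0, k1, k2, k3, k4, k5, k6, k7, k8, k9]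
  inv_mem' := by
    rintro x ⟨h0, h1, h2, h3, h4, h5, h6, h7, h8, h9⟩
    simp [h0, h1, h2, h3, h4, h5, h6, h7, h8, h9]

@[simp] theorem mem_U6 {x : UO P} : x ∈ U6 P ↔ x.a1 = 0 ∧ x.b2 = 0 ∧ x.a2 = 0 ∧ x.a3 = 0 ∧ x.b4 = 0 ∧ x.a4 = 0 ∧ x.a5 = 0 ∧ x.a7 = 0 ∧ x.b8 = 0 ∧ x.a8 = 0 := Iff.rfl

def U7 (P : Par K) : Subgroup (UO P) where
  carrier := {x | x.a1 = 0 ∧ x.b2 = 0 ∧ x.a2 = 0 ∧ x.a3 = 0 ∧ x.b4 = 0 ∧ x.a4 = 0 ∧ x.a5 = 0 ∧ x.b6 = 0 ∧ x.a6 = 0 ∧ x.b8 = 0 ∧ x.a8 = 0}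
  one_mem' := by simp
  mul_mem' := by
    rintro x y ⟨h0, h1, h2, h3, h4, h5, h6, h7, h8, h9, h10⟩ ⟨k0, k1, k2, k3, k4, k5, k6, k7, k8, k9, k10⟩
    simp [h0, h1, h2, h3, h4, h5, h6, h7, h8, h9, h10, k0, k1, k2, k3, k4, k5, k6, k7, k8, k9, k10]
  inv_mem' := by
    rintro x ⟨h0, h1, h2, h3, h4, h5, h6, h7, h8, h9, h10⟩
    simp [h0, h1, h2, h3, h4, h5, h6, h7, h8, h9, h10]

@[simp] theorem mem_U7 {x : UO P} : x ∈ U7 P ↔ x.a1 = 0 ∧ x.b2 = 0 ∧ x.a2 = 0 ∧ x.a3 = 0 ∧ x.b4 = 0 ∧ x.a4 = 0 ∧ x.a5 = 0 ∧ x.b6 = 0 ∧ x.a6 = 0 ∧ x.b8 = 0 ∧ x.a8 = 0 := Iff.rfl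

def U8 (P : Par K) : Subgroup (UO P) where
  carrier := {x | x.a1 = 0 ∧ x.b2 = 0 ∧ x.a2 = 0 ∧ x.a3 = 0 ∧ x.b4 = 0 ∧ x.a4 = 0 ∧ x.a5 = 0 ∧ x.b6 = 0 ∧ x.a6 = 0 ∧ x.a7 = 0}
  one_mem' := by simp
  mul_mem' := by
    rintro x y ⟨h0, h1, h2, h3, h4, h5, h6, h7, h8, h9⟩ ⟨k0, k1, k2, k3, k4, k5, k6, k7, k8, k9⟩
    simp [h0, h1, h2, h3, h4, h5, h6, h7, h8, h9, k0, k1, k2, k3, k4, k5, k6, k7, k8, k9]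
  inv_mem' := by
    rintro x ⟨h0, h1, h2, h3, h4, h5, h6, h7, h8, h9⟩
    simp [h0, h1, h2, h3, h4, h5, h6, h7, h8, h9]

@[simp] theorem mem_U8 {x : UO P} : x ∈ U8 P ↔ x.a1 = 0 ∧ x.b2 = 0 ∧ x.a2 = 0 ∧ x.a3 = 0 ∧ x.b4 = 0 ∧ x.a4 = 0 ∧ x.a5 = 0 ∧ x.b6 = 0 ∧ x.a6 = 0 ∧ x.a7 = 0 := Iff.rfl

def V8 (P : Par K) : Subgroup (UO P) where
  carrier := {x | x.a1 = 0 ∧ x.b2 = 0 ∧ x.a2 = 0 ∧ x.a3 = 0 ∧ x.b4 = 0 ∧ x.a4 = 0 ∧ x.a5 = 0 ∧ x.b6 = 0 ∧ x.a6 = 0 ∧ x.a7 = 0 ∧ x.b8 = 0}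
  one_mem' := by simp
  mul_mem' := by
    rintro x y ⟨h0, h1, h2, h3, h4, h5, h6, h7, h8, h9, h10⟩ ⟨k0, k1, k2, k3, k4, k5, k6, k7, k8, k9, k10⟩
    simp [h0, h1, h2, h3, h4, h5, h6, h7, h8, h9, h10, k0, k1, k2, k3, k4, k5, k6, k7, k8, k9, k10]
  inv_mem' := by
    rintro x ⟨h0, h1, h2, h3, h4, h5, h6, h7, h8, h9, h10⟩
    simp [h0, h1, h2, h3, h4, h5, h6, h7, h8, h9, h10]

@[simp] theorem mem_V8 {x : UO P} : x ∈ V8 P ↔ x.a1 = 0 ∧ x.b2 = 0 ∧ x.a2 = 0 ∧ x.a3 = 0 ∧ x.b4 = 0 ∧ x.a4 = 0 ∧ x.a5 = 0 ∧ x.b6 = 0 ∧ x.a6 = 0 ∧ x.a7 = 0 ∧ x.b8 = 0 := Iff.rfl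

def Tb (P : Par K) : Subgroup (UO P) where
  carrier := {x | x.b2 = 0 ∧ x.b8 = 0}
  one_mem' := by simp
  mul_mem' := by
    rintro x y ⟨h0, h1⟩ ⟨k0, k1⟩
    simp [h0, h1, k0, k1]
  inv_mem' := by
    rintro x ⟨h0, h1⟩
    simp [h0, h1]

@[simp] theorem mem_Tb {x : UO P} : x ∈ Tb P ↔ x.b2 = 0 ∧ x.b8 = 0 := Iff.rfl

def Tc (P : Par K) : Subgroup (UO P) where
  carrier := {x | x.a1 = 0 ∧ x.b2 = 0 ∧ x.a2 = 0 ∧ x.b4 = 0}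
  one_mem' := by simp
  mul_mem' := by
    rintro x y ⟨h0, h1, h2, h3⟩ ⟨k0, k1, k2, k3⟩
    simp [h0, h1, h2, h3, k0, k1, k2, k3]
  inv_mem' := by
    rintro x ⟨h0, h1, h2, h3⟩
    simp [h0, h1, h2, h3]

@[simp] theorem mem_Tc {x : UO P} : x ∈ Tc P ↔ x.a1 = 0 ∧ x.b2 = 0 ∧ x.a2 = 0 ∧ x.b4 = 0 := Iff.rfl

def Td (P : Par K) : Subgroup (UO P) where
  carrier := {x | x.a1 = 0 ∧ x.b2 = 0 ∧ x.a2 = 0 ∧ x.a3 = 0}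
  one_mem' := by simp
  mul_mem' := by
    rintro x y ⟨h0, h1, h2, h3⟩ ⟨k0, k1, k2, k3⟩
    simp [h0, h1, h2, h3, k0, k1, k2, k3]
  inv_mem' := by
    rintro x ⟨h0, h1, h2, h3⟩
    simp [h0, h1, h2, h3]

@[simp] theorem mem_Td {x : UO P} : x ∈ Td P ↔ x.a1 = 0 ∧ x.b2 = 0 ∧ x.a2 = 0 ∧ x.a3 = 0 := Iff.rfl

def Tp (P : Par K) : Subgroup (UO P) where
  carrier := {x | x.a1 = 0 ∧ x.b2 = 0 ∧ x.a2 = 0}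
  one_mem' := by simp
  mul_mem' := by
    rintro x y ⟨h0, h1, h2⟩ ⟨k0, k1, k2⟩
    simp [h0, h1, h2, k0, k1, k2]
  inv_mem' := by
    rintro x ⟨h0, h1, h2⟩
    simp [h0, h1, h2]

@[simp] theorem mem_Tp {x : UO P} : x ∈ Tp P ↔ x.a1 = 0 ∧ x.b2 = 0 ∧ x.a2 = 0 := Iff.rfl

/-! ### the two reflections -/

/-- conjugation by `n` on `Qs`: `i ↦ 8 - i` -/
def rn (x : UO P) : UO P where
    a1 := x.a7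
    b2 := x.b6
    a2 := x.a6 + x.b4 * x.a7 + x.b2 * P.σ x.a7
    a3 := x.a5 + x.b4 * x.b6 + x.a1 * P.σ x.a7 + P.σ x.b2 * x.a7
    b4 := x.b4
    a4 := x.a4 + x.a1 * x.a6 + x.b2 * x.a5 + x.a2 * x.a7 + x.a3 * x.b6 + x.a1 * x.b4 * x.a7 + x.b2 * x.b4 * x.b6 +
      x.a1 * x.b2 * P.σ x.a7 + x.a1 * x.b6 * P.σ x.b6 + P.σ x.a1 * x.b6 * x.a7
    a5 := x.a3 + x.b2 * x.b4 + x.a1 * P.σ x.b6 + P.σ x.a1 * x.a7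
    b6 := x.b2
    a6 := x.a2 + x.a1 * x.b4 + P.σ x.a1 * x.b6
    a7 := x.a1
    b8 := 0
    a8 := 0

@[simp] theorem rn_a1 (x : UO P) : (rn x).a1 =
      x.a7 := rfl
@[simp] theorem rn_b2 (x : UO P) : (rn x).b2 =
      x.b6 := rfl
@[simp] theorem rn_a2 (x : UO P) : (rn x).a2 =
      x.a6 + x.b4 * x.a7 + x.b2 * P.σ x.a7 := rfl
@[simp] theorem rn_a3 (x : UO P) : (rn x).a3 =
      x.a5 + x.b4 * x.b6 + x.a1 * P.σ x.a7 + P.σ x.b2 * x.a7 := rfl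
@[simp] theorem rn_b4 (x : UO P) : (rn x).b4 =
      x.b4 := rfl
@[simp] theorem rn_a4 (x : UO P) : (rn x).a4 =
      x.a4 + x.a1 * x.a6 + x.b2 * x.a5 + x.a2 * x.a7 + x.a3 * x.b6 + x.a1 * x.b4 * x.a7 + x.b2 * x.b4 * x.b6 +
      x.a1 * x.b2 * P.σ x.a7 + x.a1 * x.b6 * P.σ x.b6 + P.σ x.a1 * x.b6 * x.a7 := rfl
@[simp] theorem rn_a5 (x : UO P) : (rn x).a5 =
      x.a3 + x.b2 * x.b4 + x.a1 * P.σ x.b6 + P.σ x.a1 * x.a7 := rfl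
@[simp] theorem rn_b6 (x : UO P) : (rn x).b6 =
      x.b2 := rfl
@[simp] theorem rn_a6 (x : UO P) : (rn x).a6 =
      x.a2 + x.a1 * x.b4 + P.σ x.a1 * x.b6 := rfl
@[simp] theorem rn_a7 (x : UO P) : (rn x).a7 =
      x.a1 := rfl
@[simp] theorem rn_b8 (x : UO P) : (rn x).b8 =
      0 := rfl
@[simp] theorem rn_a8 (x : UO P) : (rn x).a8 =
      0 := rfl

/-- conjugation by `n'` on `Qp`: `i ↦ 10 - i` -/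
def rp (x : UO P) : UO P where
    a1 := 0
    b2 := x.b8
    a2 := x.a8
    a3 := x.a7 + x.b2 * x.a8 + x.b6 * x.b8 + x.b2 * x.b8 * P.σ x.b8
    b4 := x.b6 + x.b2 * P.σ x.b8
    a4 := x.a6 + x.a3 * x.a8 + x.b4 * x.a7 + x.a5 * x.b8 + x.b2 * P.σ x.a7 + x.a2 * x.b8 * x.a8 + x.a2 * P.σ x.a8 +
      x.b4 * x.b6 * x.b8 + P.σ x.b2 * x.a7 * x.b8 + x.a3 * x.b8 * P.σ x.b8 + x.b2 * P.σ x.b2 * x.b8 * x.a8 +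
      P.σ x.b2 * x.b6 * x.b8 ^ 2 + x.a2 * x.b8 ^ 2 * P.σ x.b8 + x.b2 * P.σ x.b2 * x.b8 ^ 2 * P.σ x.b8
    a5 := x.a5 + x.a2 * x.a8 + x.b4 * x.b6 + P.σ x.b2 * x.a7 + x.a3 * P.σ x.b8 + x.b2 * P.σ x.b2 * x.a8
    b6 := x.b4 + P.σ x.b2 * x.b8
    a6 := x.a4 + x.b2 * x.a5 + x.a2 * x.a7 + x.a3 * x.b6 + x.b2 * x.a2 * x.a8 + x.b2 * x.b4 * x.b6 + P.σ x.a2 * x.a8 +
      P.σ x.a3 * x.b8 + x.b2 * x.a3 * P.σ x.b8 + x.b2 ^ 2 * P.σ x.b2 * x.a8 + P.σ x.b2 * P.σ x.b4 * x.b8 +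
      P.σ x.a2 * x.b8 * P.σ x.b8
    a7 := x.a3 + x.b2 * x.b4 + x.a2 * x.b8
    b8 := x.b2
    a8 := x.a2

@[simp] theorem rp_a1 (x : UO P) : (rp x).a1 =
      0 := rfl
@[simp] theorem rp_b2 (x : UO P) : (rp x).b2 =
      x.b8 := rfl
@[simp] theorem rp_a2 (x : UO P) : (rp x).a2 =
      x.a8 := rfl
@[simp] theorem rp_a3 (x : UO P) : (rp x).a3 =
      x.a7 + x.b2 * x.a8 + x.b6 * x.b8 + x.b2 * x.b8 * P.σ x.b8 := rfl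
@[simp] theorem rp_b4 (x : UO P) : (rp x).b4 =
      x.b6 + x.b2 * P.σ x.b8 := rfl
@[simp] theorem rp_a4 (x : UO P) : (rp x).a4 =
      x.a6 + x.a3 * x.a8 + x.b4 * x.a7 + x.a5 * x.b8 + x.b2 * P.σ x.a7 + x.a2 * x.b8 * x.a8 + x.a2 * P.σ x.a8 +
      x.b4 * x.b6 * x.b8 + P.σ x.b2 * x.a7 * x.b8 + x.a3 * x.b8 * P.σ x.b8 + x.b2 * P.σ x.b2 * x.b8 * x.a8 +
      P.σ x.b2 * x.b6 * x.b8 ^ 2 + x.a2 * x.b8 ^ 2 * P.σ x.b8 + x.b2 * P.σ x.b2 * x.b8 ^ 2 * P.σ x.b8 := rfl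
@[simp] theorem rp_a5 (x : UO P) : (rp x).a5 =
      x.a5 + x.a2 * x.a8 + x.b4 * x.b6 + P.σ x.b2 * x.a7 + x.a3 * P.σ x.b8 + x.b2 * P.σ x.b2 * x.a8 := rfl
@[simp] theorem rp_b6 (x : UO P) : (rp x).b6 =
      x.b4 + P.σ x.b2 * x.b8 := rfl
@[simp] theorem rp_a6 (x : UO P) : (rp x).a6 =
      x.a4 + x.b2 * x.a5 + x.a2 * x.a7 + x.a3 * x.b6 + x.b2 * x.a2 * x.a8 + x.b2 * x.b4 * x.b6 + P.σ x.a2 * x.a8 +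
      P.σ x.a3 * x.b8 + x.b2 * x.a3 * P.σ x.b8 + x.b2 ^ 2 * P.σ x.b2 * x.a8 + P.σ x.b2 * P.σ x.b4 * x.b8 +
      P.σ x.a2 * x.b8 * P.σ x.b8 := rfl
@[simp] theorem rp_a7 (x : UO P) : (rp x).a7 =
      x.a3 + x.b2 * x.b4 + x.a2 * x.b8 := rfl
@[simp] theorem rp_b8 (x : UO P) : (rp x).b8 =
      x.b2 := rfl
@[simp] theorem rp_a8 (x : UO P) : (rp x).a8 =
      x.a2 := rfl

theorem rn_eq (x : UO P) : rn x = x7 x.a1 * y6 x.b2 * x6 x.a2 * x5 x.a3 * y4 x.b4 *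
    x4 x.a4 * x3 x.a5 * y2 x.b6 * x2 x.a6 * x1 x.a7 := by
  ext <;> simp [P.sq] <;> grind

theorem rp_eq (x : UO P) : rp x = y8 x.b2 * x8 x.a2 * x7 x.a3 * y6 x.b4 * x6 x.a4 *
    x5 x.a5 * y4 x.b6 * x4 x.a6 * x3 x.a7 * y2 x.b8 * x2 x.a8 := by
  ext <;> simp [P.sq] <;> grind
/-! ### the torus -/

section Torus

variable (P)

def c1 (p : Kˣ × Kˣ) : K := p.1
def d2 (p : Kˣ × Kˣ) : K := p.1 * p.2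
def c2 (p : Kˣ × Kˣ) : K := p.1 * P.σ p.1 * p.2 * P.σ p.2
def c3 (p : Kˣ × Kˣ) : K := p.1 * P.σ p.1 * p.2 ^ 2 * P.σ p.2
def d4 (p : Kˣ × Kˣ) : K := P.σ p.1 * p.2 * P.σ p.2
def c4 (p : Kˣ × Kˣ) : K := p.1 ^ 2 * P.σ p.1 * p.2 ^ 3 * P.σ p.2 ^ 2
def c5 (p : Kˣ × Kˣ) : K := p.1 * P.σ p.1 * p.2 ^ 2 * P.σ p.2 ^ 2
def d6 (p : Kˣ × Kˣ) : K := p.1 * p.2 * P.σ p.2
def c6 (p : Kˣ × Kˣ) : K := p.1 * P.σ p.1 * p.2 ^ 3 * P.σ p.2 ^ 2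
def c7 (p : Kˣ × Kˣ) : K := p.1 * p.2 ^ 2 * P.σ p.2
def d8 (p : Kˣ × Kˣ) : K := p.2
def c8 (p : Kˣ × Kˣ) : K := p.2 * P.σ p.2

/-- the torus element acting on `U₁` by `p.1` and on `U₈ / V₈` by `p.2` -/
def dgF (p : Kˣ × Kˣ) (x : UO P) : UO P :=
  ⟨c1 p * x.a1, d2 p * x.b2, c2 P p * x.a2, c3 P p * x.a3, d4 P p * x.b4, c4 P p * x.a4, c5 P p * x.a5,
    d6 P p * x.b6, c6 P p * x.a6, c7 P p * x.a7, d8 p * x.b8, c8 P p * x.a8⟩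

theorem dgF_mul (p : Kˣ × Kˣ) (x y : UO P) : dgF P p (x * y) = dgF P p x * dgF P p y := by
  ext <;> simp only [dgF, c1, d2, c2, c3, d4, c4, c5, d6, c6, c7, d8, c8, mul_a1, mul_b2, mul_a2, mul_a3, mul_b4,
    mul_a4, mul_a5, mul_b6, mul_a6, mul_a7, mul_b8, mul_a8, map_mul, map_pow, P.sq] <;> ring

theorem dgF_dgF (p q : Kˣ × Kˣ) (x : UO P) : dgF P p (dgF P q x) = dgF P (p * q) x := by
  ext <;> simp only [dgF, c1, d2, c2, c3, d4, c4, c5, d6, c6, c7, d8, c8, Prod.fst_mul, Prod.snd_mul, Units.val_mul,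
    map_mul] <;> ring

theorem dgF_one (x : UO P) : dgF P 1 x = x := by
  ext <;> simp [dgF, c1, d2, c2, c3, d4, c4, c5, d6, c6, c7, d8, c8]

/-- the action of the torus -/
def dg : Kˣ × Kˣ →* MulAut (UO P) where
  toFun p :=
    { toFun := dgF P p
      invFun := dgF P p⁻¹
      left_inv := fun x => by rw [dgF_dgF, inv_mul_cancel, dgF_one]
      right_inv := fun x => by rw [dgF_dgF, mul_inv_cancel, dgF_one]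
      map_mul' := dgF_mul P p }
  map_one' := MulEquiv.ext (dgF_one P)
  map_mul' p q := MulEquiv.ext fun x => (dgF_dgF P p q x).symm

variable {P}

@[simp] theorem dg_a1 (p : Kˣ × Kˣ) (x : UO P) : (dg P p x).a1 = c1 p * x.a1 := rfl
@[simp] theorem dg_b2 (p : Kˣ × Kˣ) (x : UO P) : (dg P p x).b2 = d2 p * x.b2 := rfl
@[simp] theorem dg_a2 (p : Kˣ × Kˣ) (x : UO P) : (dg P p x).a2 = c2 P p * x.a2 := rfl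
@[simp] theorem dg_a3 (p : Kˣ × Kˣ) (x : UO P) : (dg P p x).a3 = c3 P p * x.a3 := rfl
@[simp] theorem dg_b4 (p : Kˣ × Kˣ) (x : UO P) : (dg P p x).b4 = d4 P p * x.b4 := rfl
@[simp] theorem dg_a4 (p : Kˣ × Kˣ) (x : UO P) : (dg P p x).a4 = c4 P p * x.a4 := rfl
@[simp] theorem dg_a5 (p : Kˣ × Kˣ) (x : UO P) : (dg P p x).a5 = c5 P p * x.a5 := rfl
@[simp] theorem dg_b6 (p : Kˣ × Kˣ) (x : UO P) : (dg P p x).b6 = d6 P p * x.b6 := rfl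
@[simp] theorem dg_a6 (p : Kˣ × Kˣ) (x : UO P) : (dg P p x).a6 = c6 P p * x.a6 := rfl
@[simp] theorem dg_a7 (p : Kˣ × Kˣ) (x : UO P) : (dg P p x).a7 = c7 P p * x.a7 := rfl
@[simp] theorem dg_b8 (p : Kˣ × Kˣ) (x : UO P) : (dg P p x).b8 = d8 p * x.b8 := rfl
@[simp] theorem dg_a8 (p : Kˣ × Kˣ) (x : UO P) : (dg P p x).a8 = c8 P p * x.a8 := rfl

/-- the part of the torus centralizing `Zs` -/
def Dp (P : Par K) : Subgroup (Kˣ × Kˣ) where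
  carrier := {p | c4 P p = 1}
  one_mem' := by simp [c4]
  mul_mem' := by
    intro p q hp hq
    simp only [Set.mem_ofPred_eq, c4, Prod.fst_mul, Prod.snd_mul, Units.val_mul, map_mul] at hp hq ⊢
    linear_combination (q.1 ^ 2 * P.σ q.1 * q.2 ^ 3 * P.σ q.2 ^ 2 : K) * hp + hq
  inv_mem' := by
    intro p hp
    simp only [Set.mem_ofPred_eq, c4, Prod.fst_inv, Prod.snd_inv, Units.val_inv_eq_inv_val, map_inv₀] at hp ⊢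
    rw [inv_pow, inv_pow, inv_pow, ← mul_inv, ← mul_inv, ← mul_inv, hp, inv_one]

theorem mem_Dp {p : Kˣ × Kˣ} : p ∈ Dp P ↔ c4 P p = 1 := Iff.rfl

/-- `σ` on units -/
def σu (P : Par K) : Kˣ →* Kˣ := Units.map (P.σ : K →* K)

@[simp] theorem coe_σu (t : Kˣ) : (σu P t : K) = P.σ t := rfl

/-- conjugation of the torus by `n` -/
def sn (P : Par K) (p : Kˣ × Kˣ) : Kˣ × Kˣ := (p.1 * p.2 ^ 2 * σu P p.2, p.2⁻¹)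

/-- conjugation of the torus by `n'` -/
def sp (p : Kˣ × Kˣ) : Kˣ × Kˣ := (p.1⁻¹, p.1 * p.2)

end Torus

end UO

end CL.Oct
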