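/-
Models of the centralizer of a 2-central involution of a large Ree group, and of the group itself.
-/
import Cfsg.Agent.Oct.U1
import Cfsg.Agent.Base

set_option autoImplicit false
set_option linter.unusedSectionVars false

namespace CL.Oct

open UO Cfsg

variable {K : Type*} [Field K] [CharP K 2]

/-- the data of the rank one relation in the Suzuki group `⟨U₈, n⟩` -/
structure Rk (P : Par K) where
  β : UO P → UO P
  γ : UO P → UO P
  π : UO P → Dp P
  β_mem : ∀ a, β a ∈ U8 P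
  γ_mem : ∀ a, γ a ∈ U8 P

variable {P : Par K}

/-- A copy in `Y` of the centralizer `C = ⟨U, D, n⟩` of the centre of `U`. -/
structure CM (R : Rk P) (Y : Type*) [Group Y] where
  u : UO P →* Y
  u_inj : Function.Injective u
  d : Dp P →* Y
  d_conj : ∀ (p : Dp P) (a : UO P), d p * u a * (d p)⁻¹ = u (dg P p a)
  n : Y
  n_sq : n * n = 1
  n_conj : ∀ a ∈ Qs P, n * u a * n = u (rn a)
  n_d : ∀ p, n * d p * n = (d p)⁻¹
  rank2 : ∀ a ∈ U8 P, a ≠ 1 → n * u a * n = u (R.β a) * d (R.π a) * n * u (R.γ a)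
  n_not : n ∉ u.range ⊔ d.range

namespace CM

variable {R : Rk P} {Y : Type*} [Group Y] (c : CM R Y)

/-- the image of a subgroup of `UO P` -/
abbrev im (A : Subgroup (UO P)) : Subgroup Y := A.map c.u
abbrev S : Subgroup Y := c.u.range
abbrev Z : Subgroup Y := c.im (Zs P)
abbrev V : Subgroup Y := c.im (Vs P)
abbrev Q : Subgroup Y := c.im (Qs P)
abbrev Q' : Subgroup Y := c.im (Qp P)
/-- the Borel subgroup of `C` -/
abbrev B0 : Subgroup Y := c.u.range ⊔ c.d.range
def C : Subgroup Y := c.u.range ⊔ c.d.range ⊔ Subgroup.zpowers c.n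
/-- the elements of `V` -/
def v (a b : K) : Y := c.u (x4 a * x6 b)

/-- `g` normalizes `S` and acts on `Z` as a scalar -/
def Lin (g : Y) : Prop := g ∈ Subgroup.normalizer (c.S : Set Y) ∧ ∃ κ : K, ∀ t, g * c.u (x4 t) * g⁻¹ = c.u (x4 (κ * t))

/-- `g` normalizes `S` and acts on `S / Ph` as the torus element `p` -/
def ActsG (g : Y) (p : Kˣ × Kˣ) : Prop :=
  ∀ a, ∃ b, g * c.u a * g⁻¹ = c.u b ∧ b.a1 = c1 p * a.a1 ∧ b.b8 = d8 p * a.b8

/-- `V` is not normalized only by elements normalizing `Z` -/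
def Good : Prop := ∃ g ∈ Subgroup.normalizer (c.V : Set Y), g ∉ Subgroup.normalizer (c.Z : Set Y)

/-- the lower unitriangular elements: what the good case gives -/
def Low : Prop := ∀ k : K, ∃ s : Y, ∀ a b : K, s * c.v a b * s⁻¹ = c.v a (b + k * a)

/-- a torus extending `D` -/
structure Tor where
  h : Kˣ × Kˣ →* Y
  h_conj : ∀ p a, h p * c.u a * (h p)⁻¹ = c.u (dg P p a)
  h_d : ∀ p : Dp P, h p = c.d p
  n_h : ∀ p, c.n * h p * c.n = h (sn P p)

/-- the hypotheses on the ambient finite group: `τ = x₄(t₀)`, `C` is normal in `C(τ)` and contains a Sylow 2-subgroup -/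
structure St (t0 : K) : Prop where
  ne : t0 ≠ 0
  norm : Subgroup.centralizer {c.u (x4 t0)} ≤ Subgroup.normalizer (c.C : Set Y)
  syl : ¬ 2 ∣ c.S.index
  core : oddCore (Subgroup.centralizer ({c.u (x4 t0)} : Set Y)) = ⊥

end CM

/-- the four standard families of involutions of `U` outside the centre -/
def StdA (a : UO P) : Prop := a ∈ Vs P ∧ a.a6 ≠ 0
def StdB (a : UO P) : Prop := ∃ t, t ≠ 0 ∧ a = x5 t
def StdC (a : UO P) : Prop := ∃ t, t ≠ 0 ∧ a = x7 t
def StdD (a : UO P) : Prop := ∃ t s, t ≠ 0 ∧ a = x4 s * x8 t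
def Std (a : UO P) : Prop := StdA a ∨ StdB a ∨ StdC a ∨ StdD a

/-- moves realised by conjugation in `C` -/
inductive Mv (a : UO P) : UO P → Prop
  | refl : Mv a a
  | conj {b : UO P} (g : UO P) : Mv a b → Mv a (g * b * g⁻¹)
  | rn {b : UO P} : Mv a b → b ∈ Qs P → Mv a (rn b)

/-- `α` acts as the torus element `p` on `U / Ph` -/
def Acts (α : MulAut (UO P)) (p : Kˣ × Kˣ) : Prop := ∀ x, (α x).a1 = c1 p * x.a1 ∧ (α x).b8 = d8 p * x.b8

/-- `C`, the torus and the second reflection -/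
structure BM (R : Rk P) (Y : Type*) [Group Y] extends CM R Y where
  T : toCM.Tor
  m : Y
  m_sq : m * m = 1
  m_conj : ∀ a ∈ Qp P, m * u a * m = u (rp a)
  m_h : ∀ p, m * T.h p * m = T.h (sp p)
  rank1 : ∀ t : Kˣ, m * u (x1 (t : K)) * m = u (x1 (t⁻¹ : Kˣ)) * T.h (t⁻¹ ^ 2, t) * m * u (x1 (t⁻¹ : Kˣ))

namespace BM

variable {R : Rk P} {Y : Type*} [Group Y] (b : BM R Y)

/-- the Borel subgroup -/
abbrev B : Subgroup Y := b.u.range ⊔ b.T.h.range
/-- the subgroup generated by everything -/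
def grp : Subgroup Y := b.u.range ⊔ b.T.h.range ⊔ Subgroup.closure {b.n, b.m}
/-- the octagon relation -/
def Rel : Prop := (b.m * b.n) ^ 8 = 1

end BM

/-- The large Ree group. -/
structure RM (R : Rk P) (X : Type*) [Group X] extends BM R X where
  rel : toBM.Rel
  gen : toBM.grp = ⊤
  w_not : ∀ w ∈ Subgroup.closure {n, m}, w ∈ toBM.B → w = 1
  syl : ¬ 2 ∣ u.range.index
  simple : 2 < Nat.card K → IsSimpleGroup X ∧ ∀ k : ℕ, ¬ Nonempty (X ≃* alternatingGroup (Fin k))

end CL.Oct
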