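/-
The coordinate group `UO`: field facts, cardinalities, the reflections and the torus.
-/
import Cfsg.Agent.Oct.D

set_option autoImplicit false
set_option linter.unusedSectionVars false
set_option linter.unusedSimpArgs false
set_option linter.unusedVariables false
set_option maxRecDepth 20000

namespace CL.Oct

open UO Cfsg

variable {K : Type*} [Field K] [CharP K 2] [Finite K] {P : Par K}

namespace UO

theorem σ_bij (P : Par K) : Function.Bijective P.σ := Finite.injective_iff_bijective.1 P.σ.injective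

theorem σ_eq_zero {t : K} : P.σ t = 0 ↔ t = 0 := map_eq_zero P.σ

theorem mul_σ_inj (P : Par K) : Function.Injective fun s : K => s * P.σ s := fun s t h => by
  have h1 : s * P.σ s = t * P.σ t := h
  have h2 := congrArg P.σ h1
  simp only [map_mul, P.sq] at h2
  by_cases e : s = 0
  · rw [e, zero_mul, eq_comm, mul_eq_zero, σ_eq_zero, or_self] at h1
    rw [e, h1]
  refine mul_left_cancel₀ (mul_ne_zero e (mt σ_eq_zero.1 e : P.σ s ≠ 0)) ?_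
  linear_combination h2 - t * h1

theorem exists_mul_σ (P : Par K) (t : K) : ∃ s, s * P.σ s = t := Finite.injective_iff_surjective.1 (mul_σ_inj P) t

theorem exists_ne01 (hq : 2 < Nat.card K) : ∃ t : K, t ≠ 0 ∧ t ≠ 1 := by
  classical
  by_contra! h
  have := Nat.card_le_card_of_injective (fun t : K => t = 0) fun a b e => by
    by_cases c : a = 0
    · rw [c, (e.mp c : b = 0)]
    · rw [h a c, h b fun d => c (e.mpr d)]
  simp only [Nat.card_eq_fintype_card (α := Prop), Fintype.card_prop] at this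
  omega

theorem exists_σ_ne (P : Par K) (hq : 2 < Nat.card K) : ∃ t : K, P.σ t ≠ t := by
  by_contra! h
  obtain ⟨t, t0, t1⟩ := exists_ne01 hq
  have := P.sq t
  rw [h, h, pow_two] at this
  exact t1 (mul_left_cancel₀ t0 (this.symm.trans (mul_one t).symm))

theorem card_field (K : Type*) [Field K] [CharP K 2] [Finite K] : ∃ n, Nat.card K = 2 ^ (n + 1) := by
  have := Fintype.ofFinite K
  obtain ⟨n, -, h⟩ := FiniteField.card K 2
  exact ⟨n - 1, by rw [Nat.card_eq_fintype_card, h, Nat.sub_add_cancel n.pos]⟩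

theorem odd_units (K : Type*) [Field K] [CharP K 2] [Finite K] : Odd (Nat.card Kˣ) := by
  obtain ⟨n, h⟩ := card_field K
  rw [Nat.card_units, h]
  exact Nat.Even.sub_odd Nat.one_le_two_pow (by simp [Nat.even_pow]) odd_one

theorem units_eq_one_of_pow {t : K} {k : ℕ} (h : t ^ 2 ^ k = 1) : t = 1 := by
  have := sub_pow_char_pow t 1 k (p := 2)
  rw [h, one_pow, sub_self] at this
  exact sub_eq_zero.1 (pow_eq_zero_iff (by positivity) |>.1 this)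

/-- the coordinates -/
def coord (P : Par K) : UO P ≃ (Fin 12 → K) where
  toFun x := ![x.a1, x.b2, x.a2, x.a3, x.b4, x.a4, x.a5, x.b6, x.a6, x.a7, x.b8, x.a8]
  invFun v := ⟨v 0, v 1, v 2, v 3, v 4, v 5, v 6, v 7, v 8, v 9, v 10, v 11⟩
  left_inv _ := rfl
  right_inv v := funext fun i => by fin_cases i <;> rfl

instance : Finite (UO P) := Finite.of_equiv _ (coord P).symm

theorem card_UO (P : Par K) : Nat.card (UO P) = Nat.card K ^ 12 := by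
  rw [Nat.card_congr (coord P), Nat.card_fun, Nat.card_fin]

theorem isPGroup (P : Par K) : IsPGroup 2 (UO P) :=
  let ⟨n, h⟩ := card_field K
  IsPGroup.of_card (n := (n + 1) * 12) (by rw [card_UO, h, ← pow_mul])

theorem card_of {A : Subgroup (UO P)} (n : ℕ) (f : (Fin n → K) → UO P) (g : UO P → Fin n → K) (h1 : ∀ v, f v ∈ A)
    (h2 : ∀ v, g (f v) = v) (h3 : ∀ x ∈ A, f (g x) = x) : Nat.card A = Nat.card K ^ n := by
  rw [Nat.card_congr (⟨fun x => g x, fun v => ⟨f v, h1 v⟩, fun x => Subtype.ext (h3 x x.2), h2⟩ : A ≃ (Fin n → K)),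
    Nat.card_fun, Nat.card_fin]

theorem card_Zs (P : Par K) : Nat.card (Zs P) = Nat.card K :=
  (card_of (A := Zs P) 1 (fun v => ⟨0, 0, 0, 0, 0, v 0, 0, 0, 0, 0, 0, 0⟩)
    (fun x => ![x.a4]) (fun _ => ⟨rfl, rfl, rfl, rfl, rfl, rfl, rfl, rfl, rfl, rfl, rfl⟩)
    (fun v => funext fun i => by fin_cases i <;> rfl)
    fun x ⟨h0, h1, h2, h3, h4, h5, h6, h7, h8, h9, h10⟩ => UO.ext h0.symm h1.symm h2.symm h3.symm h4.symm rfl h5.symm h6.symm h7.symm h8.symm h9.symm h10.symm).trans (pow_one _)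

theorem card_Vs (P : Par K) : Nat.card (Vs P) = Nat.card K ^ 2 :=
  card_of (A := Vs P) 2 (fun v => ⟨0, 0, 0, 0, 0, v 0, 0, 0, v 1, 0, 0, 0⟩)
    (fun x => ![x.a4, x.a6]) (fun _ => ⟨rfl, rfl, rfl, rfl, rfl, rfl, rfl, rfl, rfl, rfl⟩)
    (fun v => funext fun i => by fin_cases i <;> rfl)
    fun x ⟨h0, h1, h2, h3, h4, h5, h6, h7, h8, h9⟩ => UO.ext h0.symm h1.symm h2.symm h3.symm h4.symm rfl h5.symm h6.symm rfl h7.symm h8.symm h9.symm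

theorem card_U8 (P : Par K) : Nat.card (U8 P) = Nat.card K ^ 2 :=
  card_of (A := U8 P) 2 (fun v => ⟨0, 0, 0, 0, 0, 0, 0, 0, 0, 0, v 0, v 1⟩)
    (fun x => ![x.b8, x.a8]) (fun _ => ⟨rfl, rfl, rfl, rfl, rfl, rfl, rfl, rfl, rfl, rfl⟩)
    (fun v => funext fun i => by fin_cases i <;> rfl)
    fun x ⟨h0, h1, h2, h3, h4, h5, h6, h7, h8, h9⟩ => UO.ext h0.symm h1.symm h2.symm h3.symm h4.symm h5.symm h6.symm h7.symm h8.symm h9.symm rfl rfl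

theorem card_Qp (P : Par K) : Nat.card (Qp P) = Nat.card K ^ 11 :=
  card_of (A := Qp P) 11 (fun v => ⟨0, v 0, v 1, v 2, v 3, v 4, v 5, v 6, v 7, v 8, v 9, v 10⟩)
    (fun x => ![x.b2, x.a2, x.a3, x.b4, x.a4, x.a5, x.b6, x.a6, x.a7, x.b8, x.a8]) (fun _ => rfl)
    (fun v => funext fun i => by fin_cases i <;> rfl)
    fun x h0 => UO.ext (show x.a1 = 0 from h0).symm rfl rfl rfl rfl rfl rfl rfl rfl rfl rfl rfl

theorem card_Tb (P : Par K) : Nat.card (Tb P) = Nat.card K ^ 10 :=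
  card_of (A := Tb P) 10 (fun v => ⟨v 0, 0, v 1, v 2, v 3, v 4, v 5, v 6, v 7, v 8, 0, v 9⟩)
    (fun x => ![x.a1, x.a2, x.a3, x.b4, x.a4, x.a5, x.b6, x.a6, x.a7, x.a8]) (fun _ => ⟨rfl, rfl⟩)
    (fun v => funext fun i => by fin_cases i <;> rfl)
    fun x ⟨h0, h1⟩ => UO.ext rfl h0.symm rfl rfl rfl rfl rfl rfl rfl rfl h1.symm rfl

theorem card_Tc (P : Par K) : Nat.card (Tc P) = Nat.card K ^ 8 :=
  card_of (A := Tc P) 8 (fun v => ⟨0, 0, 0, v 0, 0, v 1, v 2, v 3, v 4, v 5, v 6, v 7⟩)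
    (fun x => ![x.a3, x.a4, x.a5, x.b6, x.a6, x.a7, x.b8, x.a8]) (fun _ => ⟨rfl, rfl, rfl, rfl⟩)
    (fun v => funext fun i => by fin_cases i <;> rfl)
    fun x ⟨h0, h1, h2, h3⟩ => UO.ext h0.symm h1.symm h2.symm rfl h3.symm rfl rfl rfl rfl rfl rfl rfl

theorem card_Td (P : Par K) : Nat.card (Td P) = Nat.card K ^ 8 :=
  card_of (A := Td P) 8 (fun v => ⟨0, 0, 0, 0, v 0, v 1, v 2, v 3, v 4, v 5, v 6, v 7⟩)
    (fun x => ![x.b4, x.a4, x.a5, x.b6, x.a6, x.a7, x.b8, x.a8]) (fun _ => ⟨rfl, rfl, rfl, rfl⟩)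
    (fun v => funext fun i => by fin_cases i <;> rfl)
    fun x ⟨h0, h1, h2, h3⟩ => UO.ext h0.symm h1.symm h2.symm h3.symm rfl rfl rfl rfl rfl rfl rfl rfl

theorem conj_v (g : UO P) (a b : K) : g * (x4 a * x6 b) * g⁻¹ = x4 (a + g.a1 * b) * x6 b := by
  rw [mul_inv_eq_iff_eq_mul]
  ext <;> simp [P.sq] <;> grind

theorem normal_all (P : Par K) : (Zs P).Normal ∧ (Vs P).Normal ∧ (Z3 P).Normal ∧ (Ws P).Normal ∧ (Qs P).Normal ∧
    (Qp P).Normal ∧ (Js P).Normal ∧ (Ph P).Normal := by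
  refine ⟨⟨?_⟩, ⟨?_⟩, ⟨?_⟩, ⟨?_⟩, ⟨?_⟩, ⟨?_⟩, ⟨?_⟩, ⟨?_⟩⟩ <;> intro x hx g
  · obtain ⟨h0, h1, h2, h3, h4, h5, h6, h7, h8, h9, h10⟩ := hx
    refine ⟨?_, ?_, ?_, ?_, ?_, ?_, ?_, ?_, ?_, ?_, ?_⟩ <;> simp [*, P.sq] <;> grind
  · obtain ⟨h0, h1, h2, h3, h4, h5, h6, h7, h8, h9⟩ := hx
    refine ⟨?_, ?_, ?_, ?_, ?_, ?_, ?_, ?_, ?_, ?_⟩ <;> simp [*, P.sq] <;> grind
  · obtain ⟨h0, h1, h2, h3, h4, h5, h6, h7, h8⟩ := hx
    refine ⟨?_, ?_, ?_, ?_, ?_, ?_, ?_, ?_, ?_⟩ <;> simp [*, P.sq] <;> grind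
  · obtain ⟨h0, h1, h2, h3, h4, h5, h6⟩ := hx
    refine ⟨?_, ?_, ?_, ?_, ?_, ?_, ?_⟩ <;> simp [*, P.sq] <;> grind
  · obtain ⟨h0, h1⟩ := hx
    refine ⟨?_, ?_⟩ <;> simp [*, P.sq] <;> grind
  · have h0 : x.a1 = 0 := hx
    simp [*, P.sq]
    grind
  · have h0 : x.b8 = 0 := hx
    simp [*, P.sq]
    grind
  · obtain ⟨h0, h1⟩ := hx
    refine ⟨?_, ?_⟩ <;> simp [*, P.sq] <;> grind

theorem exists_Qs_mul_U8 (x : UO P) : ∃ a ∈ Qs P, ∃ b ∈ U8 P, x = a * b :=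
  ⟨{ x with b8 := 0, a8 := 0 }, ⟨rfl, rfl⟩, y8 x.b8 * x8 x.a8, by simp, by ext <;> simp⟩

theorem exists_Qp_mul_x1 (x : UO P) : ∃ a ∈ Qp P, x = a * x1 x.a1 :=
  ⟨x * (x1 x.a1)⁻¹, by simp [CharTwo.add_self_eq_zero], by simp⟩

theorem dg_mem (p : Kˣ × Kˣ) (x : UO P) : (dg P p x ∈ Qs P ↔ x ∈ Qs P) ∧ (dg P p x ∈ Qp P ↔ x ∈ Qp P) ∧
    (dg P p x ∈ U8 P ↔ x ∈ U8 P) ∧ (dg P p x ∈ Zs P ↔ x ∈ Zs P) ∧ (dg P p x ∈ Vs P ↔ x ∈ Vs P) := by
  simp [c1, d2, c2, c3, d4, c4, c5, d6, c6, c7, d8, c8]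

theorem rn_mem {x : UO P} (hx : x ∈ Qs P) : rn x ∈ Qs P := ⟨rfl, rfl⟩

theorem rp_mem {x : UO P} (hx : x ∈ Qp P) : rp x ∈ Qp P := rfl

theorem rn_rn {x : UO P} (hx : x ∈ Qs P) : rn (rn x) = x := by
  obtain ⟨h0, h1⟩ := hx
  ext <;> simp [*, P.sq] <;> grind

theorem rp_rp {x : UO P} (hx : x ∈ Qp P) : rp (rp x) = x := by
  have h0 : x.a1 = 0 := hx
  ext <;> simp [*, P.sq] <;> grind

theorem rn_mul {x y : UO P} (hx : x ∈ Qs P) (hy : y ∈ Qs P) : rn (x * y) = rn x * rn y := by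
  obtain ⟨h0, h1⟩ := hx
  obtain ⟨k0, k1⟩ := hy
  ext <;> simp [*, P.sq] <;> grind

theorem rp_mul {x y : UO P} (hx : x ∈ Qp P) (hy : y ∈ Qp P) : rp (x * y) = rp x * rp y := by
  have h0 : x.a1 = 0 := hx
  have k0 : y.a1 = 0 := hy
  ext <;> simp [*, P.sq] <;> grind

theorem rp_dg (p : Kˣ × Kˣ) {x : UO P} (hx : x ∈ Qp P) : rp (dg P p x) = dg P (sp p) (rp x) := by
  have h1 : P.σ p.1 ≠ 0 := by simp
  have h2 : P.σ p.2 ≠ 0 := by simp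
  ext <;> simp [P.sq, c1, d2, c2, c3, d4, c4, c5, d6, c6, c7, d8, c8, sp] <;> field_simp <;> simp

theorem rn_dg (p : Kˣ × Kˣ) {x : UO P} (hx : x ∈ Qs P) : rn (dg P p x) = dg P (sn P p) (rn x) := by
  have h1 : P.σ p.1 ≠ 0 := by simp
  have h2 : P.σ p.2 ≠ 0 := by simp
  ext <;> simp [P.sq, c1, d2, c2, c3, d4, c4, c5, d6, c6, c7, d8, c8, sn] <;> field_simp <;> simp

theorem rp_v (a b : K) : rp (x4 a * x6 b : UO P) = x4 b * x6 a := by ext <;> simp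

theorem rn_U4 {x : UO P} (hx : x ∈ U4 P) : rn x = x := by
  obtain ⟨h0, h1, h2, h3, h4, h5, h6, h7, h8, h9⟩ := hx
  ext <;> simp [*]

theorem rn_Ws {x : UO P} (hx : x ∈ Ws P) : rn x ∈ Ws P := by
  obtain ⟨h0, h1, h2, h3, h4, h5, h6⟩ := hx
  simp [*]

theorem mem_Vs_iff_v {x : UO P} : x ∈ Vs P ↔ ∃ a b, x = x4 a * x6 b :=
  ⟨fun ⟨h0, h1, h2, h3, h4, h5, h6, h7, h8, h9⟩ => ⟨x.a4, x.a6, by ext <;> simp [*]⟩, by rintro ⟨a, b, rfl⟩; simp⟩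

theorem mem_Zs_iff_x4 {x : UO P} : x ∈ Zs P ↔ ∃ a, x = x4 a :=
  ⟨fun ⟨h0, h1, h2, h3, h4, h5, h6, h7, h8, h9, h10⟩ => ⟨x.a4, by ext <;> simp [*]⟩, by rintro ⟨a, rfl⟩; simp⟩

theorem dg_v (p : Kˣ × Kˣ) (a b : K) : dg P p (x4 a * x6 b) = x4 (c4 P p * a) * x6 (c6 P p * b) := by ext <;> simp

theorem c4_eq (p : Kˣ × Kˣ) : c4 P p = c1 p * c6 P p := by simp only [c4, c1, c6]; ring

theorem c_ne (p : Kˣ × Kˣ) : c4 P p ≠ 0 ∧ c6 P p ≠ 0 := by simp [c4, c6]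

theorem eq_of_c46 {p q : Kˣ × Kˣ} (h4 : c4 P p = c4 P q) (h6 : c6 P p = c6 P q) : p = q := by
  rw [c4_eq, c4_eq, h6] at h4
  have h1 : p.1 = q.1 := Units.ext (mul_right_cancel₀ (c_ne q).2 h4)
  refine Prod.ext h1 (Units.ext (mul_σ_inj P (mul_σ_inj P ?_)))
  simp only [c6, h1, mul_assoc, mul_eq_mul_left_iff, Units.ne_zero, or_false, σ_eq_zero] at h6
  simp only [map_mul, P.sq]
  linear_combination h6

theorem exists_c46 (P : Par K) {a b : K} (ha : a ≠ 0) (hb : b ≠ 0) : ∃ p, c4 P p = a ∧ c6 P p = b := by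
  obtain ⟨p, h⟩ := (Finite.injective_iff_surjective (f := fun p : Kˣ × Kˣ =>
    (Units.mk0 _ (c_ne (P := P) p).1, Units.mk0 _ (c_ne (P := P) p).2))).1 (fun p q e =>
      eq_of_c46 (congrArg (·.1.1) e) (congrArg (·.2.1) e)) (Units.mk0 a ha, Units.mk0 b hb)
  exact ⟨p, congrArg (·.1.1) h, congrArg (·.2.1) h⟩

theorem c_sp (p : Kˣ × Kˣ) : c4 P (sp p) = c6 P p ∧ c6 P (sp p) = c4 P p := by
  have h1 : P.σ p.1 ≠ 0 := by simp
  constructor <;> simp [c4, c6, sp] <;> field_simp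

theorem c_rank1 (t : Kˣ) : c4 P (t⁻¹ ^ 2, t) = (t⁻¹ : Kˣ) ∧ c6 P (t⁻¹ ^ 2, t) = t := by
  have h1 : P.σ t ≠ 0 := by simp
  constructor <;> simp [c4, c6] <;> field_simp

theorem sn_sp_four (p : Kˣ × Kˣ) : (fun q => sn P (sp q))^[4] p = p⁻¹ := by
  have h1 : P.σ p.1 ≠ 0 := by simp
  have h2 : P.σ p.2 ≠ 0 := by simp
  refine Prod.ext (Units.ext ?_) (Units.ext ?_) <;> simp [sn, sp, P.sq] <;> field_simp

theorem mul_sn_inv_mem (p : Kˣ × Kˣ) : p * (sn P p)⁻¹ ∈ Dp P := by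
  have h1 : P.σ p.1 ≠ 0 := by simp
  have h2 : P.σ p.2 ≠ 0 := by simp
  simp [mem_Dp, c4, sn, P.sq]
  field_simp

theorem sn_of_snd {p : Kˣ × Kˣ} (hp : p.2 = 1) : sn P p = p := Prod.ext (by simp [sn, hp]) (by simp [sn, hp])

theorem chain_Dp (p : Kˣ × Kˣ) : p ∈ Dp P ↔ (sp (sn P (sp p))).2 = 1 := by
  have h1 : ((sp (sn P (sp p))).2 : K) = d4 P p := by
    simp [sn, sp, d4]
    field_simp
  have h2 : c4 P p = d4 P p * P.σ (d4 P p) := by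
    simp only [c4, d4, map_mul, P.sq]
    ring
  rw [mem_Dp, ← Units.val_eq_one, h1, h2]
  exact ⟨fun h => mul_σ_inj P (by simpa using h), fun h => by simp [h]⟩

theorem exists_Dp_ne (P : Par K) (hq : 2 < Nat.card K) : ∃ p : Dp P, p ≠ 1 := by
  obtain ⟨t, t0, t1⟩ := exists_ne01 hq
  obtain ⟨p, h1, h2⟩ := exists_c46 P one_ne_zero t0
  refine ⟨⟨p, h1⟩, fun e => t1 ?_⟩
  rw [← h2, show p = 1 from congrArg Subtype.val e]
  simp [c6]

end UO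

end CL.Oct
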