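/-
The coordinate group `UO`: upper central series, characteristic subgroups, automorphisms acting linearly on the centre.
-/
import Cfsg.Agent.Oct.UF
import Cfsg.Agent.Grp.PGroupBasic

set_option autoImplicit false
set_option linter.unusedSectionVars false
set_option linter.unusedSimpArgs false
set_option maxRecDepth 20000

namespace CL.Oct

open UO Cfsg
open scoped commutatorElement

variable {K : Type*} [Field K] [CharP K 2] [Finite K] {P : Par K}

namespace UO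

theorem ua_comm {g v : UO P} (hv : v ∈ Z3 P) :
    ⁅g, v⁆ = x4 (g.a1 * v.a6 + g.b2 * v.a5 + g.a1 * g.b8 * v.a5) * x6 (g.b8 * v.a5) := by
  obtain ⟨h1, h2, h3, h4, h5, h6, h7, h8, h9⟩ := hv
  rw [commutatorElement_def, mul_assoc, ← mul_inv_rev, mul_inv_eq_iff_eq_mul]
  ext <;> simp [*] <;> grind

theorem ua_Vs {x g : UO P} (h : ⁅x, g⁆ ∈ Vs P) : ∃ a b, x * g = x4 a * x6 b * (g * x) := by
  obtain ⟨a, b, e⟩ := mem_Vs_iff_v.1 h
  exact ⟨a, b, by rw [← e, commutatorElement_def]; group⟩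

theorem ua_ZV : Zs P ≤ Vs P := fun _ h => by simp_all
theorem ua_VZ : Vs P ≤ Z3 P := fun _ h => by simp_all

theorem ua_comm_Vs {x : UO P} (h : x ∈ Z3 P) (g : UO P) : ⁅x, g⁆ ∈ Vs P := by
  rw [← commutatorElement_inv, ua_comm h]
  exact inv_mem (by simp)

theorem ua_one {x g : UO P} (h : Commute x g) (A : Subgroup (UO P)) : ⁅x, g⁆ ∈ A :=
  (commutatorElement_eq_one_iff_commute.2 h) ▸ one_mem A

theorem center2_Qp {x : UO P} (hx : x ∈ Qp P) : (∀ g ∈ Qp P, ⁅x, g⁆ ∈ Vs P) ↔ x ∈ Z3 P := by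
  refine ⟨fun h => ?_, fun h g _ => ua_comm_Vs h g⟩
  have h1 : x.a1 = 0 := hx
  obtain ⟨a, b, e⟩ := ua_Vs (h (y8 1) (by simp))
  obtain ⟨a', b', e'⟩ := ua_Vs (h (y2 1) (by simp))
  have h2 : x.b2 = 0 := by simpa [h1] using congrArg UO.b4 e
  have h3 : x.b6 = 0 := by have := congrArg UO.a7 e; simp [h1, h2] at this; exact this
  have h4 : x.a2 = 0 := by have := congrArg UO.a3 e; simp [h1, h2] at this; exact this
  have h5 : x.a3 = 0 := by have := congrArg UO.a5 e; simp [h1, h2, h4] at this; exact this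
  have h6 : x.b8 = 0 := by have := congrArg UO.b4 e'; simp [h1] at this; exact this
  have h7 : x.b4 = 0 := by have := congrArg UO.a3 e'; simp [h1, h6] at this; exact this
  have h8 : x.a8 = 0 := by have := congrArg UO.a7 e'; simp [h1, h6] at this; exact this
  have h9 : x.a7 = 0 := by have := congrArg UO.a5 e'; simp [h1, h6] at this; exact this
  exact ⟨h1, h2, h4, h5, h7, h3, h9, h6, h8⟩

theorem mem_Z3_iff {x : UO P} : x ∈ Z3 P ↔ ∀ g, ⁅x, g⁆ ∈ Vs P := by
  refine ⟨ua_comm_Vs, fun h => (center2_Qp ?_).1 fun g _ => h g⟩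
  obtain ⟨a, b, e⟩ := ua_Vs (h (y4 1))
  have := congrArg UO.a2 e
  simp at this
  exact this

theorem ua_mem_Vs {x : UO P} (h : x ∈ Z3 P) (e : ⁅x, y8 1⁆ ∈ Zs P) : x ∈ Vs P := by
  rw [← inv_mem_iff, commutatorElement_inv, ua_comm h] at e
  simp_all

theorem mem_Vs_iff {x : UO P} : x ∈ Vs P ↔ ∀ g, ⁅x, g⁆ ∈ Zs P := by
  refine ⟨fun h g => ?_, fun h => ua_mem_Vs (mem_Z3_iff.2 fun g => ua_ZV (h g)) (h _)⟩
  rw [← commutatorElement_inv, ua_comm (ua_VZ h)]
  exact inv_mem (by simp_all)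

theorem ua_comm_V {g v : UO P} (hv : v ∈ Vs P) : ⁅g, v⁆ = x4 (g.a1 * v.a6) := by
  rw [ua_comm (ua_VZ hv), show v.a5 = 0 by simp_all]
  ext <;> simp

theorem ua_x4 {t : K} : (x4 t : UO P) = 1 ↔ t = 0 := ⟨fun e => congrArg UO.a4 e, fun e => e ▸ rfl⟩

theorem mem_Qp_iff {x : UO P} : x ∈ Qp P ↔ ∀ v ∈ Vs P, Commute x v := by
  simp only [← commutatorElement_eq_one_iff_commute]
  refine ⟨fun h v hv => ?_, fun h => ?_⟩
  · rw [ua_comm_V hv, show x.a1 = 0 from h, zero_mul, ua_x4]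
  · have := h (x6 1) (by simp)
    rw [ua_comm_V (by simp), ua_x4] at this
    simpa using this

theorem mem_Js_iff {x : UO P} : x ∈ Js P ↔ ∀ v ∈ Z3 P, ⁅x, v⁆ ∈ Zs P := by
  refine ⟨fun h v hv => ?_, fun h => ?_⟩
  · rw [ua_comm hv, show x.b8 = 0 from h]
    simp
  · have := h (x5 1) (by simp)
    rw [ua_comm (by simp)] at this
    simpa using this

theorem center_Qp {x : UO P} (hx : x ∈ Qp P) : (∀ g ∈ Qp P, Commute x g) ↔ x ∈ Vs P :=
  ⟨fun h => ua_mem_Vs ((center2_Qp hx).1 fun g hg => ua_one (h g hg) _) (ua_one (h _ (by simp)) _),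
    fun h _ hg => (mem_Qp_iff.1 hg x h).symm⟩

theorem ua_Zs {x : UO P} (h : x ∈ Zs P) (g : UO P) : Commute g x := by
  rw [← commutatorElement_eq_one_iff_commute, ua_comm_V (ua_ZV h), show x.a6 = 0 by simp_all, mul_zero, ua_x4]

theorem cent_Qs {x : UO P} : (∀ g ∈ Qs P, Commute x g) ↔ x ∈ Zs P := by
  refine ⟨fun h => ?_, fun h g _ => (ua_Zs h g).symm⟩
  have e6 := (h (x6 1) (by simp)).eq
  have e5 := (h (x5 1) (by simp)).eq
  have e3 := (h (x3 1) (by simp)).eq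
  have e4 := (h (y4 1) (by simp)).eq
  have e1 := (h (x1 1) (by simp)).eq
  have e7 := (h (x7 1) (by simp)).eq
  have f6 := (h (y6 1) (by simp)).eq
  have f2 := (h (y2 1) (by simp)).eq
  have h1 : x.a1 = 0 := by have := congrArg UO.a4 e6; simp at this; exact this
  have h2 : x.b8 = 0 := by have := congrArg UO.a6 e5; simp at this; exact this
  have h3 : x.b2 = 0 := by have := congrArg UO.a4 e5; simp at this; exact this
  have h4 : x.a8 = 0 := by have := congrArg UO.a6 e3; simp at this; exact this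
  have h5 : x.b6 = 0 := by have := congrArg UO.a4 e3; simp [h2] at this; exact this
  have h6 : x.a7 = 0 := by have := congrArg UO.a6 e4; simp at this; exact this
  have h7 : x.b4 = 0 := by have := congrArg UO.a2 e1; simp [h1, h2, h3, h4, h5] at this; exact this
  have h8 : x.a6 = 0 := by have := congrArg UO.a4 e1; simp [h1, h2, h3, h4, h5, h6] at this; exact this
  have h9 : x.a2 = 0 := by have := congrArg UO.a4 e7; simp [h1, h3] at this; exact this
  have h10 : x.a3 = 0 := by have := congrArg UO.a4 f6; simp [h1] at this; exact this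
  have h11 : x.a5 = 0 := by have := congrArg UO.a4 f2; simp [h2, h4, h6] at this; exact this
  exact ⟨h1, h3, h9, h10, h7, h11, h5, h8, h6, h2, h4⟩

theorem center_eq (P : Par K) : Subgroup.center (UO P) = Zs P := Subgroup.ext fun _ => Subgroup.mem_center_iff.trans
  ⟨fun h => cent_Qs.1 fun g _ => (h g).symm, fun h g => ua_Zs h g⟩

theorem aut_mem (α : MulAut (UO P)) (x : UO P) : (α x ∈ Zs P ↔ x ∈ Zs P) ∧ (α x ∈ Vs P ↔ x ∈ Vs P) ∧
    (α x ∈ Z3 P ↔ x ∈ Z3 P) ∧ (α x ∈ Qp P ↔ x ∈ Qp P) ∧ (α x ∈ Js P ↔ x ∈ Js P) := by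
  have h1 : ∀ x, α x ∈ Zs P ↔ x ∈ Zs P := fun x => by
    rw [← center_eq, Subgroup.mem_center_iff, Subgroup.mem_center_iff, α.surjective.forall]
    simp only [← map_mul, α.injective.eq_iff]
  have h2 : ∀ x, α x ∈ Vs P ↔ x ∈ Vs P := fun x => by
    rw [mem_Vs_iff, mem_Vs_iff, α.surjective.forall]
    simp only [← map_commutatorElement, h1]
  have h3 : ∀ x, α x ∈ Z3 P ↔ x ∈ Z3 P := fun x => by
    rw [mem_Z3_iff, mem_Z3_iff, α.surjective.forall]
    simp only [← map_commutatorElement, h2]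
  refine ⟨h1 x, h2 x, h3 x, ?_, ?_⟩
  · rw [mem_Qp_iff, mem_Qp_iff, α.surjective.forall]
    simp only [h2, Commute, SemiconjBy, ← map_mul, α.injective.eq_iff]
  · rw [mem_Js_iff, mem_Js_iff, α.surjective.forall]
    simp only [← map_commutatorElement, h1, h3]

theorem aut1 (α : MulAut (UO P)) {κ : K} (h : ∀ t, α (x4 t) = x4 (κ * t)) :
    ∃ (p : Kˣ × Kˣ) (κ6 : K), Acts α p ∧ (∀ t, (α (x6 t)).a6 = κ6 * t) ∧ κ = c1 p * κ6 := by
  have h0 : κ ≠ 0 := fun e => one_ne_zero (ua_x4.1 (α.injective ((h 1).trans (by rw [e, zero_mul, map_one, ua_x4]))))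
  have h1 : ∀ g, ∀ v ∈ Vs P, κ * (g.a1 * v.a6) = (α g).a1 * (α v).a6 := fun g v hv => by
    have := congrArg α (ua_comm_V (g := g) hv)
    rw [map_commutatorElement, ua_comm_V ((aut_mem α v).2.1.2 hv), h] at this
    exact (congrArg UO.a4 this).symm
  have h2 : ∀ v ∈ Z3 P, κ * v.a5 = (α (y2 1)).b2 * (α v).a5 := fun v hv => by
    have e := ua_comm (g := y2 1) hv
    rw [show (x4 _ * x6 _ : UO P) = x4 v.a5 by ext <;> simp] at e
    have := congrArg α e
    rw [map_commutatorElement, ua_comm ((aut_mem α v).2.2.1.2 hv), h,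
      show (α (y2 1)).a1 = 0 from (aut_mem α _).2.2.2.1.2 rfl, show (α (y2 1)).b8 = 0 from (aut_mem α _).2.2.2.2.2 rfl]
      at this
    simpa using (congrArg UO.a4 this).symm
  have h3 := h1 (x1 1) (x6 1) (by simp)
  have h4 := h2 (x5 1) (by simp)
  simp only [x1_a1, x6_a6, x5_a5, mul_one] at h3 h4
  have h5 := h3 ▸ h0
  have h6 := h4 ▸ h0
  rw [mul_ne_zero_iff] at h5 h6
  have h7 : ∀ v ∈ Vs P, (α v).a6 = (α (x6 1)).a6 * v.a6 := fun v hv => mul_left_cancel₀ h5.1 (by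
    rw [← h1 _ v hv, h3]; simp [mul_assoc])
  refine ⟨(Units.mk0 _ h5.1, Units.mk0 _ (div_ne_zero h5.2 h6.2)), _, fun x => ⟨mul_right_cancel₀ h5.2 ?_, ?_⟩,
    fun t => h7 _ (by simp), h3⟩
  · rw [← h1 x _ (by simp), h3]
    simp [c1]; ring
  · have e := ua_comm (g := x) (v := x5 1) (by simp)
    have := h7 ⁅x, x5 1⁆ (by rw [e]; simp)
    rw [map_commutatorElement, ua_comm ((aut_mem α _).2.2.1.2 (by simp)), e] at this
    simp only [d8, Units.val_mk0]
    rw [div_mul_eq_mul_div, eq_div_iff h6.2]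
    simpa using this

theorem exists_stdA {N : Subgroup (UO P)} (hN : N.Normal) (h : ¬ N ≤ Zs P) : ∃ x ∈ N, StdA x := by
  have hZ := (normal_all P).1
  have h1 : N.map (QuotientGroup.mk' (Zs P)) ≠ ⊥ := fun e => h (by
    rwa [Subgroup.map_eq_bot_iff, QuotientGroup.ker_mk'] at e)
  have h2 := hN.map _ (QuotientGroup.mk'_surjective (Zs P))
  have h3 : Group.IsNilpotent (UO P ⧸ Zs P) := ((isPGroup P).to_quotient _).isNilpotent
  obtain ⟨⟨_, ⟨x, hx, rfl⟩, h4⟩, h5⟩ := Subgroup.ne_bot_iff_exists_ne_one.1 (CL.Grp.inf_center_ne_bot h1)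
  have h6 : x ∈ Vs P := mem_Vs_iff.2 fun g => (QuotientGroup.eq_one_iff _).1 (by
    rw [← QuotientGroup.mk'_apply, map_commutatorElement, commutatorElement_eq_one_iff_mul_comm]
    exact (Subgroup.mem_center_iff.1 h4 _).symm)
  exact ⟨x, hx, h6, fun e => h5 (Subtype.ext ((QuotientGroup.eq_one_iff x).2 (by simp_all)))⟩

theorem Zs_le_commutator (P : Par K) : Zs P ≤ commutator (UO P) := fun x hx => by
  obtain ⟨a, rfl⟩ := mem_Zs_iff_x4.1 hx
  have := ua_comm_V (g := (x1 a : UO P)) (v := x6 1) (by simp)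
  rw [x1_a1, x6_a6, mul_one] at this
  exact this ▸ Subgroup.commutator_mem_commutator trivial trivial

end UO

end CL.Oct
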