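/-
The coordinate group `UO`: the Frattini subgroup, automorphisms acting trivially on `U / Ph`.
-/
import Cfsg.Agent.Oct.UF
import Cfsg.Agent.Oct.UA
import Cfsg.Agent.Inv.Metacyc2

set_option autoImplicit false
set_option linter.unusedSectionVars false
set_option linter.unusedSimpArgs false
set_option maxRecDepth 20000

namespace CL.Oct

open UO Cfsg

variable {K : Type*} [Field K] [CharP K 2] [Finite K] {P : Par K}

namespace UO

namespace UB

variable {A : Type*} [Group A] (hA : ∀ a : A, a * a = 1) (f : UO P →* A)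
include hA

theorem eq_of {a b : A} (h : a * b = 1) : a = b := by
  rw [eq_inv_of_mul_eq_one_left h, inv_eq_of_mul_eq_one_right (hA b)]

theorem fcom (a b : UO P) : f ((a * b)⁻¹ * (b * a)) = 1 := by
  have e : ∀ a : A, a⁻¹ = a := fun a => inv_eq_of_mul_eq_one_right (hA a)
  rw [map_mul, map_inv, inv_mul_eq_one, map_mul, map_mul, ← e (f a * f b), mul_inv_rev, e, e]

theorem fsq (a : UO P) : f (a * a) = 1 := by rw [map_mul, hA]

theorem fx (t : K) : f (x2 t) = 1 ∧ f (x4 t) = 1 ∧ f (x6 t) = 1 ∧ f (x8 t) = 1 ∧ f (x3 t) = 1 ∧ f (x5 t) = 1 ∧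
    f (x7 t) = 1 := by
  obtain ⟨s, hs⟩ := exists_mul_σ P t
  refine ⟨?_, ?_, ?_, ?_, ?_, ?_, ?_⟩
  · rw [← fsq hA f (y2 s)]; congr 1; ext <;> simp [hs, CharTwo.add_self_eq_zero]
  · rw [← fsq hA f (y4 s)]; congr 1; ext <;> simp [hs, CharTwo.add_self_eq_zero]
  · rw [← fsq hA f (y6 s)]; congr 1; ext <;> simp [hs, CharTwo.add_self_eq_zero]
  · rw [← fsq hA f (y8 s)]; congr 1; ext <;> simp [hs, CharTwo.add_self_eq_zero]
  · rw [← fcom hA f (y2 t) (y4 1)]; congr 1; ext <;> simp [P.sq] <;> grind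
  · rw [← fcom hA f (y4 t) (y6 1)]; congr 1; ext <;> simp [P.sq] <;> grind
  · rw [← fcom hA f (y6 t) (y8 1)]; congr 1; ext <;> simp [P.sq] <;> grind

theorem fPh {x : UO P} (hx : x ∈ Ph P) : f x = f (y2 x.b2) * f (y4 x.b4) * f (y6 x.b6) := by
  have e1 : (x1 0 : UO P) = 1 := rfl
  have e2 : (y8 0 : UO P) = 1 := rfl
  conv_lhs => rw [nf x]
  simp only [map_mul, hx.1, hx.2, e1, e2, map_one, fx hA f, one_mul, mul_one]

theorem r1 (t u : K) : f (y4 (P.σ t * u)) = f (y6 (t * u)) := by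
  have h := fcom hA f (x1 t) (x8 u)
  rw [fPh hA f (by simp [CharTwo.add_self_eq_zero])] at h
  rw [show ((x1 t * x8 u)⁻¹ * (x8 u * x1 t) : UO P).b2 = 0 by simp,
    show ((x1 t * x8 u)⁻¹ * (x8 u * x1 t) : UO P).b4 = P.σ t * u by simp; grind,
    show ((x1 t * x8 u)⁻¹ * (x8 u * x1 t) : UO P).b6 = t * u by simp; grind,
    show (y2 0 : UO P) = 1 from rfl, map_one, one_mul] at h
  exact eq_of hA h

theorem r2 (t : K) : f (y2 t) = f (y4 (P.σ t)) := by
  have h := fcom hA f (x1 t) (y8 1)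
  rw [fPh hA f (by simp [CharTwo.add_self_eq_zero])] at h
  rw [show ((x1 t * y8 1)⁻¹ * (y8 1 * x1 t) : UO P).b2 = t by simp; grind,
    show ((x1 t * y8 1)⁻¹ * (y8 1 * x1 t) : UO P).b4 = P.σ t by simp; grind,
    show ((x1 t * y8 1)⁻¹ * (y8 1 * x1 t) : UO P).b6 = 0 by simp; grind,
    show (y6 0 : UO P) = 1 from rfl, map_one, mul_one] at h
  exact eq_of hA h

theorem r3 (u : K) : f (y6 u) = f (y4 u) := by simpa using (r1 hA f 1 u).symm

theorem big (hq : 2 < Nat.card K) {x : UO P} (hx : x ∈ Ph P) : f x = 1 := by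
  obtain ⟨t, ht⟩ := exists_σ_ne P hq
  have e : ∀ s, f (y4 s) = 1 := fun s => by
    have h0 : P.σ t + t ≠ 0 := fun e => ht (CharTwo.add_eq_zero.1 e)
    obtain ⟨u, rfl⟩ : ∃ u, s = (P.σ t + t) * u := ⟨(P.σ t + t)⁻¹ * s, by rw [mul_inv_cancel_left₀ h0]⟩
    have h1 : (y4 (P.σ t * u) * y4 (t * u) : UO P) = y4 ((P.σ t + t) * u) * x4 (P.σ t * u * P.σ (t * u)) := by
      ext <;> simp [add_mul]
    have h2 := congrArg f h1
    rwa [map_mul, map_mul, (fx hA f _).2.1, mul_one, r1 hA f, r3 hA f, hA, eq_comm] at h2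
  rw [fPh hA f hx, r2 hA f, r3 hA f, e, e, e, one_mul, one_mul]

theorem two : ∃ c : A, ∀ x ∈ Ph P, f x = 1 ∨ f x = c := by
  by_cases hq : 2 < Nat.card K
  · exact ⟨1, fun x hx => .inl (big hA f hq hx)⟩
  have := Fintype.ofFinite K
  have e : ∀ s, f (y4 s) = 1 ∨ f (y4 s) = f (y4 1) := fun s => by
    by_cases h0 : s = 0
    · exact .inl (h0 ▸ map_one f)
    by_cases h1 : s = 1
    · exact .inr (h1 ▸ rfl)
    exact absurd (Nat.card_eq_fintype_card (α := K) ▸ Fintype.two_lt_card_iff.2 ⟨s, 0, 1, h0, h1, zero_ne_one⟩) hq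
  refine ⟨f (y4 1), fun x hx => ?_⟩
  rw [fPh hA f hx, r2 hA f, r3 hA f]
  rcases e (P.σ x.b2) with a | a <;> rcases e x.b4 with b | b <;> rcases e x.b6 with c | c <;> simp [a, b, c, hA]

end UB

theorem hom_Ph (hq : 2 < Nat.card K) (f : UO P →* Multiplicative (ZMod 2)) {x : UO P} (hx : x ∈ Ph P) : f x = 1 :=
  UB.big (by decide) f hq hx

theorem pow_eq_one_of_acts {α : MulAut (UO P)} (h : Acts α 1) : ∃ k, α ^ 2 ^ k = 1 := by
  have := Fact.mk Nat.prime_two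
  have hA : ∀ a : UO P ⧸ frattini (UO P), a * a = 1 := fun a => by
    rw [← sq]; exact CL.Grp.quotient_frattini_pow_eq_one (isPGroup P) a
  obtain ⟨c, hc⟩ := UB.two hA (QuotientGroup.mk' (frattini (UO P)))
  have h' : ∀ x, (α x).a1 = x.a1 ∧ (α x).b8 = x.b8 := fun x => by simpa [c1, d8] using h x
  have h2 : ∀ x, x⁻¹ * (α ^ 2) x ∈ frattini (UO P) := fun x => by
    have m : x⁻¹ * α x ∈ Ph P := by simp [h', CharTwo.add_self_eq_zero]
    have m' : α (x⁻¹ * α x) ∈ Ph P := ⟨(h' _).1.trans m.1, (h' _).2.trans m.2⟩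
    rw [show x⁻¹ * (α ^ 2) x = x⁻¹ * α x * α (x⁻¹ * α x) by simp [sq]]
    by_cases e : x⁻¹ * α x ∈ frattini (UO P)
    · exact mul_mem e ((CL.Inv.aut_mem_frattini α).2 e)
    · have e1 := (hc _ m).resolve_left fun e1 => e ((QuotientGroup.eq_one_iff _).1 e1)
      have e2 := (hc _ m').resolve_left fun e1 => e ((CL.Inv.aut_mem_frattini α).1 ((QuotientGroup.eq_one_iff _).1 e1))
      exact (QuotientGroup.eq_one_iff _).1 (by
        rw [← QuotientGroup.mk'_apply, map_mul, e1, e2, hA])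
  have h3 : ∀ (n : ℕ) x, x⁻¹ * ((α ^ 2) ^ n) x ∈ frattini (UO P) := fun n => by
    induction n with
    | zero => simp
    | succ n ih =>
      intro x
      have := mul_mem (ih x) (h2 (((α ^ 2) ^ n) x))
      rwa [mul_assoc, mul_inv_cancel_left, ← MulAut.mul_apply, ← pow_succ'] at this
  obtain ⟨k, m, hm, e⟩ := Nat.exists_eq_two_pow_mul_odd (orderOf_pos α).ne'
  refine ⟨k + 1, CL.Inv.aut_eq_one_of_mod_frattini (isPGroup P) (Odd.of_dvd_nat hm (orderOf_dvd_of_pow_eq_one ?_)) ?_⟩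
  · rw [← pow_mul, pow_succ', mul_assoc, ← e, mul_comm, pow_mul, pow_orderOf_eq_one, one_pow]
  · rw [pow_succ', pow_mul]; exact h3 _

theorem aut2 (α : MulAut (UO P)) {κ : K} (h : ∀ t, α (x4 t) = x4 (κ * t)) :
    ∃ p : Kˣ × Kˣ, Acts α p ∧ κ = c4 P p ∧ ∀ t, (α (x6 t)).a6 = c6 P p * t := by
  obtain ⟨p, κ6, h1, h2, h3⟩ := aut1 α h
  obtain ⟨k, hk⟩ := pow_eq_one_of_acts (α := dg P p⁻¹ * α) fun x => by
    simp [-map_inv, (h1 x).1, (h1 x).2, c1, d8]
  have e1 : c4 P p⁻¹ * c4 P p = 1 := by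
    have := congrArg UO.a4 (dgF_dgF P p⁻¹ p (x4 1))
    rw [inv_mul_cancel, dgF_one] at this
    simpa [dgF] using this
  have e2 : ∀ n : ℕ, ((dg P p⁻¹ * α) ^ n) (x4 1) = x4 ((c4 P p⁻¹ * κ) ^ n) := fun n => by
    induction n with
    | zero => simp
    | succ n ih =>
      rw [pow_succ', MulAut.mul_apply, ih, MulAut.mul_apply, h]
      ext <;> simp [-map_inv, pow_succ', mul_assoc]
  have e3 := congrArg UO.a4 (e2 (2 ^ k))
  rw [hk] at e3
  have e4 : κ = c4 P p := by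
    have := units_eq_one_of_pow (t := c4 P p⁻¹ * κ) (k := k) (by simpa using e3.symm)
    rw [← mul_one κ, ← e1, ← mul_assoc, mul_comm κ, this, one_mul]
  refine ⟨p, h1, e4, fun t => ?_⟩
  rw [h2, mul_left_cancel₀ (show c1 p ≠ 0 from p.1.ne_zero) (h3.symm.trans (e4.trans (c4_eq p)))]

end UO

end CL.Oct
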