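/-
Centralizers of the standard involutions in the coordinate group `UO` and characteristic subgroups.
-/
import Cfsg.Agent.Oct.UF

set_option autoImplicit false
set_option linter.unusedSectionVars false
set_option linter.unusedSimpArgs false
set_option linter.unusedVariables false
set_option linter.unusedTactic false
set_option linter.unreachableTactic false
set_option linter.unnecessarySeqFocus false
set_option maxRecDepth 20000

namespace CL.Oct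

open UO Cfsg
open scoped commutatorElement

variable {K : Type*} [Field K] [CharP K 2] [Finite K] {P : Par K}

namespace UO

theorem cent_stdA {a : UO P} (h : StdA a) : Subgroup.centralizer {a} = Qp P := by
  obtain ⟨⟨h0, h1, h2, h3, h4, h5, h6, h7, h8, h9⟩, t0⟩ := h
  ext x
  rw [Subgroup.mem_centralizer_singleton_iff, mem_Qp]
  refine ⟨fun h => ?_, fun h => by ext <;> simp [*] <;> grind⟩
  have e := congrArg UO.a4 h
  simp [h0, h1, h2, h3, h4, h5, h6, h7, h8, h9] at e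
  grind

theorem cent_stdB {a : UO P} (h : StdB a) : Subgroup.centralizer {a} = Tb P := by
  obtain ⟨t, t0, rfl⟩ := h
  ext x
  rw [Subgroup.mem_centralizer_singleton_iff, mem_Tb]
  refine ⟨fun h => ?_, fun ⟨h0, h1⟩ => by ext <;> simp [*] <;> grind⟩
  have e1 := congrArg UO.a6 h
  have e2 := congrArg UO.a4 h
  simp [t0] at e1 e2
  grind

theorem cent_stdC {a : UO P} (h : StdC a) : Subgroup.centralizer {a} = Tc P := by
  obtain ⟨t, t0, rfl⟩ := h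
  ext x
  rw [Subgroup.mem_centralizer_singleton_iff, mem_Tc]
  refine ⟨fun h => ?_, fun ⟨h0, h1, h2, h3⟩ => by ext <;> simp [*] <;> grind⟩
  have e1 := congrArg UO.a3 h
  simp [t0] at e1
  have e2 := congrArg UO.a5 h
  simp [t0, e1] at e2
  have e3 := congrArg UO.a6 h
  have e4 := congrArg UO.a4 h
  simp [t0, e1, e2] at e3 e4
  grind

theorem cent_stdD {a : UO P} (h : StdD a) : Subgroup.centralizer {a} = Td P := by
  obtain ⟨t, s, t0, rfl⟩ := h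
  ext x
  rw [Subgroup.mem_centralizer_singleton_iff, mem_Td]
  refine ⟨fun h => ?_, fun ⟨h0, h1, h2, h3⟩ => by ext <;> simp [*] <;> grind⟩
  have e1 := congrArg UO.b6 h
  simp [t0] at e1
  have e2 := congrArg UO.a7 h
  simp [t0, e1] at e2
  have e3 := congrArg UO.a5 h
  simp [t0, e1, e2] at e3
  have e4 := congrArg UO.a6 h
  simp [t0, e1, e2, e3] at e4
  exact ⟨e1, e2, e3, e4⟩

theorem Std.sq {a : UO P} (h : Std a) : a * a = 1 ∧ a ∉ Zs P := by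
  rcases h with ⟨⟨h0, h1, h2, h3, h4, h5, h6, h7, h8, h9⟩, t0⟩ | ⟨t, t0, rfl⟩ | ⟨t, t0, rfl⟩ | ⟨t, s, t0, rfl⟩ <;>
    exact ⟨by ext <;> simp [*, CharTwo.add_self_eq_zero], by simp [*]⟩

theorem Std.of_Ws {a : UO P} (h : Std a) (hW : a ∈ Ws P) : StdA a ∨ StdB a := by
  rcases h with h | h | ⟨t, t0, rfl⟩ | ⟨t, s, t0, rfl⟩
  exacts [Or.inl h, Or.inr h, absurd hW (by simp [t0]), absurd hW (by simp [t0])]

/-- coordinates `a4, …, a8` only -/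
def UCA (P : Par K) : Subgroup (UO P) where
  carrier := {x | x.a1 = 0 ∧ x.b2 = 0 ∧ x.a2 = 0 ∧ x.a3 = 0 ∧ x.b4 = 0 ∧ x.b6 = 0 ∧ x.b8 = 0}
  one_mem' := by simp
  mul_mem' := by
    rintro x y ⟨h0, h1, h2, h3, h4, h5, h6⟩ ⟨k0, k1, k2, k3, k4, k5, k6⟩
    simp [*]
  inv_mem' := by
    rintro x ⟨h0, h1, h2, h3, h4, h5, h6⟩
    simp [*]

theorem comm_le_UCA {T : Subgroup (UO P)} (hT : T = Tc P ∨ T = Td P) : ⁅T, T⁆ ≤ UCA P := Subgroup.commutator_le.2 (by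
  rcases hT with rfl | rfl <;> rintro x ⟨h0, h1, h2, h3⟩ y ⟨k0, k1, k2, k3⟩ <;>
    refine ⟨?_, ?_, ?_, ?_, ?_, ?_, ?_⟩ <;> simp [commutatorElement_def, *, P.sq] <;> grind)

theorem comm_UCA_le {T : Subgroup (UO P)} (hT : T = Tc P ∨ T = Td P) : ⁅UCA P, T⁆ ≤ V6 P := Subgroup.commutator_le.2 (by
  rcases hT with rfl | rfl <;> rintro x ⟨h0, h1, h2, h3, h4, h5, h6⟩ y ⟨k0, k1, k2, k3⟩ <;>
    refine ⟨?_, ?_, ?_, ?_, ?_, ?_, ?_, ?_, ?_, ?_, ?_⟩ <;> simp [commutatorElement_def, *, P.sq] <;> grind)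

theorem gamma3 {T : Subgroup (UO P)} (hT : T = Tc P ∨ T = Td P) : ⁅⁅T, T⁆, T⁆ = V6 P := by
  refine le_antisymm ((Subgroup.commutator_mono (comm_le_UCA hT) le_rfl).trans (comm_UCA_le hT))
    fun x ⟨h0, h1, h2, h3, h4, h5, h6, h7, h8, h9, h10⟩ => ?_
  obtain ⟨c, hc, e⟩ : ∃ c ∈ ⁅T, T⁆, c.a5 = x.a6 := by
    rcases hT with rfl | rfl
    · exact ⟨⁅x3 x.a6, y8 1⁆, Subgroup.commutator_mem_commutator (by simp) (by simp), by
        simp [commutatorElement_def, P.sq]⟩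
    · exact ⟨⁅y4 x.a6, y6 1⁆, Subgroup.commutator_mem_commutator (by simp) (by simp), by
        simp [commutatorElement_def, P.sq]⟩
  obtain ⟨k0, k1, k2, k3, k4, k5, k6⟩ := comm_le_UCA hT hc
  rw [show x = ⁅c, (y8 1 : UO P)⁆ by ext <;> simp [commutatorElement_def, *, P.sq] <;> grind]
  exact Subgroup.commutator_mem_commutator hc (by rcases hT with rfl | rfl <;> simp)

theorem cen_Tb {z : UO P} (hz : z ∈ Tb P) (h : ∀ g ∈ Tb P, Commute z g) :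
    z.a1 = 0 ∧ z.a2 = 0 ∧ z.a3 = 0 ∧ z.b4 = 0 ∧ z.b6 = 0 ∧ z.a6 = 0 ∧ z.a7 = 0 ∧ z.a8 = 0 := by
  obtain ⟨h0, h1⟩ := hz
  have e1 := congrArg UO.a2 (h (y4 1) (by simp)).eq
  have e2 := congrArg UO.a6 (h (x3 1) (by simp)).eq
  simp [h0, h1] at e1 e2
  have e3 := congrArg UO.a6 (h (y4 1) (by simp)).eq
  have e4 := congrArg UO.a6 (h (x7 1) (by simp)).eq
  have e5 := congrArg UO.a4 (h (x7 1) (by simp)).eq
  have e6 := congrArg UO.a4 (h (x3 1) (by simp)).eq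
  simp [h0, h1, e1, e2] at e3 e4 e5 e6
  have e7 := congrArg UO.a6 (h (x8 1) (by simp)).eq
  have e8 := congrArg UO.a4 (h (x1 1) (by simp)).eq
  simp [h0, h1, e1, e2, e3, e4, e5, e6] at e7 e8
  exact ⟨e1, e5, e7, e4, e6, e8, e3, e2⟩

theorem z2_Tb {a : UO P} (ha : a ∈ Tb P) (h : ∀ g ∈ Tb P, ∃ z : UO P, z.b2 = 0 ∧ z.b8 = 0 ∧
    (z.a1 = 0 ∧ z.a2 = 0 ∧ z.a3 = 0 ∧ z.b4 = 0 ∧ z.b6 = 0 ∧ z.a6 = 0 ∧ z.a7 = 0 ∧ z.a8 = 0) ∧ a * g = z * (g * a)) :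
    a ∈ Ws P ∧ (a.a2 = 0 → a.a3 = 0) := by
  obtain ⟨h0, h1⟩ := ha
  obtain ⟨z, k0, k1, ⟨k2, k3, k4, k5, k6, k7, k8, k9⟩, e⟩ := h (y4 1) (by simp)
  have e1 := congrArg UO.a2 e
  simp [h0, h1, k0, k1, k2, k3, k4, k5, k6, k7, k8, k9] at e1
  have e2 := congrArg UO.a6 e
  simp [h0, h1, k0, k1, k2, k3, k4, k5, k6, k7, k8, k9, e1] at e2
  clear e
  obtain ⟨z, k0, k1, ⟨k2, k3, k4, k5, k6, k7, k8, k9⟩, e⟩ := h (x3 1) (by simp)
  have e3 := congrArg UO.a6 e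
  simp [h0, h1, k0, k1, k2, k3, k4, k5, k6, k7, k8, k9] at e3
  clear e
  obtain ⟨z, k0, k1, ⟨k2, k3, k4, k5, k6, k7, k8, k9⟩, e⟩ := h (x1 1) (by simp)
  have e4 := congrArg UO.a3 e
  simp [h0, h1, k0, k1, k2, k3, k4, k5, k6, k7, k8, k9, e1, e2, e3] at e4
  have e5 := congrArg UO.a2 e
  simp [h0, h1, k0, k1, k2, k3, k4, k5, k6, k7, k8, k9, e1, e2, e3, e4] at e5
  clear e
  refine ⟨⟨e1, h0, e5, e4, e2, h1, e3⟩, fun e6 => ?_⟩
  obtain ⟨z, k0, k1, ⟨k2, k3, k4, k5, k6, k7, k8, k9⟩, e⟩ := h (x8 1) (by simp)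
  have e7 := congrArg UO.a6 e
  simpa [h0, h1, k0, k1, k2, k3, k4, k5, k6, k7, k8, k9, e1, e2, e3, e4, e5, e6] using e7

theorem comm_Z3_Tb {a g : UO P} (ha : a ∈ Z3 P) (hg : g ∈ Tb P) : ⁅g, a⁆ ∈ Zs P := by
  obtain ⟨h0, h1, h2, h3, h4, h5, h6, h7, h8⟩ := ha
  obtain ⟨k0, k1⟩ := hg
  refine ⟨?_, ?_, ?_, ?_, ?_, ?_, ?_, ?_, ?_, ?_, ?_⟩ <;> simp [commutatorElement_def, *, P.sq] <;> grind

theorem Zs_eq_x1 {z : UO P} (hz : z ∈ Zs P) : z = ⁅(x1 z.a4 : UO P), (x6 1 : UO P)⁆ := by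
  obtain ⟨k0, k1, k2, k3, k4, k5, k6, k7, k8, k9, k10⟩ := hz
  ext <;> simp [commutatorElement_def, *] <;> grind

theorem Zs_eq_x7 {z a : UO P} (hz : z ∈ Zs P) (ha : a ∈ Ws P) (e : a.a2 ≠ 0) : z = ⁅(x7 (z.a4 / a.a2) : UO P), a⁆ := by
  obtain ⟨k0, k1, k2, k3, k4, k5, k6, k7, k8, k9, k10⟩ := hz
  obtain ⟨h0, h1, h2, h3, h4, h5, h6⟩ := ha
  ext <;> simp [commutatorElement_def, *] <;> grind

theorem Zs_comm {z : UO P} (hz : z ∈ Zs P) (g : UO P) : z * g = g * z := by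
  obtain ⟨k0, k1, k2, k3, k4, k5, k6, k7, k8, k9, k10⟩ := hz
  ext <;> simp [*]
  grind

theorem aut_Tb (α : MulAut (Tb P)) (x : Tb P) (hx : (x : UO P) ∈ Zs P) : ((α x : Tb P) : UO P) ∈ Zs P := by
  obtain ⟨v, hv6⟩ : ∃ v : Tb P, (v : UO P) = x6 1 := ⟨⟨x6 1, by simp⟩, rfl⟩
  have cc : ∀ a b : Tb P, ((⁅a, b⁆ : Tb P) : UO P) = ⁅(a : UO P), (b : UO P)⁆ := map_commutatorElement (Tb P).subtype
  have hv : ∀ g : Tb P, ((⁅g, v⁆ : Tb P) : UO P) ∈ Zs P := fun g => by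
    rw [cc]
    exact comm_Z3_Tb (by simp [hv6]) g.2
  have hc : ∀ z : Tb P, (z : UO P) ∈ Zs P → ∀ g : Tb P, Commute z g := fun z hz g => Subtype.ext (Zs_comm hz g)
  obtain ⟨hW, h7⟩ := z2_Tb (α v).2 fun g hg => by
    refine ⟨(α ⁅α.symm ⟨g, hg⟩, v⁆⁻¹ : Tb P), (α _).2.1, (α _).2.2, cen_Tb (α _).2 fun y hy => ?_, ?_⟩
    · exact congrArg Subtype.val (show α _ * ⟨y, hy⟩ = ⟨y, hy⟩ * α _ by
        simpa using congrArg α ((hc _ (hv (α.symm ⟨g, hg⟩)) (α.symm ⟨y, hy⟩)).inv_left).eq)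
    · simp [commutatorElement_def, mul_assoc]
  by_cases e : (α v : UO P).a2 = 0
  · obtain ⟨w, hw⟩ : ∃ w : Tb P, (w : UO P) = x1 (x : UO P).a4 := ⟨⟨x1 _, by simp⟩, rfl⟩
    have : x = ⁅w, v⁆ := Subtype.ext (by rw [cc, hv6, hw]; exact Zs_eq_x1 hx)
    obtain ⟨h0, h1, h2, h3, h4, h5, h6⟩ := hW
    rw [this, map_commutatorElement, cc]
    exact comm_Z3_Tb ⟨h0, h1, e, h7 e, h2, h3, h4, h5, h6⟩ (α _).2
  have hs : ∀ z : (Zs P).subgroupOf (Tb P), α.symm z ∈ (Zs P).subgroupOf (Tb P) := by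
    rintro ⟨z, hz⟩
    obtain ⟨w, hw⟩ : ∃ w : Tb P, (w : UO P) = x7 ((z : UO P).a4 / (α v : UO P).a2) := ⟨⟨x7 _, by simp⟩, rfl⟩
    have : z = ⁅w, α v⁆ := Subtype.ext (by rw [cc, hw]; exact Zs_eq_x7 hz hW e)
    change α.symm z ∈ _
    rw [this, map_commutatorElement, MulEquiv.symm_apply_apply]
    exact hv _
  obtain ⟨z, hz⟩ := Finite.injective_iff_surjective.1
    (show Function.Injective (fun z => ⟨α.symm z, hs z⟩ : (Zs P).subgroupOf (Tb P) → (Zs P).subgroupOf (Tb P)) from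
      fun a b h => Subtype.ext (α.symm.injective (congrArg Subtype.val h))) ⟨x, hx⟩
  rw [← show α.symm z = x from congrArg Subtype.val hz, MulEquiv.apply_symm_apply]
  exact z.2

theorem Tp_facts {T : Subgroup (UO P)} (hT : T = Tc P ∨ T = Td P) : Vs P ≤ T ∧ T ≤ Tp P ∧ Tp P ≤ Qp P ∧
    Tp P ≤ Subgroup.normalizer (T : Set (UO P)) ∧
    (∀ x ∈ T, (∀ y ∈ T, Commute x y) → ∀ g ∈ Tp P, ⁅x, g⁆ ∈ V6 P) ∧
    (∀ x ∈ T, (∀ g ∈ Tp P, Commute x g) → x ∈ Vs P) := by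
  refine ⟨?_, ?_, fun x hx => hx.1, fun g ⟨k0, k1, k2⟩ => Subgroup.mem_normalizer_fintype fun x hx => ?_, ?_, ?_⟩
  · rcases hT with rfl | rfl <;> rintro x ⟨h0, h1, h2, h3, h4, -⟩ <;> exact ⟨h0, h1, h2, ‹_›⟩
  · rcases hT with rfl | rfl <;> rintro x ⟨h0, h1, h2, -⟩ <;> exact ⟨h0, h1, h2⟩
  · rcases hT with rfl | rfl <;> obtain ⟨h0, h1, h2, h3⟩ := hx <;> refine ⟨?_, ?_, ?_, ?_⟩ <;>
      simp [*, P.sq] <;> grind
  · rcases hT with rfl | rfl <;> rintro x ⟨h0, h1, h2, h3⟩ h g ⟨k0, k1, k2⟩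
    · have e1 := congrArg UO.a5 (h (x3 1) (by simp)).eq
      simp [h0, h1, h2, h3] at e1
      have e2 := congrArg UO.a4 (h (x3 1) (by simp)).eq
      have e3 := congrArg UO.a6 (h (x3 1) (by simp)).eq
      have e4 := congrArg UO.a4 (h (y6 1) (by simp)).eq
      have e5 := congrArg UO.a6 (h (y8 1) (by simp)).eq
      simp [h0, h1, h2, h3, e1] at e2 e3 e4 e5
      clear h
      refine ⟨?_, ?_, ?_, ?_, ?_, ?_, ?_, ?_, ?_, ?_, ?_⟩ <;> simp [commutatorElement_def, *, P.sq] <;> grind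
    · have e1 := congrArg UO.a6 (h (x5 1) (by simp)).eq
      have e2 := congrArg UO.a6 (h (x7 1) (by simp)).eq
      have e3 := congrArg UO.a7 (h (y8 1) (by simp)).eq
      have e4 := congrArg UO.a6 (h (y8 1) (by simp)).eq
      simp [h0, h1, h2, h3] at e1 e2 e3 e4
      have e5 := congrArg UO.a6 (h (y4 1) (by simp)).eq
      simp [h0, h1, h2, h3, e1] at e5
      clear h
      refine ⟨?_, ?_, ?_, ?_, ?_, ?_, ?_, ?_, ?_, ?_, ?_⟩ <;> simp [commutatorElement_def, *, P.sq] <;> grind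
  · intro x hx h
    obtain ⟨h0, h1, h2⟩ : x ∈ Tp P := by rcases hT with rfl | rfl <;> exact ⟨hx.1, hx.2.1, hx.2.2.1⟩
    have e1 := congrArg UO.a6 (h (x5 1) (by simp)).eq
    have e2 := congrArg UO.a6 (h (x7 1) (by simp)).eq
    have e3 := congrArg UO.a7 (h (y8 1) (by simp)).eq
    have e4 := congrArg UO.a6 (h (y8 1) (by simp)).eq
    have e5 := congrArg UO.a6 (h (x8 1) (by simp)).eq
    simp [h0, h1, h2] at e1 e2 e3 e4 e5
    have e6 := congrArg UO.a6 (h (y4 1) (by simp)).eq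
    have e7 := congrArg UO.a6 (h (x3 1) (by simp)).eq
    simp [h0, h1, h2, e1] at e6 e7
    exact ⟨h0, h1, h2, e5, e2, e4, e3, e6, e1, e7⟩

end UO
end CL.Oct
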