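/-
Every involution of the coordinate group `UO` is moved to a standard one.
-/
import Cfsg.Agent.Oct.D
import Cfsg.Agent.Oct.UF

set_option autoImplicit false
set_option linter.unusedSectionVars false
set_option linter.unusedSimpArgs false
set_option linter.unnecessarySeqFocus false
set_option maxRecDepth 20000

namespace CL.Oct

open UO Cfsg

variable {K : Type*} [Field K] [CharP K 2] [Finite K] {P : Par K}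

theorem Mv.trans {a b c : UO P} (h : Mv a b) (h' : Mv b c) : Mv a c := by
  induction h' with
  | refl => exact h
  | conj g _ ih => exact ih.conj g
  | rn _ hb ih => exact ih.rn hb

theorem Mv.mem_Ws {a b : UO P} (h : Mv a b) (ha : a ∈ Ws P) : b ∈ Ws P := by
  induction h with
  | refl => exact ha
  | conj g _ ih => exact (normal_all P).2.2.2.1.conj_mem _ ih g
  | rn _ _ ih => exact rn_Ws ih

namespace UD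

/-- `a` can be moved to a standard element -/
def Ok (a : UO P) : Prop := ∃ b, Std b ∧ Mv a b

variable {a : UO P}

theorem Ok.conj (g : UO P) (h : Ok (g * a * g⁻¹)) : Ok a :=
  let ⟨b, h1, h2⟩ := h; ⟨b, h1, (Mv.refl.conj g).trans h2⟩

theorem Ok.rn (ha : a ∈ Qs P) (h : Ok (rn a)) : Ok a :=
  let ⟨b, h1, h2⟩ := h; ⟨b, h1, (Mv.refl.rn ha).trans h2⟩

theorem cW (h : a ∈ Ws P) (g : UO P) : g * a * g⁻¹ ∈ Ws P := (normal_all P).2.2.2.1.conj_mem _ h g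

theorem cI (h : a * a = 1) (g : UO P) : g * a * g⁻¹ * (g * a * g⁻¹) = 1 := by rw [conj_mul, h]; group

theorem ex {t : K} (h : t ≠ 0) (c : K) : ∃ s, c = t * s := ⟨c / t, by field_simp⟩

theorem exσ {t : K} (h : t ≠ 0) (c : K) : ∃ s, c = t * P.σ s :=
  let ⟨s, hs⟩ := (σ_bij P).2 (c / t); ⟨s, by rw [hs]; field_simp⟩

theorem okB0 (h : a ∈ Ws P) (h2 : a.a2 = 0) (h3 : a.a3 = 0) (h6 : a.a6 = 0) (h5 : a.a5 ≠ 0) : Ok a := by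
  obtain ⟨s, hs⟩ := ex h5 a.a4
  obtain ⟨k1, k2, k3, k4, k5, k6, k7⟩ := h
  refine .conj (y2 s) ⟨_, .inr (.inl ⟨a.a5, h5, ?_⟩), .refl⟩
  ext <;> simp [*] <;> grind

theorem okB (h : a ∈ Ws P) (h2 : a.a2 = 0) (h3 : a.a3 = 0) (h5 : a.a5 ≠ 0) : Ok a := by
  obtain ⟨s, hs⟩ := ex h5 a.a6
  refine .conj (y8 s) (okB0 (cW h _) ?_ ?_ ?_ ?_) <;> obtain ⟨k1, k2, k3, k4, k5, k6, k7⟩ := h <;> simp [*] <;> grind

theorem okC0 (h : a ∈ Ws P) (h5 : a.a5 = 0) (h6 : a.a6 = 0) (h3 : a.a3 ≠ 0) : Ok a := by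
  refine .rn ⟨h.2.2.2.2.2.1, h.2.2.2.2.2.2⟩ (okB (rn_Ws h) ?_ ?_ ?_) <;> obtain ⟨k1, k2, k3, k4, k5, k6, k7⟩ := h <;>
    simp [*]

theorem okC1 (h : a ∈ Ws P) (h2 : a.a2 = 0) (h5 : a.a5 = 0) (h3 : a.a3 ≠ 0) : Ok a := by
  obtain ⟨s, hs⟩ := ex h3 a.a6
  refine .conj (x8 s) (okC0 (cW h _) ?_ ?_ ?_) <;> obtain ⟨k1, k2, k3, k4, k5, k6, k7⟩ := h <;> simp [*] <;> grind

theorem okC (h : a ∈ Ws P) (h2 : a.a2 = 0) (h3 : a.a3 ≠ 0) : Ok a := by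
  obtain ⟨s, hs⟩ := exσ (P := P) h3 a.a5
  refine .conj (y8 s) (okC1 (cW h _) ?_ ?_ ?_) <;> obtain ⟨k1, k2, k3, k4, k5, k6, k7⟩ := h <;> simp [*] <;> grind

theorem okW3 (h : a ∈ Ws P) (h2 : a.a2 = 0) (hZ : a ∉ Zs P) : Ok a := by
  by_cases h3 : a.a3 = 0
  · by_cases h5 : a.a5 = 0
    · obtain ⟨k1, k2, k3, k4, k5, k6, k7⟩ := h
      exact ⟨a, .inl ⟨by simp [*], fun h6 => hZ ⟨k1, k2, h2, h3, k3, h5, k4, h6, k5, k6, k7⟩⟩, .refl⟩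
    · exact okB h h2 h3 h5
  · exact okC h h2 h3

theorem okD0 (h : a ∈ Ws P) (h6 : a.a6 = 0) (h2 : a.a2 ≠ 0) : Ok a := by
  refine .rn ⟨h.2.2.2.2.2.1, h.2.2.2.2.2.2⟩ (okW3 (rn_Ws h) ?_ ?_) <;> obtain ⟨k1, k2, k3, k4, k5, k6, k7⟩ := h <;>
    simp [*]

theorem okD1 (h : a ∈ Ws P) (h3 : a.a3 = 0) (h2 : a.a2 ≠ 0) : Ok a := by
  obtain ⟨s, hs⟩ := exσ (P := P) h2 a.a6
  refine .conj (x8 s) (okD0 (cW h _) ?_ ?_) <;> obtain ⟨k1, k2, k3, k4, k5, k6, k7⟩ := h <;> simp [*] <;> grind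

theorem okW (h : a ∈ Ws P) (hZ : a ∉ Zs P) : Ok a := by
  by_cases h2 : a.a2 = 0
  · exact okW3 h h2 hZ
  obtain ⟨s, hs⟩ := ex h2 a.a3
  refine .conj (y8 s) (okD1 (cW h _) ?_ ?_) <;> obtain ⟨k1, k2, k3, k4, k5, k6, k7⟩ := h <;> simp [*] <;> grind

/-! ### `a8 ≠ 0` -/

theorem okE0 (h1 : a.a1 = 0) (k2 : a.b2 = 0) (h2 : a.a2 = 0) (h3 : a.a3 = 0) (k4 : a.b4 = 0) (h5 : a.a5 = 0)
    (k6 : a.b6 = 0) (h7 : a.a7 = 0) (k8 : a.b8 = 0) (h8 : a.a8 ≠ 0) : Ok a := by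
  obtain ⟨s, hs⟩ := ex h8 a.a6
  refine .conj (x3 s) ⟨_, .inr (.inr (.inr ⟨a.a8, a.a4, h8, ?_⟩)), .refl⟩
  ext <;> simp [*] <;> grind

theorem okE1' (h : a * a = 1) (h1 : a.a1 = 0) (k2 : a.b2 = 0) (h5 : a.a5 = 0) (k6 : a.b6 = 0) (h7 : a.a7 = 0)
    (k8 : a.b8 = 0) (h8 : a.a8 ≠ 0) : Ok a := by
  have e5 := congrArg UO.a5 h
  have e6 := congrArg UO.a6 h
  have e4 := congrArg UO.a4 h
  simp [h1, k2, k6, h7, k8, CharTwo.add_self_eq_zero, h8] at e5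
  simp [h1, k2, k6, h7, k8, CharTwo.add_self_eq_zero, h8, e5] at e6
  simp [h1, k2, k6, h7, k8, CharTwo.add_self_eq_zero, h8, e5, e6] at e4
  exact okE0 h1 k2 e5 e6 e4 h5 k6 h7 k8 h8

theorem okE1 (h : a * a = 1) (h1 : a.a1 = 0) (k2 : a.b2 = 0) (k6 : a.b6 = 0) (h7 : a.a7 = 0)
    (k8 : a.b8 = 0) (h8 : a.a8 ≠ 0) : Ok a := by
  obtain ⟨s, hs⟩ := ex h8 a.a5
  refine .conj (x2 s) (okE1' (cI h _) ?_ ?_ ?_ ?_ ?_ ?_ ?_) <;> simp [*] <;> grind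

theorem okE2 (h : a * a = 1) (h1 : a.a1 = 0) (k2 : a.b2 = 0) (k6 : a.b6 = 0) (k8 : a.b8 = 0) (h8 : a.a8 ≠ 0) :
    Ok a := by
  obtain ⟨s, hs⟩ := ex h8 a.a7
  refine .conj (y2 s) (okE1 (cI h _) ?_ ?_ ?_ ?_ ?_ ?_) <;> simp [*] <;> grind

theorem okE (h : a * a = 1) (k8 : a.b8 = 0) (h8 : a.a8 ≠ 0) : Ok a := by
  have e6 := congrArg UO.b6 h
  have e7 := congrArg UO.a7 h
  simp [k8, CharTwo.add_self_eq_zero, h8] at e6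
  simp [k8, CharTwo.add_self_eq_zero, h8, e6] at e7
  obtain ⟨s, hs⟩ := ex h8 a.b6
  refine .conj (x1 s) (okE2 (cI h _) ?_ ?_ ?_ ?_ ?_) <;> simp [*] <;> grind

/-! ### `a ∈ Qs` -/

theorem okF0 (h1 : a.a1 = 0) (k2 : a.b2 = 0) (h2 : a.a2 = 0) (h3 : a.a3 = 0) (k4 : a.b4 = 0) (h5 : a.a5 = 0)
    (k6 : a.b6 = 0) (h6 : a.a6 = 0) (k8 : a.b8 = 0) (h8 : a.a8 = 0) (h7 : a.a7 ≠ 0) : Ok a := by
  obtain ⟨s, hs⟩ := ex h7 a.a4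
  refine .conj (x2 s) ⟨_, .inr (.inr (.inl ⟨a.a7, h7, ?_⟩)), .refl⟩
  ext <;> simp [*] <;> grind

theorem okF1 (h1 : a.a1 = 0) (k2 : a.b2 = 0) (h2 : a.a2 = 0) (h3 : a.a3 = 0) (k4 : a.b4 = 0) (h5 : a.a5 = 0)
    (k6 : a.b6 = 0) (k8 : a.b8 = 0) (h8 : a.a8 = 0) (h7 : a.a7 ≠ 0) : Ok a := by
  obtain ⟨s, hs⟩ := ex h7 a.a6
  refine .conj (y4 s) (okF0 ?_ ?_ ?_ ?_ ?_ ?_ ?_ ?_ ?_ ?_ ?_) <;> simp [*] <;> grind

theorem okF2 (h1 : a.a1 = 0) (k2 : a.b2 = 0) (h2 : a.a2 = 0) (h3 : a.a3 = 0) (k4 : a.b4 = 0)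
    (k6 : a.b6 = 0) (k8 : a.b8 = 0) (h8 : a.a8 = 0) (h7 : a.a7 ≠ 0) : Ok a := by
  obtain ⟨s, hs⟩ := exσ (P := P) h7 a.a5
  refine .conj (y2 s) (okF1 ?_ ?_ ?_ ?_ ?_ ?_ ?_ ?_ ?_ ?_) <;> simp [*] <;> grind

theorem okF3 (h1 : a.a1 = 0) (k2 : a.b2 = 0) (h2 : a.a2 = 0) (k4 : a.b4 = 0)
    (k6 : a.b6 = 0) (k8 : a.b8 = 0) (h8 : a.a8 = 0) (h7 : a.a7 ≠ 0) : Ok a := by
  obtain ⟨s, hs⟩ := exσ (P := P) h7 a.a3
  refine .conj (x1 s) (okF2 ?_ ?_ ?_ ?_ ?_ ?_ ?_ ?_ ?_) <;> simp [*] <;> grind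

theorem okF (h : a * a = 1) (h1 : a.a1 = 0) (k8 : a.b8 = 0) (h8 : a.a8 = 0) (hZ : a ∉ Zs P) : Ok a := by
  have e2 := congrArg UO.a2 h
  have e5 := congrArg UO.a5 h
  have e6 := congrArg UO.a6 h
  have e4 := congrArg UO.a4 h
  simp [h1, k8, h8, CharTwo.add_self_eq_zero] at e2
  simp only [mul_a5, mul_a6, h1, k8, h8, e2, CharTwo.add_self_eq_zero, map_zero, mul_zero, zero_mul, add_zero, zero_add,
    one_a5, one_a6] at e5 e6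
  have k6 : a.b6 = 0 := by_contra fun k6 => by
    rw [(mul_eq_zero.1 e5).resolve_left k6] at e6
    simp [k6] at e6
  simp [k6] at e6
  by_cases h7 : a.a7 = 0
  · simp [h1, k8, h8, CharTwo.add_self_eq_zero, e2, k6, h7] at e4
    exact okW ⟨h1, e2, e4, k6, h7, k8, h8⟩ hZ
  · have k4 := e6.resolve_left h7
    simp [h1, k8, h8, CharTwo.add_self_eq_zero, e2, k6, h7, k4] at e4
    exact okF3 h1 e2 e4 k4 k6 k8 h8 h7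

theorem okG0 (h : a * a = 1) (k2 : a.b2 = 0) (k6 : a.b6 = 0) (k8 : a.b8 = 0) (h8 : a.a8 = 0) (h1 : a.a1 ≠ 0) :
    Ok a := by
  have e3 := congrArg UO.a3 h
  simp [k2, k6, k8, h8, h1, CharTwo.add_self_eq_zero] at e3
  refine .rn ⟨k8, h8⟩ (okF ?_ e3 rfl rfl fun hZ => h1 hZ.2.2.2.2.2.2.2.2.1)
  rw [← rn_mul ⟨k8, h8⟩ ⟨k8, h8⟩, h]
  ext <;> simp

theorem okG1 (h : a * a = 1) (k2 : a.b2 = 0) (k8 : a.b8 = 0) (h8 : a.a8 = 0) (h1 : a.a1 ≠ 0) : Ok a := by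
  obtain ⟨s, hs⟩ := ex h1 a.b6
  refine .conj (x8 s) (okG0 (cI h _) ?_ ?_ ?_ ?_ ?_) <;> simp [*] <;> grind

theorem okG (h : a * a = 1) (k8 : a.b8 = 0) (h8 : a.a8 = 0) (h1 : a.a1 ≠ 0) : Ok a := by
  obtain ⟨s, hs⟩ := ex h1 a.b2
  refine .conj (y8 s) (okG1 (cI h _) ?_ ?_ ?_ ?_) <;> simp [*] <;> grind

end UD

theorem exists_std {a : UO P} (h : a * a = 1) (hZ : a ∉ Zs P) : ∃ b, Std b ∧ Mv a b := by
  have k8 := congrArg UO.a8 h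
  simp [CharTwo.add_self_eq_zero] at k8
  by_cases h8 : a.a8 = 0
  · by_cases h1 : a.a1 = 0
    · exact UD.okF h h1 k8 h8 hZ
    · exact UD.okG h k8 h8 h1
  · exact UD.okE h k8 h8

end CL.Oct
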