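/-
The coordinate group `UO`: fixed points of subtori and a rigidity lemma.
-/
import Cfsg.Agent.Oct.UF

set_option autoImplicit false
set_option linter.unusedSectionVars false
set_option linter.unusedSimpArgs false
set_option linter.unusedVariables false
set_option maxRecDepth 20000

namespace CL.Oct

open UO Cfsg

variable {K : Type*} [Field K] [CharP K 2] [Finite K] {P : Par K}

namespace UO

/-- the eight characters of the torus -/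
def ueX (P : Par K) : Fin 8 → (Kˣ × Kˣ →* Kˣ) :=
  let L := MonoidHom.fst Kˣ Kˣ
  let M := MonoidHom.snd Kˣ Kˣ
  let S := (σu P).comp L
  let T := (σu P).comp M
  ![L, L * M, L * S * M ^ 2 * T, S * M * T, L * S * M ^ 2 * T ^ 2, L * M * T, L * M ^ 2 * T, M]

theorem ue_val (p : Kˣ × Kˣ) (i : Fin 8) :
    (ueX P i p : K) = ![c1 p, d2 p, c3 P p, d4 P p, c5 P p, d6 P p, c7 P p, d8 p] i := by
  fin_cases i <;> simp [ueX, c1, d2, c3, d4, c5, d6, c7, d8]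

theorem ue_pair {p : Kˣ × Kˣ} {i j : Fin 8} (h : i ≠ j) (h1 : ueX P i p = 1) (h2 : ueX P j p = 1) : p = 1 := by
  wlog hl : i < j generalizing i j
  · exact this h.symm h2 h1 (lt_of_le_of_ne (not_lt.1 hl) h.symm)
  have e1 := (ue_val p i).symm.trans (congrArg Units.val h1)
  have e2 := (ue_val p j).symm.trans (congrArg Units.val h2)
  have e3 := congrArg P.σ e1
  have e4 := congrArg P.σ e2
  suffices e : (p.1 : K) ^ 2 ^ 2 = 1 ∧ (p.2 : K) ^ 2 ^ 2 = 1 from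
    Prod.ext (Units.ext (units_eq_one_of_pow e.1)) (Units.ext (units_eq_one_of_pow e.2))
  clear h h1 h2
  fin_cases i <;> fin_cases j <;> first
    | exact absurd hl (by decide)
    | (simp only [c1, d2, c3, d4, c5, d6, c7, d8, Fin.zero_eta, Fin.mk_one, Fin.reduceFinMk, Matrix.cons_val,
        Matrix.cons_val_zero, Matrix.cons_val_one, map_mul, map_pow, map_one, P.sq, Units.val_one] at e1 e2 e3 e4
       grind)

theorem ue_N (p : Kˣ × Kˣ) : c2 P p = d2 p * P.σ (d2 p) ∧ c4 P p = d4 P p * P.σ (d4 P p) ∧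
    c6 P p = d6 P p * P.σ (d6 P p) ∧ c8 P p = d8 p * P.σ (d8 p) := by
  simp only [c2, c4, c6, c8, d2, d4, d6, d8, map_mul, P.sq]
  refine ⟨?_, ?_, ?_, trivial⟩ <;> ring

theorem ue_N1 {c : K} (h : c * P.σ c = 1) : c = 1 := mul_σ_inj P (by simpa using h)

theorem ue_fix {p : Kˣ × Kˣ} (h1 : p ≠ 1) {i : Fin 8} (hi : ueX P i p = 1) {x : UO P} (h : dg P p x = x) :
    (i ≠ 0 → x.a1 = 0) ∧ (i ≠ 1 → x.b2 = 0 ∧ x.a2 = 0) ∧ (i ≠ 2 → x.a3 = 0) ∧ (i ≠ 3 → x.b4 = 0 ∧ x.a4 = 0) ∧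
      (i ≠ 4 → x.a5 = 0) ∧ (i ≠ 5 → x.b6 = 0 ∧ x.a6 = 0) ∧ (i ≠ 6 → x.a7 = 0) ∧ (i ≠ 7 → x.b8 = 0 ∧ x.a8 = 0) := by
  have z : ∀ j, i ≠ j → ∀ a : K, (ueX P j p * a = a → a = 0) ∧ (ueX P j p * P.σ (ueX P j p) * a = a → a = 0) :=
    fun j hj a => by
      have ne : (ueX P j p : K) ≠ 1 := fun e => h1 (ue_pair hj hi (Units.ext e))
      exact ⟨fun e => (mul_left_eq_self₀.1 e).resolve_left ne,
        fun e => (mul_left_eq_self₀.1 e).resolve_left fun e' => ne (ue_N1 e')⟩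
  simp only [ue_val] at z
  obtain ⟨n2, n4, n6, n8⟩ := ue_N (P := P) p
  exact ⟨fun e => (z 0 e _).1 (congrArg UO.a1 h),
    fun e => ⟨(z 1 e _).1 (congrArg UO.b2 h), (z 1 e _).2 (n2 ▸ congrArg UO.a2 h)⟩,
    fun e => (z 2 e _).1 (congrArg UO.a3 h),
    fun e => ⟨(z 3 e _).1 (congrArg UO.b4 h), (z 3 e _).2 (n4 ▸ congrArg UO.a4 h)⟩,
    fun e => (z 4 e _).1 (congrArg UO.a5 h),
    fun e => ⟨(z 5 e _).1 (congrArg UO.b6 h), (z 5 e _).2 (n6 ▸ congrArg UO.a6 h)⟩,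
    fun e => (z 6 e _).1 (congrArg UO.a7 h),
    fun e => ⟨(z 7 e _).1 (congrArg UO.b8 h), (z 7 e _).2 (n8 ▸ congrArg UO.a8 h)⟩⟩

theorem ue_ker (P : Par K) (hq : 2 < Nat.card K) (i : Fin 8) : ∃ p, p ≠ 1 ∧ ueX P i p = 1 := by
  by_contra! h
  have := Nat.card_le_card_of_injective _ ((injective_iff_map_eq_one (ueX P i)).2 fun p e => by_contra fun n => h p n e)
  rw [Nat.card_prod, Nat.card_units] at this
  have h2 : 2 ≤ Nat.card K - 1 := by omega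
  nlinarith

theorem ue_onto (P : Par K) {i : Fin 8} (hi : i ≠ 0) {t : K} (ht : t ≠ 0) : ∃ p, (ueX P i p : K) = t := by
  obtain ⟨μ, e⟩ := Finite.injective_iff_surjective.1 ((injective_iff_map_eq_one
    ((ueX P i).comp (MonoidHom.inr Kˣ Kˣ))).2 fun μ e => congrArg Prod.snd (ue_pair hi e rfl)) (Units.mk0 t ht)
  exact ⟨_, congrArg Units.val e⟩

theorem fix_K1 (hq : 2 < Nat.card K) {x : UO P} (h : ∀ μ : Kˣ, dg P (1, μ) x = x) : x ∈ U1 P := by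
  obtain ⟨p, h1, e⟩ := ue_ker P hq 0
  obtain ⟨l, m⟩ := p
  obtain rfl : l = 1 := e
  simpa [and_assoc] using ue_fix (i := 0) h1 rfl (h m)

theorem fix_Dp {p : Kˣ × Kˣ} (hp : p ∈ Dp P) (h1 : p ≠ 1) {x : UO P} (h : dg P p x = x) : x ∈ U4 P := by
  have e : ueX P 3 p = 1 := Units.ext ((ue_val p 3).trans (ue_N1 ((ue_N p).2.1.symm.trans hp)))
  simpa [and_assoc] using ue_fix h1 e h

theorem fix_all (hq : 2 < Nat.card K) {x : UO P} (h : ∀ p, dg P p x = x) : x = 1 := by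
  obtain ⟨p, h1, e⟩ := ue_ker P hq 7
  have h2 := fix_K1 hq fun μ => h _
  have h3 := (ue_fix h1 e (h p)).1 (by decide)
  simp only [mem_U1] at h2
  ext <;> simp [h2, h3]

section Psi

variable (hq : 2 < Nat.card K) {ψ : UO P → UO P} (hmul : ∀ x ∈ Qp P, ∀ y ∈ Qp P, ψ (x * y) = ψ x * ψ y)
  (hd : ∀ p, ∀ x ∈ Qp P, ψ (dg P p x) = dg P p (ψ x))
include hq hmul hd

theorem ue_root {i : Fin 8} (hi : i ≠ 0) (r : K → UO P) (hr : ∀ t, r t ∈ Qp P) (r0 : r 0 = 1)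
    (hp : ∀ p t, dg P p (r t) = r (ueX P i p * t)) (f : K → UO P) (f0 : f 0 = 1)
    (hf : ∀ p, dg P p (ψ (r 1)) = f (ueX P i p)) (t : K) : ψ (r t) = f t := by
  by_cases ht : t = 0
  · rw [ht, r0, f0]
    exact left_eq_mul.1 (by rw [← hmul _ (one_mem _) _ (one_mem _), mul_one])
  obtain ⟨p, rfl⟩ := ue_onto P hi ht
  rw [← hf, ← hd _ _ (hr 1), hp, mul_one]

theorem ue_one (i : Fin 8) (r : K → UO P) (hr : ∀ t, r t ∈ Qp P) (hp : ∀ p t, dg P p (r t) = r (ueX P i p * t)) :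
    ∃ p, p ≠ 1 ∧ ueX P i p = 1 ∧ dg P p (ψ (r 1)) = ψ (r 1) := by
  obtain ⟨p, h1, e⟩ := ue_ker P hq i
  exact ⟨p, h1, e, by rw [← hd _ _ (hr 1), hp, e, Units.val_one, one_mul]⟩

theorem ue_odd {i : Fin 8} (hi : i ≠ 0) (r : K → UO P) (hr : ∀ t, r t ∈ Qp P) (r0 : r 0 = 1)
    (hp : ∀ p t, dg P p (r t) = r (ueX P i p * t))
    (hx : ∀ p x, p ≠ 1 → ueX P i p = 1 → dg P p x = x → ∃ c, x = r c) : ∃ c, ∀ t, ψ (r t) = r (t * c) := by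
  obtain ⟨p, h1, e, h2⟩ := ue_one hq hmul hd i r hr hp
  obtain ⟨c, hc⟩ := hx p _ h1 e h2
  exact ⟨c, ue_root hq hmul hd hi r hr r0 hp (fun t => r (t * c)) (by rw [zero_mul, r0]) fun p => by rw [hc, hp]⟩

theorem ue_even {i : Fin 8} (hi : i ≠ 0) (w : K → K → UO P) (hr : ∀ b a, w b a ∈ Qp P) (r0 : w 0 0 = 1)
    (hp : ∀ p b a, dg P p (w b a) = w (ueX P i p * b) (ueX P i p * P.σ (ueX P i p) * a))
    (hw : ∀ b a b' a', w b a * w b' a' = w (b + b') (a + a' + b * P.σ b'))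
    (inj : ∀ b a b' a', w b a = w b' a' → a = a')
    (hx : ∀ p x, p ≠ 1 → ueX P i p = 1 → dg P p x = x → ∃ c e, x = w c e) :
    ∃ c, ∀ b a, ψ (w b a) = w (b * c) (c * P.σ c * a) := by
  have hp' : ∀ p t, dg P p (w t 0) = w (ueX P i p * t) 0 := fun p t => by rw [hp, mul_zero]
  obtain ⟨p, h1, e, h2⟩ := ue_one hq hmul hd i (w · 0) (hr · 0) hp'
  obtain ⟨c, d, hc⟩ := hx p _ h1 e h2
  have h3 := ue_root hq hmul hd hi (w · 0) (hr · 0) r0 hp' (fun t => w (t * c) (t * P.σ t * d)) (by simpa using r0)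
    fun p => by rw [hc, hp]
  have h4 : ∀ a, ψ (w 0 a) = w 0 (c * P.σ c * a) := fun a => by
    obtain ⟨t, rfl⟩ := exists_mul_σ P a
    have e1 := hmul _ (hr t 0) _ (hr t 0)
    rw [hw, h3, hw] at e1
    simp only [CharTwo.add_self_eq_zero, zero_add, map_mul] at e1
    rw [e1]
    congr 1
    ring
  have h5 : ∀ b a, ψ (w b a) = w (b * c) (b * P.σ b * d + c * P.σ c * a) := fun b a => by
    have e1 := hmul _ (hr b 0) _ (hr 0 a)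
    rw [hw, h3, h4, hw] at e1
    simpa using e1
  obtain ⟨t, ht⟩ := exists_σ_ne P hq
  have e1 := hmul _ (hr 1 0) _ (hr t 0)
  rw [hw, h5, h3, h3, hw] at e1
  have e2 := inj _ _ _ _ e1
  simp only [map_add, map_mul, map_one] at e2
  obtain rfl : d = 0 := by grind
  exact ⟨c, by simpa using h5⟩

theorem ue_3 : ∃ c, ∀ t, ψ (x3 t) = x3 (t * c) :=
  ue_odd hq hmul hd (i := 2) (by decide) x3 (fun _ => rfl) rfl (fun p t => by ext <;> simp [ue_val])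
    fun p x h1 e h => ⟨x.a3, by have := ue_fix h1 e h; simp at this; ext <;> simp [this]⟩

theorem ue_5 : ∃ c, ∀ t, ψ (x5 t) = x5 (t * c) :=
  ue_odd hq hmul hd (i := 4) (by decide) x5 (fun _ => rfl) rfl (fun p t => by ext <;> simp [ue_val])
    fun p x h1 e h => ⟨x.a5, by have := ue_fix h1 e h; simp at this; ext <;> simp [this]⟩

theorem ue_7 : ∃ c, ∀ t, ψ (x7 t) = x7 (t * c) :=
  ue_odd hq hmul hd (i := 6) (by decide) x7 (fun _ => rfl) rfl (fun p t => by ext <;> simp [ue_val])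
    fun p x h1 e h => ⟨x.a7, by have := ue_fix h1 e h; simp at this; ext <;> simp [this]⟩

theorem ue_2 : ∃ c, ∀ b a, ψ ⟨0, b, a, 0, 0, 0, 0, 0, 0, 0, 0, 0⟩ = ⟨0, b * c, c * P.σ c * a, 0, 0, 0, 0, 0, 0, 0, 0, 0⟩ :=
  ue_even hq hmul hd (i := 1) (by decide) (fun b a => ⟨0, b, a, 0, 0, 0, 0, 0, 0, 0, 0, 0⟩) (fun _ _ => rfl) rfl
    (fun p b a => by ext <;> simp [ue_val, ue_N]) (fun b a b' a' => by ext <;> simp)
    (fun b a b' a' e => congrArg UO.a2 e)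
    fun p x h1 e h => ⟨x.b2, x.a2, by have := ue_fix h1 e h; simp at this; ext <;> simp [this]⟩

theorem ue_4 : ∃ c, ∀ b a, ψ ⟨0, 0, 0, 0, b, a, 0, 0, 0, 0, 0, 0⟩ = ⟨0, 0, 0, 0, b * c, c * P.σ c * a, 0, 0, 0, 0, 0, 0⟩ :=
  ue_even hq hmul hd (i := 3) (by decide) (fun b a => ⟨0, 0, 0, 0, b, a, 0, 0, 0, 0, 0, 0⟩) (fun _ _ => rfl) rfl
    (fun p b a => by ext <;> simp [ue_val, ue_N]) (fun b a b' a' => by ext <;> simp)
    (fun b a b' a' e => congrArg UO.a4 e)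
    fun p x h1 e h => ⟨x.b4, x.a4, by have := ue_fix h1 e h; simp at this; ext <;> simp [this]⟩

theorem ue_6 : ∃ c, ∀ b a, ψ ⟨0, 0, 0, 0, 0, 0, 0, b, a, 0, 0, 0⟩ = ⟨0, 0, 0, 0, 0, 0, 0, b * c, c * P.σ c * a, 0, 0, 0⟩ :=
  ue_even hq hmul hd (i := 5) (by decide) (fun b a => ⟨0, 0, 0, 0, 0, 0, 0, b, a, 0, 0, 0⟩) (fun _ _ => rfl) rfl
    (fun p b a => by ext <;> simp [ue_val, ue_N]) (fun b a b' a' => by ext <;> simp)
    (fun b a b' a' e => congrArg UO.a6 e)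
    fun p x h1 e h => ⟨x.b6, x.a6, by have := ue_fix h1 e h; simp at this; ext <;> simp [this]⟩

theorem ue_8 : ∃ c, ∀ b a, ψ ⟨0, 0, 0, 0, 0, 0, 0, 0, 0, 0, b, a⟩ = ⟨0, 0, 0, 0, 0, 0, 0, 0, 0, 0, b * c, c * P.σ c * a⟩ :=
  ue_even hq hmul hd (i := 7) (by decide) (fun b a => ⟨0, 0, 0, 0, 0, 0, 0, 0, 0, 0, b, a⟩) (fun _ _ => rfl) rfl
    (fun p b a => by ext <;> simp [ue_val, ue_N]) (fun b a b' a' => by ext <;> simp)
    (fun b a b' a' e => congrArg UO.a8 e)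
    fun p x h1 e h => ⟨x.b8, x.a8, by have := ue_fix h1 e h; simp at this; ext <;> simp [this]⟩

end Psi

theorem ue_nf {x : UO P} (hx : x ∈ Qp P) : x = ⟨0, x.b2, x.a2, 0, 0, 0, 0, 0, 0, 0, 0, 0⟩ * x3 x.a3 *
    ⟨0, 0, 0, 0, x.b4, x.a4, 0, 0, 0, 0, 0, 0⟩ * x5 x.a5 * ⟨0, 0, 0, 0, 0, 0, 0, x.b6, x.a6, 0, 0, 0⟩ * x7 x.a7 *
      ⟨0, 0, 0, 0, 0, 0, 0, 0, 0, 0, x.b8, x.a8⟩ := by
  ext <;> simp [mem_Qp.1 hx]

theorem ue_rel : (y6 1 * y4 1 : UO P) = y4 1 * y6 1 * x5 1 ∧ (x5 1 * y2 1 : UO P) = y2 1 * x5 1 * x4 1 ∧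
    (y8 1 * x5 1 : UO P) = x5 1 * y8 1 * x6 1 ∧ (y6 1 * x3 1 : UO P) = x3 1 * y6 1 * x4 1 ∧
    (x7 1 * y4 1 : UO P) = y4 1 * x7 1 * x6 1 := by
  refine ⟨?_, ?_, ?_, ?_, ?_⟩ <;> ext <;> simp

theorem psi (hq : 2 < Nat.card K) (ψ : UO P → UO P) (hm : ∀ x ∈ Qp P, ψ x ∈ Qp P)
    (hmul : ∀ x ∈ Qp P, ∀ y ∈ Qp P, ψ (x * y) = ψ x * ψ y) (hd : ∀ p, ∀ x ∈ Qp P, ψ (dg P p x) = dg P p (ψ x))
    (hV : ∀ x ∈ Vs P, ψ x = x) : ∀ x ∈ Qp P, ψ x = x := by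
  obtain ⟨k2, h2⟩ := ue_2 hq hmul hd
  obtain ⟨k3, h3⟩ := ue_3 hq hmul hd
  obtain ⟨k4, h4⟩ := ue_4 hq hmul hd
  obtain ⟨k5, h5⟩ := ue_5 hq hmul hd
  obtain ⟨k6, h6⟩ := ue_6 hq hmul hd
  obtain ⟨k7, h7⟩ := ue_7 hq hmul hd
  obtain ⟨k8, h8⟩ := ue_8 hq hmul hd
  obtain rfl : k4 = 1 := ue_N1 (by simpa using congrArg UO.a4 ((h4 0 1).symm.trans (hV _ (by simp))))
  obtain rfl : k6 = 1 := ue_N1 (by simpa using congrArg UO.a6 ((h6 0 1).symm.trans (hV _ (by simp))))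
  have cm : ∀ {x y z}, x * y = y * x * z → x ∈ Qp P → y ∈ Qp P → z ∈ Qp P → ψ x * ψ y = ψ y * ψ x * ψ z :=
    fun e hx hy hz => by rw [← hmul _ hx _ hy, e, hmul _ (mul_mem hy hx) _ hz, hmul _ hy _ hx]
  obtain ⟨r1, r2, r3, r4, r5⟩ := ue_rel (P := P)
  obtain rfl : k5 = 1 := by
    have := cm r1 rfl rfl rfl
    rw [y4, y6, h4, h6, h5] at this
    simpa using (congrArg UO.a5 this).symm
  obtain rfl : k2 = 1 := by
    have := cm r2 rfl rfl rfl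
    rw [y2, h5, h2, hV (x4 1) (by simp)] at this
    simpa using congrArg UO.a4 this
  obtain rfl : k8 = 1 := by
    have := cm r3 rfl rfl rfl
    rw [y8, h5, h8, hV (x6 1) (by simp)] at this
    simpa using congrArg UO.a6 this
  obtain rfl : k3 = 1 := by
    have := cm r4 rfl rfl rfl
    rw [y6, h3, h6, hV (x4 1) (by simp)] at this
    simpa using congrArg UO.a4 this
  obtain rfl : k7 = 1 := by
    have := cm r5 rfl rfl rfl
    rw [y4, h7, h4, hV (x6 1) (by simp)] at this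
    simpa using congrArg UO.a6 this
  simp only [mul_one, map_one, one_mul] at h2 h3 h4 h5 h6 h7 h8
  have m : ∀ {x y}, x ∈ Qp P ∧ ψ x = x → y ∈ Qp P ∧ ψ y = y → x * y ∈ Qp P ∧ ψ (x * y) = x * y :=
    fun hx hy => ⟨mul_mem hx.1 hy.1, by rw [hmul _ hx.1 _ hy.1, hx.2, hy.2]⟩
  intro x hx
  rw [ue_nf hx]
  exact (m (m (m (m (m (m ⟨rfl, h2 _ _⟩ ⟨rfl, h3 _⟩) ⟨rfl, h4 _ _⟩) ⟨rfl, h5 _⟩) ⟨rfl, h6 _ _⟩) ⟨rfl, h7 _⟩)
    ⟨rfl, h8 _ _⟩).2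

end UO

end CL.Oct
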