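/-
The Bruhat decomposition for the octagon, and the homomorphism from the model.
-/
import Cfsg.Agent.Oct.D
import Cfsg.Agent.Oct.UF

set_option autoImplicit false
set_option linter.unusedSectionVars false
set_option maxRecDepth 20000

namespace CL.Oct

open UO Cfsg

variable {K : Type*} [Field K] [CharP K 2] [Finite K] {P : Par K}
variable {R : Rk P} {G : Type*} [Group G] {X : Type*} [Group X]

namespace AT

/-- alternating words -/
def wd (s : Bool → G) : Bool → ℕ → G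
  | _, 0 => 1
  | i, k + 1 => s i * wd s (!i) k

theorem wd_map (f : G →* X) (s : Bool → G) : ∀ k i, f (wd s i k) = wd (fun j => f (s j)) i k
  | 0, _ => map_one f
  | k + 1, i => by rw [wd, wd, map_mul, wd_map f s k]

theorem wd8 {s : Bool → G} (h : ∀ i, s i * s i = 1) (h8 : (s true * s false) ^ 8 = 1) (i : Bool) :
    wd s (!i) 8 = wd s i 8 := by
  have e1 : wd s true 8 = (s true * s false) ^ 4 := by simp [wd, pow_succ, mul_assoc]
  have e2 : wd s false 8 = ((s true * s false) ^ 4)⁻¹ := by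
    simp [wd, pow_succ, mul_assoc, inv_eq_of_mul_eq_one_right (h true), inv_eq_of_mul_eq_one_right (h false)]
  have e : wd s false 8 = wd s true 8 := by
    rw [e1, e2, inv_eq_iff_mul_eq_one, ← pow_add, h8]
  cases i
  exacts [e.symm, e]

/-- one of `w`, `s i * w` is a short word that does not begin with `s i` -/
theorem short {s : Bool → G} (h : ∀ i, s i * s i = 1) (h8 : (s true * s false) ^ 8 = 1) (i j : Bool) {k : ℕ} (hk : k ≤ 8) :
    ∃ l ≤ 7, wd s j k = wd s (!i) l ∨ wd s j k = s i * wd s (!i) l := by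
  by_cases e : j = i
  · subst e
    rcases k with _ | k
    exacts [⟨0, by omega, .inl rfl⟩, ⟨k, by omega, .inr rfl⟩]
  · obtain rfl : j = !i := by revert e; cases i <;> cases j <;> simp
    by_cases l : k = 8
    · subst l
      exact ⟨7, le_rfl, .inr (wd8 h h8 i)⟩
    · exact ⟨k, by omega, .inl rfl⟩

theorem exists_wd {s : Bool → G} (h : ∀ i, s i * s i = 1) (h8 : (s true * s false) ^ 8 = 1) {w : G}
    (hw : w ∈ Subgroup.closure {s false, s true}) : ∃ j, ∃ k ≤ 8, w = wd s j k := by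
  have st : ∀ i w, (∃ j, ∃ k ≤ 8, w = wd s j k) → ∃ j, ∃ k ≤ 8, s i * w = wd s j k := by
    rintro i _ ⟨j, k, hk, rfl⟩
    obtain ⟨l, hl, e | e⟩ := short h h8 i j hk
    · exact ⟨i, l + 1, by omega, by rw [e, wd]⟩
    · exact ⟨!i, l, by omega, by rw [e, ← mul_assoc, h, one_mul]⟩
  induction hw using Subgroup.closure_induction_left with
  | one => exact ⟨true, 0, by omega, rfl⟩
  | mul_left x hx y _ ih => rcases hx with rfl | rfl <;> exact st _ _ ih
  | inv_mul_cancel x hx y _ ih => rcases hx with rfl | rfl <;> rw [inv_eq_of_mul_eq_one_right (h _)] <;> exact st _ _ ih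

/-- the key step of the Bruhat decomposition -/
theorem step {B : Subgroup G} {A : Set G} {s w' : G} (ss : s * s = 1)
    (ha : ∀ x ∈ B, ∃ x', ∃ a ∈ A, x = x' * a ∧ s * x' * s ∈ B)
    (hb : ∀ a ∈ A, a = 1 ∨ ∃ b ∈ B, ∃ c ∈ B, s * a * s = b * s * c) (hc : ∀ a ∈ A, w'⁻¹ * a * w' ∈ B) {x w : G}
    (hx : x ∈ B) (hw : w = w' ∨ w = s * w') : ∃ b ∈ B, ∃ c ∈ B, s * x * w = b * w' * c ∨ s * x * w = b * (s * w') * c := by
  have si : s⁻¹ = s := inv_eq_of_mul_eq_one_right ss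
  have k : ∀ x ∈ B, ∃ b ∈ B, ∃ c ∈ B, s * x * w' = b * (s * w') * c := fun x hx => by
    obtain ⟨x', a, h1, rfl, h2⟩ := ha x hx
    exact ⟨_, h2, _, hc a h1, by nth_rewrite 3 [← si]; group⟩
  rcases hw with rfl | rfl
  · obtain ⟨b, h1, c, h2, e⟩ := k x hx
    exact ⟨b, h1, c, h2, .inr e⟩
  obtain ⟨x', a, h1, rfl, h2⟩ := ha x hx
  have e0 : s * (x' * a) * (s * w') = s * x' * s * (s * a * s * w') := by nth_rewrite 4 [← si]; group
  rcases hb a h1 with rfl | ⟨b, h3, c, h4, e⟩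
  · exact ⟨_, h2, 1, one_mem _, .inl (by rw [e0, mul_one, mul_one, ss, one_mul])⟩
  · obtain ⟨b', h5, c', h6, e'⟩ := k c h4
    exact ⟨_, mul_mem (mul_mem h2 h3) h5, c', h6, .inr (by
      rw [e0, e, mul_assoc b, mul_assoc b, e']; group)⟩

/-- the root subgroups -/
def UU (P : Par K) : ℕ → Subgroup (UO P)
  | 1 => U1 P
  | 2 => U2 P
  | 3 => U3 P
  | 4 => U4 P
  | 5 => U5 P
  | 6 => U6 P
  | 7 => U7 P
  | 8 => U8 P
  | _ => ⊥

theorem nU {j : ℕ} (h1 : 1 ≤ j) (h2 : j ≤ 7) {a : UO P} (ha : a ∈ UU P j) : a ∈ Qs P ∧ rn a ∈ UU P (8 - j) := by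
  interval_cases j <;> simp only [UU, Nat.reduceSub] at ha ⊢ <;> simp at ha <;> simp [ha]

theorem mU {j : ℕ} (h1 : 2 ≤ j) (h2 : j ≤ 8) {a : UO P} (ha : a ∈ UU P j) : a ∈ Qp P ∧ rp a ∈ UU P (10 - j) := by
  interval_cases j <;> simp only [UU, Nat.reduceSub] at ha ⊢ <;> simp at ha <;> simp [ha]

variable (b : BM R G)

/-- the two reflections -/
def sr : Bool → G
  | false => b.n
  | true => b.m

theorem sr_sq : ∀ i, sr b i * sr b i = 1
  | false => b.n_sq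
  | true => b.m_sq

theorem chain : ∀ (k : ℕ) (i : Bool) (j : ℕ), (if i then k + 1 ≤ j ∧ j ≤ 8 else 1 ≤ j ∧ j + k ≤ 8) → ∀ a ∈ UU P j,
    (wd (sr b) i k)⁻¹ * b.u a * wd (sr b) i k ∈ b.u.range
  | 0, _, _, _, a, _ => ⟨a, by simp [wd]⟩
  | k + 1, i, j, h, a, ha => by
    rw [wd, mul_inv_rev, inv_eq_of_mul_eq_one_right (sr_sq b i), ← mul_assoc, mul_assoc _ _ (b.u a),
      mul_assoc _ _ (sr b i)]
    cases i
    · simp only [Bool.false_eq_true, if_false] at h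
      obtain ⟨h1, h2⟩ := nU h.1 (by omega) ha
      rw [sr, b.n_conj a h1]
      exact chain k _ (8 - j) (by simp; omega) _ h2
    · simp only [if_true] at h
      obtain ⟨h1, h2⟩ := mU (by omega) h.2 ha
      rw [sr, b.m_conj a h1]
      exact chain k _ (10 - j) (by simp; omega) _ h2

/-- the simple root subgroups -/
def rt (i : Bool) : Set G := b.u '' UU P (if i then 1 else 8)

theorem chain' (i : Bool) {k : ℕ} (hk : k ≤ 7) {a : G} (ha : a ∈ rt b i) :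
    (wd (sr b) (!i) k)⁻¹ * a * wd (sr b) (!i) k ∈ b.u.range := by
  obtain ⟨a, ha, rfl⟩ := ha
  exact chain b k _ _ (by cases i <;> simp <;> omega) a ha

theorem mem_B {g : G} : g ∈ b.B ↔ ∃ p a, g = b.T.h p * b.u a := by
  rw [BM.B, sup_comm, ← SetLike.mem_coe, Subgroup.coe_mul_of_left_le_normalizer_right]
  · exact ⟨fun ⟨_, ⟨p, e⟩, _, ⟨a, e'⟩, h⟩ => ⟨p, a, by rw [e, e', ← h]⟩, fun ⟨p, a, e⟩ => ⟨_, ⟨p, rfl⟩, _, ⟨a, rfl⟩, e.symm⟩⟩
  · refine Subgroup.le_normalizer_iff.2 ?_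
    rintro _ ⟨p, rfl⟩ _ ⟨a, rfl⟩
    exact ⟨_, (b.T.h_conj p a).symm⟩

theorem u_mem (a : UO P) : b.u a ∈ b.B := Subgroup.mem_sup_left ⟨a, rfl⟩
theorem h_mem (p : Kˣ × Kˣ) : b.T.h p ∈ b.B := Subgroup.mem_sup_right ⟨p, rfl⟩

theorem fa (i : Bool) : ∀ x ∈ b.B, ∃ x', ∃ a ∈ rt b i, x = x' * a ∧ sr b i * x' * sr b i ∈ b.B := by
  intro x hx
  obtain ⟨p, c, rfl⟩ := (mem_B b).1 hx
  have e : ∀ y z : G, sr b i * (y * z) * sr b i = sr b i * y * sr b i * (sr b i * z * sr b i) := fun y z => by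
    nth_rewrite 5 [← inv_eq_of_mul_eq_one_right (sr_sq b i)]; group
  cases i
  · obtain ⟨q, hq, a, ha, rfl⟩ := exists_Qs_mul_U8 c
    refine ⟨b.T.h p * b.u q, _, ⟨a, ha, rfl⟩, by rw [map_mul, mul_assoc], ?_⟩
    rw [e, sr, b.T.n_h, b.n_conj q hq]
    exact mul_mem (h_mem b _) (u_mem b _)
  · obtain ⟨q, hq, e'⟩ := exists_Qp_mul_x1 c
    refine ⟨b.T.h p * b.u q, _, ⟨x1 c.a1, by simp [UU], rfl⟩, by rw [mul_assoc, ← map_mul, ← e'], ?_⟩
    rw [e, sr, b.m_h, b.m_conj q hq]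
    exact mul_mem (h_mem b _) (u_mem b _)

theorem fb (i : Bool) : ∀ a ∈ rt b i, a = 1 ∨ ∃ x ∈ b.B, ∃ y ∈ b.B, sr b i * a * sr b i = x * sr b i * y := by
  rintro _ ⟨a, ha, rfl⟩
  by_cases h : a = 1
  · exact .inl (by rw [h, map_one])
  cases i
  · exact .inr ⟨_, mul_mem (u_mem b _) (b.T.h_d _ ▸ h_mem b _), _, u_mem b _, b.rank2 a ha h⟩
  · have ha : a ∈ U1 P := ha
    have e : a = x1 a.a1 := by simp at ha; ext <;> simp [ha]
    have h0 : a.a1 ≠ 0 := fun e' => h (by rw [e, e']; rfl)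
    rw [e]
    exact .inr ⟨_, mul_mem (u_mem b _) (h_mem b _), _, u_mem b _, b.rank1 (Units.mk0 _ h0)⟩

theorem wd_mem : ∀ k i, wd (sr b) i k ∈ Subgroup.closure {b.n, b.m}
  | 0, _ => one_mem _
  | k + 1, i => mul_mem (Subgroup.subset_closure (by cases i <;> simp [sr])) (wd_mem k _)

end AT

open AT in
theorem BM.bruhat (b : BM R G) (hb : b.Rel) {g : G} (hg : g ∈ b.grp) :
    ∃ x ∈ b.B, ∃ w ∈ Subgroup.closure {b.n, b.m}, ∃ y ∈ b.B, g = x * w * y := by
  have st : ∀ i g, (∃ x ∈ b.B, ∃ w ∈ Subgroup.closure {b.n, b.m}, ∃ y ∈ b.B, g = x * w * y) →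
      ∃ x ∈ b.B, ∃ w ∈ Subgroup.closure {b.n, b.m}, ∃ y ∈ b.B, sr b i * g = x * w * y := by
    rintro i _ ⟨x, hx, w, hw, y, hy, rfl⟩
    obtain ⟨j, k, hk, rfl⟩ := exists_wd (sr_sq b) hb hw
    obtain ⟨l, hl, e⟩ := short (sr_sq b) hb i j hk
    obtain ⟨c, h1, d, h2, e | e⟩ := step (sr_sq b i) (fa b i) (fb b i)
      (fun a ha => Subgroup.mem_sup_left (chain' b i hl ha)) hx e
    · exact ⟨c, h1, _, wd_mem b l _, _, mul_mem h2 hy, by rw [← mul_assoc, ← mul_assoc, e, mul_assoc]⟩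
    · exact ⟨c, h1, _, wd_mem b (l + 1) i, _, mul_mem h2 hy, by rw [← mul_assoc, ← mul_assoc, e, mul_assoc, wd]⟩
  have sb : ∀ z ∈ b.B, ∀ g, (∃ x ∈ b.B, ∃ w ∈ Subgroup.closure {b.n, b.m}, ∃ y ∈ b.B, g = x * w * y) →
      ∃ x ∈ b.B, ∃ w ∈ Subgroup.closure {b.n, b.m}, ∃ y ∈ b.B, z * g = x * w * y := by
    rintro z hz _ ⟨x, hx, w, hw, y, hy, rfl⟩
    exact ⟨_, mul_mem hz hx, w, hw, y, hy, by group⟩
  rw [BM.grp, ← Subgroup.closure_eq (b.u.range ⊔ b.T.h.range), ← Subgroup.closure_union] at hg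
  induction hg using Subgroup.closure_induction_left with
  | one => exact ⟨1, one_mem _, 1, one_mem _, 1, one_mem _, by simp⟩
  | mul_left x hx y _ ih =>
    rcases hx with hx | rfl | rfl
    exacts [sb x hx y ih, st false y ih, st true y ih]
  | inv_mul_cancel x hx y _ ih =>
    rcases hx with hx | rfl | rfl
    · exact sb _ (inv_mem hx) y ih
    · rw [inv_eq_of_mul_eq_one_right b.n_sq]; exact st false y ih
    · rw [inv_eq_of_mul_eq_one_right b.m_sq]; exact st true y ih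

namespace AT

/-- the diagonal model -/
def prod (a : BM R X) (b : BM R G) : BM R (X × G) where
  u := a.u.prod b.u
  u_inj _ _ e := a.u_inj (congrArg Prod.fst e)
  d := a.d.prod b.d
  d_conj p x := Prod.ext (a.d_conj p x) (b.d_conj p x)
  n := (a.n, b.n)
  n_sq := Prod.ext a.n_sq b.n_sq
  n_conj x hx := Prod.ext (a.n_conj x hx) (b.n_conj x hx)
  n_d p := Prod.ext (a.n_d p) (b.n_d p)
  rank2 x hx h := Prod.ext (a.rank2 x hx h) (b.rank2 x hx h)
  n_not h := a.n_not ((show _ ≤ (a.u.range ⊔ a.d.range).comap (MonoidHom.fst X G) from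
    sup_le (by rintro _ ⟨x, rfl⟩; exact Subgroup.mem_sup_left ⟨x, rfl⟩)
      (by rintro _ ⟨x, rfl⟩; exact Subgroup.mem_sup_right ⟨x, rfl⟩)) h)
  T :=
    { h := a.T.h.prod b.T.h
      h_conj := fun p x => Prod.ext (a.T.h_conj p x) (b.T.h_conj p x)
      h_d := fun p => Prod.ext (a.T.h_d p) (b.T.h_d p)
      n_h := fun p => Prod.ext (a.T.n_h p) (b.T.n_h p) }
  m := (a.m, b.m)
  m_sq := Prod.ext a.m_sq b.m_sq
  m_conj x hx := Prod.ext (a.m_conj x hx) (b.m_conj x hx)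
  m_h p := Prod.ext (a.m_h p) (b.m_h p)
  rank1 t := Prod.ext (a.rank1 t) (b.rank1 t)

theorem eq_one_of (b : BM R G) {p : Kˣ × Kˣ} {a : UO P} (h : b.T.h p * b.u a = 1) : p = 1 ∧ a = 1 := by
  have e : ∀ x, dg P p x = a⁻¹ * x * a := fun x => b.u_inj (by
    rw [← b.T.h_conj, eq_inv_of_mul_eq_one_left h, map_mul, map_mul, map_inv, inv_inv])
  have e1 := congrArg UO.a1 (e (x1 1))
  have e2 := congrArg UO.b8 (e (y8 1))
  simp [c1, d8] at e1 e2
  have hp : p = 1 := Prod.ext (Units.ext (by rw [e1]; simp; grind)) (Units.ext (by rw [e2]; simp; grind))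
  rw [hp, map_one, one_mul, map_eq_one_iff _ b.u_inj] at h
  exact ⟨hp, h⟩

theorem wd_ne (M : RM R X) (i : Bool) {k : ℕ} (hk : k ≤ 7) : wd (sr M.toBM) i (k + 1) ≠ 1 := by
  intro h
  have ss := sr_sq M.toBM i
  rw [wd, mul_eq_one_iff_inv_eq, inv_eq_of_mul_eq_one_right ss] at h
  have c := fun a => chain' M.toBM i hk (a := a)
  rw [← h, inv_eq_of_mul_eq_one_right ss] at c
  cases i
  · have := c _ ⟨x8 1, by simp [UU], rfl⟩
    rw [sr, M.rank2 _ (by simp) fun e => by simpa using congrArg UO.a8 e] at this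
    have l : ∀ a, M.u a ∈ M.u.range ⊔ M.d.range := fun a => Subgroup.mem_sup_left ⟨a, rfl⟩
    exact M.n_not ((mul_mem_cancel_left (mul_mem (l _) (Subgroup.mem_sup_right ⟨_, rfl⟩))).1
      ((mul_mem_cancel_right (l _)).1 (Subgroup.mem_sup_left this)))
  · have := c _ ⟨x1 ((1 : Kˣ) : K), by simp [UU], rfl⟩
    rw [sr, M.rank1] at this
    have m1 := M.w_not _ (Subgroup.subset_closure (by simp)) ((mul_mem_cancel_left (mul_mem (u_mem _ _) (h_mem _ _))).1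
      ((mul_mem_cancel_right (u_mem _ _)).1 (Subgroup.mem_sup_left this)))
    have := M.m_conj (x4 1) (by simp)
    rw [m1, one_mul, mul_one] at this
    simpa using congrArg UO.a4 (M.u_inj this)

end AT

open AT in
theorem RM.exists_hom (M : RM R X) (b : BM R G) (hb : b.Rel) : ∃ Φ : X →* G, (∀ a, Φ (M.u a) = b.u a) ∧
    (∀ p, Φ (M.T.h p) = b.T.h p) ∧ Φ M.n = b.n ∧ Φ M.m = b.m := by
  let c := prod M.toBM b
  have hc : c.Rel := Prod.ext M.rel hb
  have mu : ∀ a, c.u a ∈ c.grp := fun a => Subgroup.mem_sup_left (u_mem c a)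
  have mh : ∀ p, c.T.h p ∈ c.grp := fun p => Subgroup.mem_sup_left (h_mem c p)
  have mn : c.n ∈ c.grp := Subgroup.mem_sup_right (Subgroup.subset_closure (by simp))
  have mm : c.m ∈ c.grp := Subgroup.mem_sup_right (Subgroup.subset_closure (by simp))
  let f : c.grp →* X := (MonoidHom.fst X G).comp c.grp.subtype
  have sur : Function.Surjective f := by
    rw [← MonoidHom.range_eq_top, eq_top_iff, ← M.gen]
    refine sup_le (sup_le ?_ ?_) ((Subgroup.closure_le _).2 ?_)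
    · rintro _ ⟨a, rfl⟩; exact ⟨⟨_, mu a⟩, rfl⟩
    · rintro _ ⟨p, rfl⟩; exact ⟨⟨_, mh p⟩, rfl⟩
    · rintro _ (rfl | rfl)
      exacts [⟨⟨_, mn⟩, rfl⟩, ⟨⟨_, mm⟩, rfl⟩]
  have inj : Function.Injective f := by
    rw [injective_iff_map_eq_one]
    rintro ⟨g, hg⟩ (h : g.1 = 1)
    obtain ⟨x, hx, w, hw, y, hy, rfl⟩ := c.bruhat hc hg
    obtain ⟨j, k, hk, rfl⟩ := exists_wd (sr_sq c) hc hw
    have l : ∀ z ∈ c.B, z.1 ∈ M.B := fun z hz => by
      obtain ⟨p, a, rfl⟩ := (mem_B c).1 hz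
      exact mul_mem (h_mem _ p) (u_mem _ a)
    have e : (wd (sr c) j k).1 = wd (sr M.toBM) j k := by
      refine (wd_map (MonoidHom.fst X G) _ k j).trans (congrArg (wd · j k) ?_)
      funext i; cases i <;> rfl
    have w1 := M.w_not _ (wd_mem _ k j) ((mul_mem_cancel_left (l x hx)).1 ((mul_mem_cancel_right (l y hy)).1
      (by rw [← e]; exact (show x.1 * _ * y.1 = 1 from h) ▸ one_mem _)))
    rcases k with _ | k
    · obtain ⟨p, a, e'⟩ := (mem_B c).1 (mul_mem hx hy)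
      apply Subtype.ext
      show x * 1 * y = 1
      rw [wd, mul_one, e'] at h
      obtain ⟨rfl, rfl⟩ := eq_one_of M.toBM h
      rw [mul_one, e', map_one, map_one, one_mul]
    · exact absurd w1 (wd_ne M j (by omega))
  let e := MulEquiv.ofBijective f ⟨inj, sur⟩
  have k : ∀ g : c.grp, (((MonoidHom.snd X G).comp c.grp.subtype).comp e.symm.toMonoidHom) g.1.1 = g.1.2 := fun g =>
    congrArg (fun z : c.grp => z.1.2) (e.symm_apply_apply g)
  exact ⟨_, fun a => k ⟨_, mu a⟩, fun p => k ⟨_, mh p⟩, k ⟨_, mn⟩, k ⟨_, mm⟩⟩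

end CL.Oct
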