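/-
The Bruhat decomposition of the group `C` of a model `CM` and first consequences.
-/
import Cfsg.Agent.Oct.UA
import Cfsg.Agent.Oct.UF
import Cfsg.Agent.Oct.D

set_option autoImplicit false
set_option linter.unusedSectionVars false
set_option maxRecDepth 20000

namespace CL.Oct

open UO Cfsg
open scoped commutatorElement

variable {K : Type*} [Field K] [CharP K 2] [Finite K] {P : Par K}


variable {R : Rk P} {G : Type*} [Group G] {X : Type*} [Group X]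

theorem Dp_eq_one_of_pow {p : Dp P} {k : ℕ} (h : p ^ 2 ^ k = 1) : p = 1 := by
  have h' : (p : Kˣ × Kˣ) ^ 2 ^ k = 1 := by exact_mod_cast h
  refine Subtype.ext (Prod.ext (Units.ext (units_eq_one_of_pow (k := k) ?_)) (Units.ext (units_eq_one_of_pow (k := k) ?_)))
  · simpa using congrArg (fun q : Kˣ × Kˣ => (q.1 : K)) h'
  · simpa using congrArg (fun q : Kˣ × Kˣ => (q.2 : K)) h'

theorem Dp_exists_sq (p : Dp P) : ∃ r : Dp P, r * r = p :=
  (Finite.injective_iff_surjective (f := fun r : Dp P => r * r)).1 (fun a b h => by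
    have h' : a * a = b * b := h
    have : (a * b⁻¹) ^ 2 ^ 1 = 1 := by
      rw [pow_one, mul_pow, inv_pow, pow_two, pow_two, h', mul_inv_cancel]
    exact mul_inv_eq_one.1 (Dp_eq_one_of_pow this)) p

namespace CM
variable (c : CM R G)

theorem n_inv : c.n⁻¹ = c.n := inv_eq_of_mul_eq_one_right c.n_sq

theorem d_mul_u (p : Dp P) (a : UO P) : c.d p * c.u a = c.u (dg P p a) * c.d p := by
  rw [← c.d_conj, inv_mul_cancel_right]

theorem n_mul_u {a : UO P} (ha : a ∈ Qs P) : c.n * c.u a = c.u (rn a) * c.n := by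
  rw [← c.n_conj a ha, mul_assoc _ c.n, c.n_sq, mul_one]

theorem d_mul_n (p : Dp P) : c.d p * c.n = c.n * c.d p⁻¹ := by
  rw [map_inv, ← c.n_d, ← mul_assoc, ← mul_assoc, c.n_sq, one_mul]

theorem u_mem_C (a : UO P) : c.u a ∈ c.C := Subgroup.mem_sup_left (Subgroup.mem_sup_left ⟨a, rfl⟩)
theorem d_mem_C (p : Dp P) : c.d p ∈ c.C := Subgroup.mem_sup_left (Subgroup.mem_sup_right ⟨p, rfl⟩)
theorem n_mem_C : c.n ∈ c.C := Subgroup.mem_sup_right (Subgroup.mem_zpowers _)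
theorem u_mem_B0 (a : UO P) : c.u a ∈ c.B0 := Subgroup.mem_sup_left ⟨a, rfl⟩
theorem d_mem_B0 (p : Dp P) : c.d p ∈ c.B0 := Subgroup.mem_sup_right ⟨p, rfl⟩
theorem B0_le_C : c.B0 ≤ c.C := le_sup_left
theorem S_le_C : c.S ≤ c.C := le_sup_left.trans le_sup_left

theorem C_le {A : Subgroup G} (h1 : ∀ a, c.u a ∈ A) (h2 : ∀ p, c.d p ∈ A) (h3 : c.n ∈ A) : c.C ≤ A :=
  sup_le (sup_le (by rintro _ ⟨a, rfl⟩; exact h1 a) (by rintro _ ⟨a, rfl⟩; exact h2 a)) (Subgroup.zpowers_le_of_mem h3)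

theorem mem_im {A : Subgroup (UO P)} {a : UO P} : c.u a ∈ c.im A ↔ a ∈ A := Subgroup.mem_map_iff_mem c.u_inj

theorem eq_one_of {a : UO P} {p : Dp P} (h : c.u a * c.d p = 1) : a = 1 ∧ p = 1 := by
  have k : ∀ x, a * dg P p x = x * a := fun x => c.u_inj (by
    rw [map_mul, map_mul, ← c.d_conj, ← mul_assoc, ← mul_assoc, h, one_mul, eq_inv_of_mul_eq_one_left h])
  have h1 := congrArg UO.a1 (k (x1 1))
  have h2 := congrArg UO.b8 (k (y8 1))
  simp [c1, d8, add_comm a.a1, add_comm a.b8] at h1 h2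
  have hp : p = 1 := Subtype.ext (Prod.ext h1 h2)
  rw [hp, map_one, mul_one] at h
  exact ⟨c.u_inj (h.trans (map_one _).symm), hp⟩

theorem mem_B0_iff {g : G} : g ∈ c.B0 ↔ ∃ a p, g = c.u a * c.d p := by
  refine ⟨fun h => ?_, by rintro ⟨a, p, rfl⟩; exact mul_mem (c.u_mem_B0 a) (c.d_mem_B0 p)⟩
  let A : Subgroup G :=
    { carrier := {g | ∃ a p, g = c.u a * c.d p}
      one_mem' := ⟨1, 1, by simp⟩
      mul_mem' := by
        rintro _ _ ⟨a, p, rfl⟩ ⟨b, q, rfl⟩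
        exact ⟨a * dg P p b, p * q, by rw [mul_assoc, ← mul_assoc (c.d p), d_mul_u]; simp only [map_mul, mul_assoc]⟩
      inv_mem' := by
        rintro _ ⟨a, p, rfl⟩
        exact ⟨_, p⁻¹, by rw [mul_inv_rev, ← map_inv, ← map_inv, d_mul_u]⟩ }
  exact (sup_le (by rintro _ ⟨a, rfl⟩; exact ⟨a, 1, by simp⟩) (by rintro _ ⟨a, rfl⟩; exact ⟨1, a, by simp⟩) : c.B0 ≤ A) h

theorem form2 (x a : UO P) (p : Dp P) :
    ∃ b ∈ U8 P, ∃ a' p', c.u x * c.n * c.u a * c.d p = c.u b * c.n * c.u a' * c.d p' := by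
  obtain ⟨q, hq, b, hb, e⟩ := exists_Qs_mul_U8 x⁻¹
  have hq' := rn_mem (inv_mem hq)
  refine ⟨b⁻¹, inv_mem hb, rn q⁻¹ * a, p, ?_⟩
  rw [inv_eq_iff_eq_inv.1 e, mul_inv_rev, map_mul, map_mul, mul_assoc _ c.n (_ * _), ← mul_assoc c.n, c.n_mul_u hq',
    rn_rn (inv_mem hq)]
  simp only [mul_assoc]

theorem mem_C_iff {g : G} :
    g ∈ c.C ↔ (∃ a p, g = c.u a * c.d p) ∨ ∃ b ∈ U8 P, ∃ a p, g = c.u b * c.n * c.u a * c.d p := by
  refine ⟨fun h => ?_, ?_⟩
  · let F : G → Prop := fun g => (∃ a p, g = c.u a * c.d p) ∨ ∃ b a p, g = c.u b * c.n * c.u a * c.d p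
    let A : Subgroup G :=
      { carrier := {g | ∀ x, F x ↔ F (x * g)}
        one_mem' := by simp
        mul_mem' := fun h1 h2 x => by rw [← mul_assoc]; exact (h1 x).trans (h2 _)
        inv_mem' := fun {g} h1 x => by rw [h1 (x * g⁻¹), inv_mul_cancel_right] }
    have hu : ∀ y x, F x → F (x * c.u y) := by
      rintro y _ (⟨a, p, rfl⟩ | ⟨b, a, p, rfl⟩)
      · exact .inl ⟨a * dg P p y, p, by rw [mul_assoc, d_mul_u]; simp only [map_mul, mul_assoc]⟩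
      · exact .inr ⟨b, a * dg P p y, p, by rw [mul_assoc, d_mul_u]; simp only [map_mul, mul_assoc]⟩
    have hd : ∀ q x, F x → F (x * c.d q) := by
      rintro q _ (⟨a, p, rfl⟩ | ⟨b, a, p, rfl⟩)
      · exact .inl ⟨a, p * q, by simp only [map_mul, mul_assoc]⟩
      · exact .inr ⟨b, a, p * q, by simp only [map_mul, mul_assoc]⟩
    have hn : ∀ x, F x → F (x * c.n) := by
      rintro _ (⟨a, p, rfl⟩ | ⟨b, a, p, rfl⟩)
      · exact .inr ⟨a, 1, p⁻¹, by rw [mul_assoc, d_mul_n, map_one, mul_one, mul_assoc]⟩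
      · obtain ⟨q, hq, y, hy, rfl⟩ := exists_Qs_mul_U8 a
        have e : c.u b * c.n * c.u (q * y) * c.d p * c.n = c.u (b * rn q) * (c.n * c.u y * c.n) * c.d p⁻¹ := by
          rw [mul_assoc _ _ c.n, d_mul_n, map_mul, map_mul, mul_assoc (c.u b), ← mul_assoc c.n, c.n_mul_u hq]
          simp only [mul_assoc]
        rw [e]
        refine hd _ _ ?_
        by_cases h1 : y = 1
        · exact .inl ⟨b * rn q, 1, by rw [h1, map_one, mul_one, c.n_sq, map_one]⟩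
        · rw [c.rank2 y hy h1, ← mul_assoc, mul_assoc (c.u _) (c.d _), d_mul_n, ← mul_assoc, ← mul_assoc,
            ← map_mul]
          exact hu _ _ (.inr ⟨b * rn q * R.β y, 1, (R.π y)⁻¹, by rw [map_one, mul_one]⟩)
    have hA : c.C ≤ A := c.C_le
      (fun a x => ⟨hu a x, fun h => by simpa using hu a⁻¹ _ h⟩) (fun p x => ⟨hd p x, fun h => by simpa using hd p⁻¹ _ h⟩)
      (fun x => ⟨hn x, fun h => by simpa only [mul_assoc, c.n_sq, mul_one] using hn _ h⟩)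
    rcases (hA h 1).1 (.inl ⟨1, 1, by simp⟩) with h | ⟨b, a, p, h⟩
    · exact .inl (by simpa using h)
    · rw [one_mul] at h
      exact .inr (h ▸ c.form2 b a p)
  · rintro (⟨a, p, rfl⟩ | ⟨b, -, a, p, rfl⟩)
    · exact mul_mem (c.u_mem_C a) (c.d_mem_C p)
    · exact mul_mem (mul_mem (mul_mem (c.u_mem_C b) c.n_mem_C) (c.u_mem_C a)) (c.d_mem_C p)

theorem not_mem_B0 {b a : UO P} {p : Dp P} : c.u b * c.n * c.u a * c.d p ∉ c.B0 := fun h => c.n_not (by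
  rwa [mul_mem_cancel_right (c.d_mem_B0 p), mul_mem_cancel_right (c.u_mem_B0 a),
    mul_mem_cancel_left (c.u_mem_B0 b)] at h)

theorem n_conj_not_mem {a : UO P} (ha : a ∈ U8 P) (h : c.n * c.u a * c.n ∈ c.B0) : a = 1 := by
  by_contra h1
  rw [c.rank2 a ha h1, mul_mem_cancel_right (c.u_mem_B0 _),
    mul_mem_cancel_left (mul_mem (c.u_mem_B0 _) (c.d_mem_B0 _))] at h
  exact c.n_not h

theorem form1_unique {a a' : UO P} {p p' : Dp P} (h : c.u a * c.d p = c.u a' * c.d p') : a = a' ∧ p = p' := by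
  have : c.u (a'⁻¹ * a) * c.d (p * p'⁻¹) = 1 := by
    rw [map_mul, map_mul, map_inv, map_inv, mul_assoc, ← mul_assoc (c.u a), h]; group
  obtain ⟨h1, h2⟩ := c.eq_one_of this
  exact ⟨(inv_mul_eq_one.1 h1).symm, mul_inv_eq_one.1 h2⟩

theorem bruhat_unique {b b' a a' : UO P} {p p' : Dp P} (hb : b ∈ U8 P) (hb' : b' ∈ U8 P)
    (h : c.u b * c.n * c.u a * c.d p = c.u b' * c.n * c.u a' * c.d p') : b = b' ∧ a = a' ∧ p = p' := by
  have e : c.n * c.u (b'⁻¹ * b) * c.n = (c.u a' * c.d p') * (c.u a * c.d p)⁻¹ := by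
    have : c.u b * c.n = c.u b' * c.n * (c.u a' * c.d p') * (c.u a * c.d p)⁻¹ := by
      rw [← mul_assoc, ← h]; group
    rw [map_mul, map_inv, mul_assoc, mul_assoc, this, ← c.n_inv]; simp only [c.n_inv, mul_assoc, inv_mul_cancel_left]
    rw [← mul_assoc, c.n_sq, one_mul]
  have h1 := c.n_conj_not_mem (mul_mem (inv_mem hb') hb) (e ▸ mul_mem (mul_mem (c.u_mem_B0 _) (c.d_mem_B0 _))
    (inv_mem (mul_mem (c.u_mem_B0 _) (c.d_mem_B0 _))))
  obtain rfl : b' = b := inv_mul_eq_one.1 h1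
  simp only [mul_assoc, mul_right_inj] at h
  exact ⟨rfl, c.form1_unique h⟩

theorem finite_C : Finite c.C := by
  refine Finite.of_surjective (fun x : (UO P × Dp P) ⊕ UO P × UO P × Dp P => (Sum.elim
    (fun x => ⟨c.u x.1 * c.d x.2, mul_mem (c.u_mem_C _) (c.d_mem_C _)⟩)
    (fun x => ⟨c.u x.1 * c.n * c.u x.2.1 * c.d x.2.2,
      mul_mem (mul_mem (mul_mem (c.u_mem_C _) c.n_mem_C) (c.u_mem_C _)) (c.d_mem_C _)⟩) x : c.C)) fun g => ?_
  rcases c.mem_C_iff.1 g.2 with ⟨a, p, h⟩ | ⟨b, -, a, p, h⟩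
  · exact ⟨.inl (a, p), Subtype.ext h.symm⟩
  · exact ⟨.inr (b, a, p), Subtype.ext h.symm⟩

theorem form1_pow (a : UO P) (p : Dp P) (k : ℕ) : ∃ b, (c.u a * c.d p) ^ k = c.u b * c.d (p ^ k) := by
  induction k with
  | zero => exact ⟨1, by simp⟩
  | succ k ih =>
    obtain ⟨b, h⟩ := ih
    exact ⟨b * dg P (p ^ k : Dp P) a, by
      rw [pow_succ, h, mul_assoc, ← mul_assoc (c.d _), d_mul_u, pow_succ]; simp only [map_mul, mul_assoc]⟩

theorem mem_S_of_two {g : G} (hg : g ∈ c.B0) {k : ℕ} (h : g ^ 2 ^ k = 1) : g ∈ c.S := by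
  obtain ⟨a, p, rfl⟩ := c.mem_B0_iff.1 hg
  obtain ⟨b, e⟩ := c.form1_pow a p (2 ^ k)
  rw [Dp_eq_one_of_pow (c.eq_one_of (e.symm.trans h)).2, map_one, mul_one]
  exact ⟨a, rfl⟩

theorem normalizer_im {A : Subgroup (UO P)} {g : G} (f : UO P → UO P) (hf : ∀ a, g * c.u a * g⁻¹ = c.u (f a))
    (hS : Function.Surjective f) (h : ∀ a, f a ∈ A ↔ a ∈ A) : g ∈ Subgroup.normalizer (c.im A : Set G) := by
  refine Subgroup.mem_normalizer_iff.2 fun x => ⟨?_, ?_⟩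
  · rintro ⟨a, ha, rfl⟩
    exact ⟨f a, (h a).2 ha, (hf a).symm⟩
  · rintro ⟨a, ha, e⟩
    obtain ⟨b, rfl⟩ := hS a
    rw [← hf, mul_left_inj, mul_right_inj] at e
    exact ⟨b, (h b).1 ha, e⟩

theorem B0_le_normalizer_im {A : Subgroup (UO P)} (hA : A.Normal) (hd : ∀ p a, dg P p a ∈ A ↔ a ∈ A) :
    c.B0 ≤ Subgroup.normalizer (c.im A : Set G) := by
  refine sup_le ?_ ?_
  · rintro _ ⟨x, rfl⟩
    exact c.normalizer_im (MulAut.conj x) (fun a => by simp) (MulAut.conj x).surjective fun a =>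
      ⟨fun h => by simpa [mul_assoc] using hA.conj_mem _ h x⁻¹, fun h => hA.conj_mem _ h x⟩
  · rintro _ ⟨p, rfl⟩
    exact c.normalizer_im (dg P p) (c.d_conj p) (dg P p).surjective (hd p)

theorem B0_le_normalizer : c.B0 ≤ Subgroup.normalizer (c.S : Set G) := by
  have := c.B0_le_normalizer_im (A := ⊤) inferInstance (by simp)
  rwa [im, ← MonoidHom.range_eq_map] at this

theorem C_le_of_two {A : Subgroup G} (h : ∀ g ∈ c.C, (∃ k, g ^ 2 ^ k = 1) → g ∈ A) : c.C ≤ A := by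
  have hn : c.n ∈ A := h _ c.n_mem_C ⟨1, by rw [pow_one, pow_two, c.n_sq]⟩
  refine c.C_le (fun a => h _ (c.u_mem_C a) ?_) (fun p => ?_) hn
  · obtain ⟨k, hk⟩ := isPGroup P a
    exact ⟨k, by rw [← map_pow, hk, map_one]⟩
  · obtain ⟨r, rfl⟩ := Dp_exists_sq p
    have h1 := h (c.d r * c.n * (c.d r)⁻¹) (mul_mem (mul_mem (c.d_mem_C _) c.n_mem_C) (inv_mem (c.d_mem_C _)))
      ⟨1, by rw [conj_pow, pow_one, pow_two, c.n_sq]; simp⟩
    have := mul_mem h1 hn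
    rwa [← map_inv, mul_assoc, mul_assoc, d_mul_n, inv_inv, ← mul_assoc c.n, c.n_sq, one_mul, ← map_mul] at this

theorem commute_Z {g : G} (hg : g ∈ c.C) (t : K) : Commute g (c.u (x4 t)) := by
  refine (Subgroup.mem_centralizer_singleton_iff.1 (c.C_le (A := Subgroup.centralizer {c.u (x4 t)})
    (fun a => ?_) (fun p => ?_) ?_ hg))
  all_goals rw [Subgroup.mem_centralizer_singleton_iff]
  · rw [← map_mul, ← map_mul]; congr 1; ext <;> simp [add_comm]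
  · rw [d_mul_u]; congr 2; ext <;> simp [mem_Dp.1 p.2]
  · rw [c.n_mul_u (by simp), rn_U4 (by simp)]

theorem C_le_normalizer_Q : c.C ≤ Subgroup.normalizer (c.Q : Set G) := by
  refine sup_le (c.B0_le_normalizer_im (normal_all P).2.2.2.2.1 fun p a => (dg_mem p a).1)
    (Subgroup.zpowers_le_of_mem (Subgroup.mem_normalizer_iff.2 fun x => ?_))
  have k : ∀ x ∈ c.Q, c.n * x * c.n ∈ c.Q := by
    rintro _ ⟨a, ha, rfl⟩
    exact ⟨rn a, rn_mem ha, (c.n_conj a ha).symm⟩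
  rw [n_inv]
  refine ⟨k x, fun h => ?_⟩
  have := k _ h
  rwa [← mul_assoc, ← mul_assoc, c.n_sq, one_mul, mul_assoc, c.n_sq, mul_one] at this

theorem mem_B0_of_normalizer_S {g : G} (hg : g ∈ c.C) (h : g ∈ Subgroup.normalizer (c.S : Set G)) : g ∈ c.B0 := by
  rcases c.mem_C_iff.1 hg with h1 | ⟨b, -, a, p, rfl⟩
  · exact c.mem_B0_iff.2 h1
  · rw [mul_mem_cancel_right (c.B0_le_normalizer (c.d_mem_B0 p)),
      mul_mem_cancel_right (c.B0_le_normalizer (c.u_mem_B0 a)),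
      mul_mem_cancel_left (c.B0_le_normalizer (c.u_mem_B0 b))] at h
    have h2 := (Subgroup.mem_normalizer_iff.1 h (c.u (x8 1))).1 ⟨_, rfl⟩
    rw [n_inv] at h2
    simpa using congrArg UO.a8 (c.n_conj_not_mem (a := x8 1) (by simp) (Subgroup.mem_sup_left h2))

theorem isPGroup_S : IsPGroup 2 c.S := (isPGroup P).of_surjective _ c.u.rangeRestrict_surjective

theorem isPGroup_im (A : Subgroup (UO P)) : IsPGroup 2 (c.im A) := ((isPGroup P).to_subgroup A).map _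

theorem le_S_of_two {A : Subgroup G} (hA : A ≤ c.C) (h2 : IsPGroup 2 A) (hS : c.S ≤ A) : A ≤ c.S := by
  have := c.finite_C
  have : Finite A := Finite.of_injective _ (Subgroup.inclusion_injective hA)
  have := Fact.mk Nat.prime_two
  have := h2.isNilpotent
  by_contra hne
  have hlt : c.S.subgroupOf A < ⊤ := lt_top_iff_ne_top.2 fun e => hne (Subgroup.subgroupOf_eq_top.1 e)
  obtain ⟨x, hx, hx'⟩ := SetLike.exists_of_lt (Group.normalizerCondition_of_isNilpotent _ hlt)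
  rw [← Subgroup.subgroupOf_normalizer_eq hS, Subgroup.mem_subgroupOf] at hx
  obtain ⟨k, hk⟩ := h2 x
  exact hx' (c.mem_S_of_two (c.mem_B0_of_normalizer_S (hA x.2) hx) (k := k) (congrArg Subtype.val hk))

theorem le_Q_of_normal {A : Subgroup G} (hA : A ≤ c.C) (h2 : IsPGroup 2 A)
    (hN : c.C ≤ Subgroup.normalizer (A : Set G)) : A ≤ c.Q := by
  have h1 : A ≤ c.S := le_sup_left.trans (c.le_S_of_two (sup_le hA c.S_le_C)
    (IsPGroup.to_sup_of_normal_left' h2 c.isPGroup_S (c.S_le_C.trans hN)) le_sup_right)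
  intro x hx
  obtain ⟨a, rfl⟩ := h1 hx
  obtain ⟨q, hq, b, hb, rfl⟩ := exists_Qs_mul_U8 a
  have h3 := h1 ((Subgroup.mem_normalizer_iff.1 (hN c.n_mem_C) _).1 hx)
  rw [n_inv, map_mul, ← mul_assoc, c.n_mul_u hq, mul_assoc, mul_assoc, mul_mem_cancel_left (MonoidHom.mem_range.2 ⟨_, rfl⟩), ← mul_assoc] at h3
  rw [c.n_conj_not_mem hb (Subgroup.mem_sup_left h3), mul_one]
  exact ⟨q, hq, rfl⟩

theorem normalizer_C_le_Q : Subgroup.normalizer (c.C : Set G) ≤ Subgroup.normalizer (c.Q : Set G) := by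
  have k : ∀ g ∈ Subgroup.normalizer (c.C : Set G), ∀ x ∈ c.Q, g * x * g⁻¹ ∈ c.Q := fun g hg x hx => by
    refine c.le_Q_of_normal (A := c.Q.map (MulAut.conj g).toMonoidHom) ?_ ((c.isPGroup_im _).map _) ?_ ⟨x, hx, rfl⟩
    · rintro _ ⟨_, ⟨a, -, rfl⟩, rfl⟩
      exact (Subgroup.mem_normalizer_iff.1 hg _).1 (c.u_mem_C a)
    · have k2 : ∀ y ∈ c.C, ∀ z ∈ c.Q.map (MulAut.conj g).toMonoidHom,
          y * z * y⁻¹ ∈ c.Q.map (MulAut.conj g).toMonoidHom := by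
        rintro y hy _ ⟨z, hz, rfl⟩
        have hy' : g⁻¹ * y * g ∈ c.C := by simpa using (Subgroup.mem_normalizer_iff.1 (inv_mem hg) y).1 hy
        exact ⟨_, (Subgroup.mem_normalizer_iff.1 (c.C_le_normalizer_Q hy') z).1 hz, by simp [mul_assoc]⟩
      exact fun y hy => Subgroup.mem_normalizer_iff.2 fun z =>
        ⟨k2 y hy z, fun h => by simpa [mul_assoc] using k2 _ (inv_mem hy) _ h⟩
  exact fun g hg => Subgroup.mem_normalizer_iff.2 fun x =>
    ⟨k g hg x, fun h => by simpa [mul_assoc] using k _ (inv_mem hg) _ h⟩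

theorem mem_Z_of_cent_Q {g : G} (hg : g ∈ c.C) (h : ∀ x ∈ c.Q, Commute g x) : g ∈ c.Z := by
  have h6 := (h (c.u (x6 1)) ⟨_, by simp, rfl⟩).eq
  rcases c.mem_C_iff.1 hg with ⟨a, p, rfl⟩ | ⟨b, -, a, p, rfl⟩
  · have k : ∀ x ∈ Qs P, a * dg P p x = x * a := fun x hx => c.u_inj (by
      have := (h (c.u x) ⟨_, hx, rfl⟩).eq
      rw [mul_assoc, d_mul_u, ← mul_assoc, ← mul_assoc, mul_left_inj] at this
      rw [map_mul, map_mul, this])
    have h1 := congrArg UO.a1 (k (x1 1) (by simp))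
    simp [add_comm] at h1
    have hp : p = 1 := Subtype.ext (eq_of_c46 (P := P) (by rw [mem_Dp.1 p.2]; simp [c4]) (by
      have := c4_eq (P := P) (p : Kˣ × Kˣ)
      rw [mem_Dp.1 p.2, h1, one_mul] at this
      rw [← this]; simp [c6]))
    subst hp
    rw [map_one, mul_one]
    exact ⟨a, cent_Qs.1 fun x hx => by simpa [Commute, SemiconjBy] using k x hx, rfl⟩
  · exfalso
    have e1 : dg P p (x6 1) = x4 0 * x6 (c6 P p) := by ext <;> simp
    have e : c.u a * c.u (dg P p (x6 1)) = c.u (a * dg P p (x6 1) * a⁻¹) * c.u a := by simp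
    rw [mul_assoc, d_mul_u, ← mul_assoc, mul_assoc _ (c.u a), e, ← mul_assoc, mul_assoc _ c.n, e1, conj_v,
      c.n_mul_u (by simp)] at h6
    simp only [← mul_assoc, mul_left_inj, ← map_mul] at h6
    have h7 := congrArg UO.a2 (c.u_inj h6)
    simp [(c_ne (P := P) (p : Kˣ × Kˣ)).2] at h7

/-- the product of two models -/
def prod (c' : CM R X) : CM R (G × X) where
  u := c.u.prod c'.u
  u_inj := fun _ _ h => c.u_inj (congrArg Prod.fst h)
  d := c.d.prod c'.d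
  d_conj := fun p a => Prod.ext (c.d_conj p a) (c'.d_conj p a)
  n := (c.n, c'.n)
  n_sq := Prod.ext c.n_sq c'.n_sq
  n_conj := fun a ha => Prod.ext (c.n_conj a ha) (c'.n_conj a ha)
  n_d := fun p => Prod.ext (c.n_d p) (c'.n_d p)
  rank2 := fun a ha h => Prod.ext (c.rank2 a ha h) (c'.rank2 a ha h)
  n_not := fun h => c.n_not ((sup_le (by rintro _ ⟨a, rfl⟩; exact c.u_mem_B0 a) (by rintro _ ⟨a, rfl⟩; exact c.d_mem_B0 a) :
    _ ≤ c.B0.comap (MonoidHom.fst G X)) h)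

theorem bij_aux {Y : Type*} [Group Y] (e : CM R Y) (f : Y →* G) (hu : ∀ a, f (e.u a) = c.u a)
    (hd : ∀ p, f (e.d p) = c.d p) (hn : f e.n = c.n) :
    ∃ φ : e.C ≃* c.C, ∀ x, (φ x : G) = f x := by
  have hle : e.C ≤ c.C.comap f := e.C_le (fun a => by rw [Subgroup.mem_comap, hu]; exact c.u_mem_C a)
    (fun a => by rw [Subgroup.mem_comap, hd]; exact c.d_mem_C a) (by rw [Subgroup.mem_comap, hn]; exact c.n_mem_C)
  refine ⟨MulEquiv.ofBijective ((f.comp e.C.subtype).codRestrict c.C fun x => hle x.2)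
    ⟨(injective_iff_map_eq_one _).2 fun x hx => ?_, fun y => ?_⟩, fun _ => rfl⟩
  · have hx' : f x = 1 := congrArg Subtype.val hx
    rcases e.mem_C_iff.1 x.2 with ⟨a, p, h⟩ | ⟨b, -, a, p, h⟩
    · rw [h, map_mul, hu, hd] at hx'
      obtain ⟨rfl, rfl⟩ := c.eq_one_of hx'
      exact Subtype.ext (by simpa using h)
    · rw [h, map_mul, map_mul, map_mul, hu, hu, hd, hn] at hx'
      exact (c.not_mem_B0 (hx' ▸ one_mem _)).elim
  · obtain ⟨x, hx, e'⟩ := c.C_le (A := e.C.map f) (fun a => ⟨_, e.u_mem_C a, hu a⟩) (fun a => ⟨_, e.d_mem_C a, hd a⟩)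
      ⟨_, e.n_mem_C, hn⟩ y.2
    exact ⟨⟨x, hx⟩, Subtype.ext e'⟩

theorem exists_iso (c' : CM R X) : ∃ e : c.C ≃* c'.C, (∀ a h h', e ⟨c.u a, h⟩ = ⟨c'.u a, h'⟩) ∧
    (∀ p h h', e ⟨c.d p, h⟩ = ⟨c'.d p, h'⟩) ∧ ∀ h h', e ⟨c.n, h⟩ = ⟨c'.n, h'⟩ := by
  obtain ⟨φ, hφ⟩ := c.bij_aux (c.prod c') (MonoidHom.fst G X) (fun _ => rfl) (fun _ => rfl) rfl
  obtain ⟨ψ, hψ⟩ := c'.bij_aux (c.prod c') (MonoidHom.snd G X) (fun _ => rfl) (fun _ => rfl) rfl
  have k : ∀ (x : (c.prod c').C) h h', (φ.symm.trans ψ) ⟨x.1.1, h⟩ = ⟨x.1.2, h'⟩ := fun x h h' => by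
    rw [MulEquiv.trans_apply, (φ.symm_apply_eq.2 (Subtype.ext (hφ x).symm) : φ.symm ⟨x.1.1, h⟩ = x)]
    exact Subtype.ext (hψ x)
  exact ⟨φ.symm.trans ψ, fun a => k ⟨_, (c.prod c').u_mem_C a⟩, fun a => k ⟨_, (c.prod c').d_mem_C a⟩,
    k ⟨_, (c.prod c').n_mem_C⟩⟩

/-- the model inside its own group `C` -/
def res : CM R c.C where
  u := c.u.codRestrict _ c.u_mem_C
  u_inj := fun _ _ h => c.u_inj (congrArg Subtype.val h)
  d := c.d.codRestrict _ c.d_mem_C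
  d_conj := fun p a => Subtype.ext (c.d_conj p a)
  n := ⟨c.n, c.n_mem_C⟩
  n_sq := Subtype.ext c.n_sq
  n_conj := fun a ha => Subtype.ext (c.n_conj a ha)
  n_d := fun p => Subtype.ext (c.n_d p)
  rank2 := fun a ha h => Subtype.ext (c.rank2 a ha h)
  n_not := fun h => c.n_not ((sup_le (by rintro _ ⟨a, rfl⟩; exact c.u_mem_B0 a) (by rintro _ ⟨a, rfl⟩; exact c.d_mem_B0 a) :
    _ ≤ c.B0.comap c.C.subtype) h)

/-- the image of a model under an injective homomorphism -/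
def map (f : G →* X) (hf : Function.Injective f) : CM R X where
  u := f.comp c.u
  u_inj := hf.comp c.u_inj
  d := f.comp c.d
  d_conj := fun p a => by simpa using congrArg f (c.d_conj p a)
  n := f c.n
  n_sq := by simpa using congrArg f c.n_sq
  n_conj := fun a ha => by simpa using congrArg f (c.n_conj a ha)
  n_d := fun p => by simpa using congrArg f (c.n_d p)
  rank2 := fun a ha h => by simpa using congrArg f (c.rank2 a ha h)
  n_not := fun h => c.n_not (by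
    rwa [MonoidHom.range_comp, MonoidHom.range_comp, ← Subgroup.map_sup, Subgroup.mem_map_iff_mem hf] at h)

theorem exists_map (f : c.C →* X) (hf : Function.Injective f) : ∃ c' : CM R X, (∀ a h, c'.u a = f ⟨c.u a, h⟩) ∧
    (∀ p h, c'.d p = f ⟨c.d p, h⟩) ∧ (∀ h, c'.n = f ⟨c.n, h⟩) ∧ c'.C = f.range := by
  refine ⟨c.res.map f hf, fun _ _ => rfl, fun _ _ => rfl, fun _ => rfl,
    le_antisymm (CM.C_le _ (fun _ => ⟨_, rfl⟩) (fun _ => ⟨_, rfl⟩) ⟨_, rfl⟩) ?_⟩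
  rintro _ ⟨x, rfl⟩
  let c' := c.res.map f hf
  rcases c.mem_C_iff.1 x.2 with ⟨a, p, h⟩ | ⟨b, -, a, p, h⟩
  · rw [(Subtype.ext h : x = c.res.u a * c.res.d p), map_mul]
    exact mul_mem (c'.u_mem_C a) (c'.d_mem_C p)
  · rw [(Subtype.ext h : x = c.res.u b * c.res.n * c.res.u a * c.res.d p), map_mul, map_mul, map_mul]
    exact mul_mem (mul_mem (mul_mem (c'.u_mem_C b) c'.n_mem_C) (c'.u_mem_C a)) (c'.d_mem_C p)

theorem exists_aut_of_S {c' : CM R G} (h : c'.S = c.S) : ∃ α : MulAut (UO P), ∀ a, c.u (α a) = c'.u a :=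
  ⟨((MonoidHom.ofInjective c'.u_inj).trans (MulEquiv.subgroupCongr h)).trans (MonoidHom.ofInjective c.u_inj).symm,
    fun a => by simp [MonoidHom.apply_ofInjective_symm, MonoidHom.ofInjective_apply]⟩

theorem Z_eq_of_S {c' : CM R G} (h : c'.S = c.S) : c'.Z = c.Z ∧ c'.V = c.V ∧ c'.Q' = c.Q' := by
  obtain ⟨α, hα⟩ := c.exists_aut_of_S h
  have k : ∀ A : Subgroup (UO P), (∀ x, α x ∈ A ↔ x ∈ A) → c'.im A = c.im A := fun A hA => by
    refine le_antisymm ?_ ?_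
    · rintro _ ⟨a, ha, rfl⟩
      exact ⟨α a, (hA a).2 ha, hα a⟩
    · rintro _ ⟨a, ha, rfl⟩
      obtain ⟨b, rfl⟩ := α.surjective a
      exact ⟨b, (hA b).1 ha, (hα b).symm⟩
  exact ⟨k _ fun x => (aut_mem α x).1, k _ fun x => (aut_mem α x).2.1, k _ fun x => (aut_mem α x).2.2.2.1⟩

end CM

end CL.Oct
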