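/-
The centralizer of a 2-central involution in the large Ree group.
-/
import Cfsg.Agent.Oct.AT
import Cfsg.Agent.Oct.CA
import Cfsg.Agent.Even.Amb

set_option autoImplicit false
set_option linter.unusedSectionVars false

namespace CL.Oct

open UO Cfsg CL.Even

variable {K : Type*} [Field K] [CharP K 2] [Finite K] {P : Par K} {R : Rk P} {G : Type*} [Group G] {X : Type*} [Group X]

theorem ac_word {n m w : G} (hn : n * n = 1) (hm : m * m = 1) (h8 : (m * n) ^ 8 = 1)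
    (hw : w ∈ Subgroup.closure {n, m}) : ∃ j < 8, w = (m * n) ^ j ∨ w = (m * n) ^ j * n := by
  suffices h : ∃ j : ℕ, w = (m * n) ^ j ∨ w = (m * n) ^ j * n by
    obtain ⟨j, h⟩ := h
    exact ⟨j % 8, Nat.mod_lt _ (by decide), by rwa [← pow_eq_pow_mod j h8]⟩
  have k : ∀ x : G, ∀ y ∈ ({n, m} : Set G), (∃ j : ℕ, x = (m * n) ^ j ∨ x = (m * n) ^ j * n) →
      ∃ j : ℕ, x * y = (m * n) ^ j ∨ x * y = (m * n) ^ j * n := by
    rintro _ _ (rfl | rfl) ⟨j, rfl | rfl⟩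
    · exact ⟨j, .inr rfl⟩
    · exact ⟨j, .inl (by rw [mul_assoc, hn, mul_one])⟩
    · exact ⟨j + 1, .inr (by rw [pow_succ, mul_assoc, mul_assoc, hn, mul_one])⟩
    · refine ⟨j + 7, .inl ?_⟩
      rw [pow_add, mul_assoc, ← inv_eq_of_mul_eq_one_right ((pow_succ' _ 7).symm.trans h8), mul_inv_rev,
        inv_eq_of_mul_eq_one_right hn, inv_eq_of_mul_eq_one_right hm]
  induction hw using Subgroup.closure_induction_right with
  | one => exact ⟨0, .inl (pow_zero _).symm⟩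
  | mul_right x _ y hy ih => exact k x y hy ih
  | mul_inv_cancel x _ y hy ih =>
    rw [show y⁻¹ = y by rcases hy with rfl | rfl <;> exact inv_eq_of_mul_eq_one_right ‹_›]
    exact k x y hy ih

theorem BM.ac_dec (b : BM R G) {g : G} (hg : g ∈ b.C ⊔ b.T.h.range) :
    ∃ c ∈ b.C, ∃ p, g = c * b.T.h p ∧ ∀ s, g * b.u (x4 s) * g⁻¹ = b.u (x4 (c4 P p * s)) := by
  have hd : ∀ p ∈ Dp P, b.T.h p ∈ b.C := fun p hp =>
    Subgroup.mem_sup_left (Subgroup.mem_sup_right ⟨⟨p, hp⟩, (b.T.h_d ⟨p, hp⟩).symm⟩)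
  have hn : b.T.h.range ≤ 𝒩(b.C) := le_norm_of_cj_le (by
    rintro _ ⟨p, rfl⟩
    refine Subgroup.map_le_iff_le_comap.2 (sup_le (sup_le ?_ ?_) (Subgroup.zpowers_le.2 ?_))
    · rintro _ ⟨a, rfl⟩
      exact Subgroup.mem_sup_left (Subgroup.mem_sup_left ⟨_, (b.T.h_conj p a).symm⟩)
    · rintro _ ⟨q, rfl⟩
      change b.T.h p * b.d q * (b.T.h p)⁻¹ ∈ b.C
      rw [← b.T.h_d, ← map_mul, mul_comm p, map_mul, mul_inv_cancel_right]
      exact hd _ q.2
    · change b.T.h p * b.n * (b.T.h p)⁻¹ ∈ b.C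
      have e : b.T.h p * b.n * (b.T.h p)⁻¹ = b.n * (b.T.h (p * (sn P p)⁻¹))⁻¹ := by
        rw [map_mul, map_inv, ← b.T.n_h, mul_inv_rev, inv_inv, ← mul_assoc, ← mul_assoc, ← mul_assoc, b.n_sq, one_mul]
      rw [e]
      exact mul_mem (Subgroup.mem_sup_right (Subgroup.mem_zpowers _)) (inv_mem (hd _ (mul_sn_inv_mem p))))
  obtain ⟨c, hc, _, ⟨p, rfl⟩, rfl⟩ := (mem_sup_nl hn).1 hg
  refine ⟨c, hc, p, rfl, fun s => ?_⟩
  rw [show c * b.T.h p * b.u (x4 s) * (c * b.T.h p)⁻¹ = c * (b.T.h p * b.u (x4 s) * (b.T.h p)⁻¹) * c⁻¹ by group,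
    b.T.h_conj, show dg P p (x4 s) = x4 (c4 P p * s) by ext <;> simp, (b.commute_Z hc _).eq, mul_inv_cancel_right]

theorem BM.ac_zero (b : BM R G) (hb : b.Rel) {s s' : K} (hs : s ≠ 0) (hs' : s' ≠ 0) {j : ℕ} (hj : j < 8)
    (e : (b.m * b.n) ^ j * b.u (x4 s) * ((b.m * b.n) ^ j)⁻¹ = b.u (x4 s')) : j = 0 := by
  obtain ⟨Z, hZ⟩ : ∃ Z : ℕ → K → G, ∀ j s, Z j s = (b.m * b.n) ^ j * b.u (x4 s) * ((b.m * b.n) ^ j)⁻¹ := ⟨_, fun _ _ => rfl⟩
  have st : ∀ j s, Z (j + 1) s = b.m * (b.n * Z j s * b.n) * b.m := fun j s => by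
    rw [hZ, hZ, pow_succ', mul_inv_rev, mul_inv_rev, inv_eq_of_mul_eq_one_right b.n_sq,
      inv_eq_of_mul_eq_one_right b.m_sq]
    group
  have st' : ∀ j s, Z j s = b.n * (b.m * Z (j + 1) s * b.m) * b.n := fun j s => by
    simp only [st, mul_assoc, b.m_sq, b.n_sq, mul_one]
    simp only [← mul_assoc, b.m_sq, b.n_sq, one_mul]
  have p8 : ∀ j s, Z (j + 8) s = Z j s := fun j s => by rw [hZ, hZ, pow_add, show (b.m * b.n) ^ 8 = 1 from hb, mul_one]
  have z0 : ∀ s, Z 0 s = b.u (x4 s) := fun s => by simp [hZ]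
  have z1 : ∀ s, Z 1 s = b.u (x6 s) := fun s => by
    rw [st, z0, b.n_conj _ (by simp), show rn (x4 s : UO P) = x4 s by ext <;> simp, b.m_conj _ (by simp),
      show rp (x4 s : UO P) = x6 s by ext <;> simp]
  have z2 : ∀ s, Z 2 s = b.u (x8 s) := fun s => by
    rw [st, z1, b.n_conj _ (by simp), show rn (x6 s : UO P) = x2 s by ext <;> simp, b.m_conj _ (by simp),
      show rp (x2 s : UO P) = x8 s by ext <;> simp]
  have z7 : ∀ s, Z 7 s = b.u (x2 s) := fun s => by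
    rw [st', p8 0, z0, b.m_conj _ (by simp), show rp (x4 s : UO P) = x6 s by ext <;> simp, b.n_conj _ (by simp),
      show rn (x6 s : UO P) = x2 s by ext <;> simp]
  have z6 : ∀ s, s ≠ 0 → ∀ a, Z 6 s ≠ b.u a := fun s hs a e => by
    rw [st', z7, b.m_conj _ (by simp), show rp (x2 s : UO P) = x8 s by ext <;> simp] at e
    exact hs (congrArg UO.a8 (b.n_conj_not_mem (a := x8 s) (by simp) (e ▸ Subgroup.mem_sup_left ⟨a, rfl⟩)))
  have sh : ∀ k, Z (j + k) s = Z k s' := fun k => by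
    induction k with
    | zero => rw [add_zero, hZ, e, z0]
    | succ k ih => rw [← add_assoc, st, ih, st]
  interval_cases j
  · rfl
  · exact absurd (congrArg UO.a6 (b.u_inj ((z1 s).symm.trans ((sh 0).trans (z0 s'))))) hs
  · exact absurd (congrArg UO.a8 (b.u_inj ((z2 s).symm.trans ((sh 0).trans (z0 s'))))) hs
  · exact absurd ((sh 6).symm.trans ((p8 1 s).trans (z1 s))) (z6 s' hs' _)
  · exact absurd ((sh 6).symm.trans ((p8 2 s).trans (z2 s))) (z6 s' hs' _)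
  · exact absurd ((sh 1).trans (z1 s')) (z6 s hs _)
  · exact absurd ((sh 0).trans (z0 s')) (z6 s hs _)
  · exact absurd (congrArg UO.a2 (b.u_inj ((z7 s).symm.trans ((sh 0).trans (z0 s'))))) hs

theorem RM.centralizer_eq (M : RM R X) {t : K} (ht : t ≠ 0) : Subgroup.centralizer {M.u (x4 t)} = M.C := by
  refine le_antisymm (fun g hg => ?_) fun g hg => Subgroup.mem_centralizer_singleton_iff.2 (M.commute_Z hg t).eq
  rw [Subgroup.mem_centralizer_singleton_iff, ← mul_inv_eq_iff_eq_mul] at hg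
  have hB : M.B ≤ M.C ⊔ M.T.h.range := sup_le_sup_right (le_sup_left.trans le_sup_left) _
  have hn : M.n ∈ M.C := Subgroup.mem_sup_right (Subgroup.mem_zpowers _)
  obtain ⟨x, hx, w, hw, y, hy, rfl⟩ := M.bruhat M.rel (g := g) (M.gen ▸ Subgroup.mem_top g)
  obtain ⟨-, -, p, -, h1⟩ := M.ac_dec (hB hy)
  obtain ⟨-, -, q, -, h2⟩ := M.ac_dec (hB (inv_mem hx))
  have h3 : w * M.u (x4 (c4 P p * t)) * w⁻¹ = M.u (x4 (c4 P q * t)) := by
    rw [← h1, ← h2, ← hg]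
    nth_rewrite 2 [← hg]
    group
  have h4 : w ∈ M.C := by
    obtain ⟨j, hj, rfl | rfl⟩ := ac_word M.n_sq M.m_sq M.rel hw
    · rw [M.ac_zero M.rel (mul_ne_zero (c_ne p).1 ht) (mul_ne_zero (c_ne q).1 ht) hj h3, pow_zero]
      exact one_mem _
    · rw [mul_assoc _ M.n, (M.commute_Z hn _).eq, mul_inv_rev, ← mul_assoc, ← mul_assoc, mul_inv_cancel_right] at h3
      rwa [M.ac_zero M.rel (mul_ne_zero (c_ne p).1 ht) (mul_ne_zero (c_ne q).1 ht) hj h3, pow_zero, one_mul]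
  obtain ⟨c, hc, p', e, h5⟩ := M.ac_dec (mul_mem (mul_mem (hB hx) (Subgroup.mem_sup_left h4)) (hB hy))
  have h6 : t = c4 P p' * t := congrArg UO.a4 (M.u_inj (hg.symm.trans (h5 t)))
  have h7 : p' ∈ Dp P := (mul_right_cancel₀ ht ((one_mul t).trans h6)).symm
  rw [e]
  exact mul_mem hc (Subgroup.mem_sup_left (Subgroup.mem_sup_right ⟨⟨p', h7⟩, (M.T.h_d ⟨p', h7⟩).symm⟩))

end CL.Oct
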