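/-
The model of a large Ree group: torus, reflections and rank one relations.
-/
import Cfsg.Agent.Oct.D
import Cfsg.Agent.Chev.TwRealF4
import Cfsg.Agent.Chev.EGOct2
import Cfsg.Agent.RF4.MU
import Cfsg.Agent.S2661

set_option autoImplicit false
set_option linter.unusedSectionVars false
set_option linter.unusedSimpArgs false
set_option maxRecDepth 20000

namespace CL.Oct

open UO Cfsg CL.Chev CL.Chev.Cert CL.Cox CL.Chev.StSys CL.GL2 CL.Chev.GLv

variable {Φ : Type} {R : RS (Fin 4) Φ} {K : Type*} [Field K] [CharP K 2] {G : Type*} [Group G]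

namespace Md

/-- the coordinates of the root with index `r` -/
def rv (r : ℕ) : Fin 4 → ℤ := fun i => auxF4.rt r i

/-- The coordinate group inside a system of type `F₄`. -/
structure UH (S : StSys R K G) (θ : K ≃+* K) (P : Par K) where
  ρ : ℕ → Φ
  root : ∀ r < 48, R.root (ρ r) = rv r
  u : UO P →* G
  inj : Function.Injective u
  σ_eq : ∀ t, P.σ t = θ t ^ 2
  e1 : ∀ t, u (x1 t) = S.x (ρ 33) (θ t) * S.x (ρ 24) t
  f2 : ∀ t, u (y2 t) = S.x (ρ 34) (θ t) * S.x (ρ 26) t * S.x (ρ 36) (t * θ t)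
  e2 : ∀ t, u (x2 t) = S.x (ρ 36) (θ t) * S.x (ρ 42) t
  e3 : ∀ t, u (x3 t) = S.x (ρ 38) (θ t) * S.x (ρ 43) t
  f4 : ∀ t, u (y4 t) = S.x (ρ 29) (θ t) * S.x (ρ 41) t * S.x (ρ 44) (t * θ t)
  e4 : ∀ t, u (x4 t) = S.x (ρ 44) (θ t) * S.x (ρ 47) t
  e5 : ∀ t, u (x5 t) = S.x (ρ 39) (θ t) * S.x (ρ 45) t
  f6 : ∀ t, u (y6 t) = S.x (ρ 35) (θ t) * S.x (ρ 31) t * S.x (ρ 40) (t * θ t)
  e6 : ∀ t, u (x6 t) = S.x (ρ 40) (θ t) * S.x (ρ 46) t
  e7 : ∀ t, u (x7 t) = S.x (ρ 37) (θ t) * S.x (ρ 32) t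
  f8 : ∀ t, u (y8 t) = S.x (ρ 27) (θ t) * S.x (ρ 25) t * S.x (ρ 28) (t * θ t)
  e8 : ∀ t, u (x8 t) = S.x (ρ 28) (θ t) * S.x (ρ 30) t

theorem hom_ext {P : Par K} {φ ψ : UO P →* G} (h1 : ∀ t, φ (x1 t) = ψ (x1 t)) (h2 : ∀ t, φ (y2 t) = ψ (y2 t))
    (h3 : ∀ t, φ (x2 t) = ψ (x2 t)) (h4 : ∀ t, φ (x3 t) = ψ (x3 t)) (h5 : ∀ t, φ (y4 t) = ψ (y4 t))
    (h6 : ∀ t, φ (x4 t) = ψ (x4 t)) (h7 : ∀ t, φ (x5 t) = ψ (x5 t)) (h8 : ∀ t, φ (y6 t) = ψ (y6 t))
    (h9 : ∀ t, φ (x6 t) = ψ (x6 t)) (h10 : ∀ t, φ (x7 t) = ψ (x7 t)) (h11 : ∀ t, φ (y8 t) = ψ (y8 t))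
    (h12 : ∀ t, φ (x8 t) = ψ (x8 t)) (a : UO P) : φ a = ψ a := by
  rw [nf a]
  simp only [map_mul, h1, h2, h3, h4, h5, h6, h7, h8, h9, h10, h11, h12]

theorem mem_of_gens {P : Par K} {φ : UO P →* G} {H : Subgroup G} (h1 : ∀ t, φ (x1 t) ∈ H) (h2 : ∀ t, φ (y2 t) ∈ H)
    (h3 : ∀ t, φ (x2 t) ∈ H) (h4 : ∀ t, φ (x3 t) ∈ H) (h5 : ∀ t, φ (y4 t) ∈ H)
    (h6 : ∀ t, φ (x4 t) ∈ H) (h7 : ∀ t, φ (x5 t) ∈ H) (h8 : ∀ t, φ (y6 t) ∈ H)
    (h9 : ∀ t, φ (x6 t) ∈ H) (h10 : ∀ t, φ (x7 t) ∈ H) (h11 : ∀ t, φ (y8 t) ∈ H)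
    (h12 : ∀ t, φ (x8 t) ∈ H) (a : UO P) : φ a ∈ H := by
  rw [nf a]
  simp only [map_mul]
  exact mul_mem (mul_mem (mul_mem (mul_mem (mul_mem (mul_mem (mul_mem (mul_mem (mul_mem (mul_mem (mul_mem (h1 _) (h2 _))
    (h3 _)) (h4 _)) (h5 _)) (h6 _)) (h7 _)) (h8 _)) (h9 _)) (h10 _)) (h11 _)) (h12 _)

/-- the inverse of the Cartan matrix -/
def pinv : Matrix (Fin 4) (Fin 4) ℤ := !![2, 3, 4, 2; 3, 6, 8, 4; 2, 4, 6, 3; 1, 2, 3, 2]

theorem pinv_mul : pinv * cF4 = 1 := matrix_ext_of_all (by decide +kernel)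

/-- `θ` on units -/
def θu (θ : K ≃+* K) : Kˣ →* Kˣ := Units.map (θ : K →* K)

@[simp] theorem coe_θu (θ : K ≃+* K) (t : Kˣ) : (θu θ t : K) = θ t := rfl

/-- the characters of the simple roots -/
def vec (θ : K ≃+* K) : Kˣ × Kˣ →* (Fin 4 → Kˣ) :=
  MonoidHom.mk' (fun p => ![θu θ p.1, θu θ p.2, p.2, p.1]) fun p q => by
    ext i : 1; fin_cases i <;> simp

section Abs

variable {S : StSys R K G} {A : S.GAut} {θ : K ≃+* K} {c d : Φ} (h : A.IsF4 θ c d)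

/-- the torus -/
noncomputable def tor : Kˣ × Kˣ →* G := h.hMul.torus.comp ((matPow Kˣ pinv).comp (vec θ))

theorem tor_apply (p : Kˣ × Kˣ) : tor h p = h.hMul.torus (matPow Kˣ pinv (vec θ p)) := rfl

theorem tor_mem_H (p : Kˣ × Kˣ) : tor h p ∈ S.H := by rw [tor_apply]; exact h.hMul.torus_mem_H _

include h in
theorem chi_pinv (b : Fin 4 → Kˣ) (j : Fin 4) : R.chi Kˣ (R.simple j) (matPow Kˣ pinv b) = b j := by
  rw [R.chi_simple, show Matrix.of R.cartan = cF4 from h.cartan, ← matPow_mul, pinv_mul, matPow_one]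

theorem tor_conj (p : Kˣ × Kˣ) {r : Φ} {k l m n : ℕ} (hr : R.root r = ![(k : ℤ), l, m, n]) (t : K) :
    tor h p * S.x r t * (tor h p)⁻¹ = S.x r (θ p.1 ^ k * θ p.2 ^ l * p.2 ^ m * p.1 ^ n * t) := by
  rw [tor_apply, h.hMul.conj_torus, R.chi_eq_prod]
  simp [chi_pinv h, hr, Fin.prod_univ_four, vec]

theorem pinv_vec (p : Kˣ × Kˣ) : matPow Kˣ pinv (vec θ p) =
    ![θu θ p.1 ^ 2 * θu θ p.2 ^ 3 * p.2 ^ 2 * p.1, θu θ p.1 ^ 3 * θu θ p.2 ^ 6 * p.2 ^ 4 * p.1 ^ 2,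
      θu θ p.1 ^ 4 * θu θ p.2 ^ 8 * p.2 ^ 6 * p.1 ^ 3, θu θ p.1 ^ 2 * θu θ p.2 ^ 4 * p.2 ^ 3 * p.1 ^ 2] := by
  ext i : 1
  fin_cases i <;> simp [matPow_apply, Fin.prod_univ_four, vec, pinv, zpow_ofNat]

include h in
theorem sq_pow (t : K) (k : ℕ) : θ (θ t) ^ (2 * k) = t ^ k := by rw [pow_mul, h.sq]

theorem σ_tor (p : Kˣ × Kˣ) : A.σ (tor h p) = tor h p := by
  rw [tor_apply, A.map_torus, (h.τ_eq_iff _).2]
  have e2 := sq_pow h (p.1 : K) 2
  have e3 := sq_pow h (p.2 : K) 2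
  have e4 := sq_pow h (p.2 : K) 4
  have e1 := h.sq (p.1 : K)
  simp only [pinv_vec, Matrix.cons_val, Units.val_mul, Units.val_pow_eq_pow_val, coe_θu, map_mul, map_pow] at *
  rw [e1, e2, e3, e4]
  constructor <;> ring

theorem exists_tor {g : G} (hg : g ∈ S.H) (e : A.σ g = g) : ∃ p, tor h p = g := by
  obtain ⟨a, ha, rfl⟩ := h.exists_torus hg e
  obtain ⟨a0, a1⟩ := (h.τ_eq_iff a).1 ha
  refine ⟨(matPow Kˣ cF4 a 3, matPow Kˣ cF4 a 2), ?_⟩
  rw [tor_apply]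
  congr 1
  have : vec θ (matPow Kˣ cF4 a 3, matPow Kˣ cF4 a 2) = matPow Kˣ cF4 a := by
    have b1 : θ (a 1) ^ 2 = a 2 := by rw [← a1, h.sq]
    ext i
    fin_cases i <;> simp [vec, matPow_apply, Fin.prod_univ_four, cF4, zpow_ofNat, a0, a1, b1] <;> ring
  rw [this, ← matPow_mul, mul_eq_one_comm.1 pinv_mul, matPow_one]

/-- the first reflection -/
abbrev nn (S : StSys R K G) : G := wprod S.nS (wF4 1)
/-- the second reflection -/
abbrev mm (S : StSys R K G) : G := wprod S.nS (wF4 0)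

/-- products of the simple reflections -/
def Wd (S : StSys R K G) (g : G) : Prop := ∃ l, g = wprod S.nS l

theorem Wd.mul {a b : G} (ha : Wd S a) (hb : Wd S b) : Wd S (a * b) := by
  obtain ⟨l, rfl⟩ := ha
  obtain ⟨l', rfl⟩ := hb
  exact ⟨l ++ l', (wprod_append _ _ _).symm⟩

theorem Wd.pow {a : G} (ha : Wd S a) (k : ℕ) : Wd S (a ^ k) := by
  induction k with
  | zero => exact ⟨[], by simp⟩
  | succ k ih => rw [pow_succ]; exact ih.mul ha

variable [Finite Φ]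
include h

theorem Wd.eq_one {a : G} (ha : Wd S a) (h1 : a ∈ S.H) : a = 1 := by
  obtain ⟨l, rfl⟩ := ha
  simpa using h.adjoint.wprod_eq h.two (l' := []) (h.faithful.eq_of_NW (S.wprod_mem_NW l) (S.mem_NW_of_mem_H h1))

theorem Wd.eq_one_of_mem_B {a : G} (ha : Wd S a) (h1 : a ∈ S.B) : a = 1 := by
  refine ha.eq_one h ?_
  obtain ⟨l, rfl⟩ := ha
  rw [← h.faithful.B_inf_N]
  exact ⟨h1, NW_mem_N (S.wprod_mem_NW l)⟩

theorem w_sq (k : Fin 2) : wprod S.nS (wF4 k) * wprod S.nS (wF4 k) = 1 :=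
  Wd.eq_one h (Wd.mul ⟨_, rfl⟩ ⟨_, rfl⟩) (NW_one_iff.1 (R.w0J_mul_self (jF4 k) ▸ NW_mul (h.wprod_NW k) (h.wprod_NW k)))

theorem w_inv (k : Fin 2) : (wprod S.nS (wF4 k))⁻¹ = wprod S.nS (wF4 k) := inv_eq_of_mul_eq_one_right (w_sq h k)

theorem w_rel : (mm S * nn S) ^ 8 = 1 := by
  refine Wd.eq_one h ((Wd.mul ⟨_, rfl⟩ ⟨_, rfl⟩).pow 8) (NW_one_iff.1 ?_)
  have := pow_mem (NW_mul (h.wprod_NW 0) (h.wprod_NW 1)) 8
  rwa [Prod.pow_mk, show 8 = orderOf (R.w0J (jF4 0) * R.w0J (jF4 1)) from (orderOf_w0J_F4 h.cartan 0 1).symm,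
    pow_orderOf_eq_one, orderOf_w0J_F4 h.cartan 0 1] at this

theorem w_conj (k : Fin 2) {r s : Φ} (e : RS.actV cF4 (wF4 k) (R.root r) = R.root s) (t : K) :
    wprod S.nS (wF4 k) * S.x r t * wprod S.nS (wF4 k) = S.x s t := by
  have := conj_wprod_two (S := S) h.two (wF4 k) r t
  rwa [w_inv h, show wprod R.sperm (wF4 k) r = s from R.root_inj (by rw [RS.root_wprod h.cartan, e])] at this

theorem w_mul (k : Fin 2) (a b : G) : wprod S.nS (wF4 k) * (a * b) * wprod S.nS (wF4 k) =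
    wprod S.nS (wF4 k) * a * wprod S.nS (wF4 k) * (wprod S.nS (wF4 k) * b * wprod S.nS (wF4 k)) := by
  simp only [mul_assoc]
  rw [← mul_assoc (wprod S.nS (wF4 k)) (wprod S.nS (wF4 k)), w_sq h, one_mul]

end Abs

namespace UH

variable {S : StSys R K G} {A : S.GAut} {θ : K ≃+* K} {c d : Φ} {P : Par K} (M : UH S θ P)

theorem eq_ρ {r : Φ} {k : ℕ} {v : Fin 4 → ℤ} (e : R.root r = v) (hk : k < 48 ∧ rv k = v) : r = M.ρ k :=
  R.root_inj (by rw [e, M.root k hk.1, hk.2])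

theorem s0 : R.simple 0 = M.ρ 33 := M.eq_ρ (R.root_simple 0) (by decide +kernel)
theorem s1 : R.simple 1 = M.ρ 27 := M.eq_ρ (R.root_simple 1) (by decide +kernel)
theorem s2 : R.simple 2 = M.ρ 25 := M.eq_ρ (R.root_simple 2) (by decide +kernel)
theorem s3 : R.simple 3 = M.ρ 24 := M.eq_ρ (R.root_simple 3) (by decide +kernel)

theorem mem_U (a : UO P) : M.u a ∈ S.U := by
  have e : ∀ r, 24 ≤ r → r < 48 → ∀ t, S.x (M.ρ r) t ∈ S.U := fun r h1 h2 t => S.x_mem_U (fun i => by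
    rw [M.root r h2]
    exact (by decide +kernel : ∀ r < 48, 24 ≤ r → ∀ i, 0 ≤ rv r i) r h2 h1 i) t
  refine mem_of_gens ?_ ?_ ?_ ?_ ?_ ?_ ?_ ?_ ?_ ?_ ?_ ?_ a <;> intro t <;>
    simp only [M.e1, M.f2, M.e2, M.e3, M.f4, M.e4, M.e5, M.f6, M.e6, M.e7, M.f8, M.e8] <;>
    repeat first | exact e _ (by decide) (by decide) _ | refine mul_mem ?_ ?_

variable (h : A.IsF4 θ c d)
include h

theorem sc : c = M.ρ 28 := M.eq_ρ h.root_c (by decide +kernel)
theorem sd : d = M.ρ 30 := M.eq_ρ h.root_d (by decide +kernel)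

theorem tor_ρ (p : Kˣ × Kˣ) (r k l m n : ℕ) (hr : r < 48 ∧ rv r = ![(k : ℤ), l, m, n]) (t : K) :
    MulAut.conj (tor h p) (S.x (M.ρ r) t) = S.x (M.ρ r) (θ p.1 ^ k * θ p.2 ^ l * p.2 ^ m * p.1 ^ n * t) :=
  tor_conj h p ((M.root r hr.1).trans hr.2) t

theorem h_conj (p : Kˣ × Kˣ) (a : UO P) : tor h p * M.u a * (tor h p)⁻¹ = M.u (dg P p a) := by
  have d1 : ∀ t, dg P p (x1 t) = x1 (c1 p * t) := fun t => by ext <;> simp
  have d2' : ∀ t, dg P p (y2 t) = y2 (d2 p * t) := fun t => by ext <;> simp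
  have d3 : ∀ t, dg P p (x2 t) = x2 (c2 P p * t) := fun t => by ext <;> simp
  have d4' : ∀ t, dg P p (x3 t) = x3 (c3 P p * t) := fun t => by ext <;> simp
  have d5 : ∀ t, dg P p (y4 t) = y4 (d4 P p * t) := fun t => by ext <;> simp
  have d6' : ∀ t, dg P p (x4 t) = x4 (c4 P p * t) := fun t => by ext <;> simp
  have d7 : ∀ t, dg P p (x5 t) = x5 (c5 P p * t) := fun t => by ext <;> simp
  have d8' : ∀ t, dg P p (y6 t) = y6 (d6 P p * t) := fun t => by ext <;> simp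
  have d9 : ∀ t, dg P p (x6 t) = x6 (c6 P p * t) := fun t => by ext <;> simp
  have d10 : ∀ t, dg P p (x7 t) = x7 (c7 P p * t) := fun t => by ext <;> simp
  have d11 : ∀ t, dg P p (y8 t) = y8 (d8 p * t) := fun t => by ext <;> simp
  have d12 : ∀ t, dg P p (x8 t) = x8 (c8 P p * t) := fun t => by ext <;> simp
  refine hom_ext (φ := (MulAut.conj (tor h p)).toMonoidHom.comp M.u) (ψ := M.u.comp (dg P p).toMonoidHom)
    ?_ ?_ ?_ ?_ ?_ ?_ ?_ ?_ ?_ ?_ ?_ ?_ a <;> intro t <;>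
    simp only [MonoidHom.comp_apply, MulEquiv.coe_toMonoidHom, d1, d2', d3, d4', d5, d6', d7, d8', d9, d10, d11, d12,
      M.e1, M.f2, M.e2, M.e3, M.f4, M.e4, M.e5, M.f6, M.e6, M.e7, M.f8, M.e8, map_mul (MulAut.conj _),
      M.tor_ρ h p 33 1 0 0 0 (by decide +kernel), M.tor_ρ h p 24 0 0 0 1 (by decide +kernel),
      M.tor_ρ h p 34 1 1 0 0 (by decide +kernel), M.tor_ρ h p 26 0 0 1 1 (by decide +kernel),
      M.tor_ρ h p 36 1 1 1 1 (by decide +kernel), M.tor_ρ h p 42 2 2 1 1 (by decide +kernel),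
      M.tor_ρ h p 38 1 2 1 1 (by decide +kernel), M.tor_ρ h p 43 2 2 2 1 (by decide +kernel),
      M.tor_ρ h p 29 0 1 1 1 (by decide +kernel), M.tor_ρ h p 41 2 2 1 0 (by decide +kernel),
      M.tor_ρ h p 44 2 3 2 1 (by decide +kernel), M.tor_ρ h p 47 2 4 3 2 (by decide +kernel),
      M.tor_ρ h p 39 1 2 2 1 (by decide +kernel), M.tor_ρ h p 45 2 4 2 1 (by decide +kernel),
      M.tor_ρ h p 35 1 1 1 0 (by decide +kernel), M.tor_ρ h p 31 0 2 1 1 (by decide +kernel),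
      M.tor_ρ h p 40 1 3 2 1 (by decide +kernel), M.tor_ρ h p 46 2 4 3 1 (by decide +kernel),
      M.tor_ρ h p 37 1 2 1 0 (by decide +kernel), M.tor_ρ h p 32 0 2 2 1 (by decide +kernel),
      M.tor_ρ h p 27 0 1 0 0 (by decide +kernel), M.tor_ρ h p 25 0 0 1 0 (by decide +kernel),
      M.tor_ρ h p 28 0 1 1 0 (by decide +kernel), M.tor_ρ h p 30 0 2 1 0 (by decide +kernel)] <;>
    simp only [c1, d2, c2, c3, d4, c4, c5, d6, c6, c7, d8, c8, M.σ_eq, map_mul, map_pow, h.sq] <;>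
    ring_nf

variable [Finite Φ]

theorem w_ρ (k : Fin 2) (r s : ℕ) (e : r < 48 ∧ s < 48 ∧ RS.actV cF4 (wF4 k) (rv r) = rv s) (t : K) :
    wprod S.nS (wF4 k) * S.x (M.ρ r) t * wprod S.nS (wF4 k) = S.x (M.ρ s) t :=
  w_conj h k (by rw [M.root r e.1, M.root s e.2.1, e.2.2]) t

theorem n_gen (t : K) : nn S * M.u (x1 t) * nn S = M.u (x7 t) ∧ nn S * M.u (y2 t) * nn S = M.u (y6 t) ∧
    nn S * M.u (x2 t) * nn S = M.u (x6 t) ∧ nn S * M.u (x3 t) * nn S = M.u (x5 t) ∧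
    nn S * M.u (y4 t) * nn S = M.u (y4 t) ∧ nn S * M.u (x4 t) * nn S = M.u (x4 t) ∧
    nn S * M.u (x5 t) * nn S = M.u (x3 t) ∧ nn S * M.u (y6 t) * nn S = M.u (y2 t) ∧
    nn S * M.u (x6 t) * nn S = M.u (x2 t) ∧ nn S * M.u (x7 t) * nn S = M.u (x1 t) := by
  simp only [M.e1, M.f2, M.e2, M.e3, M.f4, M.e4, M.e5, M.f6, M.e6, M.e7, w_mul h,
    M.w_ρ h 1 33 37 (by decide +kernel), M.w_ρ h 1 24 32 (by decide +kernel),
    M.w_ρ h 1 34 35 (by decide +kernel), M.w_ρ h 1 26 31 (by decide +kernel),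
    M.w_ρ h 1 36 40 (by decide +kernel), M.w_ρ h 1 42 46 (by decide +kernel),
    M.w_ρ h 1 38 39 (by decide +kernel), M.w_ρ h 1 43 45 (by decide +kernel),
    M.w_ρ h 1 29 29 (by decide +kernel), M.w_ρ h 1 41 41 (by decide +kernel),
    M.w_ρ h 1 44 44 (by decide +kernel), M.w_ρ h 1 47 47 (by decide +kernel),
    M.w_ρ h 1 37 33 (by decide +kernel), M.w_ρ h 1 32 24 (by decide +kernel),
    M.w_ρ h 1 35 34 (by decide +kernel), M.w_ρ h 1 31 26 (by decide +kernel),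
    M.w_ρ h 1 40 36 (by decide +kernel), M.w_ρ h 1 46 42 (by decide +kernel),
    M.w_ρ h 1 39 38 (by decide +kernel), M.w_ρ h 1 45 43 (by decide +kernel), and_self]

theorem m_gen (t : K) : mm S * M.u (y2 t) * mm S = M.u (y8 t) ∧
    mm S * M.u (x2 t) * mm S = M.u (x8 t) ∧ mm S * M.u (x3 t) * mm S = M.u (x7 t) ∧
    mm S * M.u (y4 t) * mm S = M.u (y6 t) ∧ mm S * M.u (x4 t) * mm S = M.u (x6 t) ∧
    mm S * M.u (x5 t) * mm S = M.u (x5 t) ∧ mm S * M.u (y6 t) * mm S = M.u (y4 t) ∧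
    mm S * M.u (x6 t) * mm S = M.u (x4 t) ∧ mm S * M.u (x7 t) * mm S = M.u (x3 t) ∧
    mm S * M.u (y8 t) * mm S = M.u (y2 t) ∧ mm S * M.u (x8 t) * mm S = M.u (x2 t) := by
  simp only [M.f2, M.e2, M.e3, M.f4, M.e4, M.e5, M.f6, M.e6, M.e7, M.f8, M.e8, w_mul h,
    M.w_ρ h 0 34 27 (by decide +kernel), M.w_ρ h 0 26 25 (by decide +kernel),
    M.w_ρ h 0 36 28 (by decide +kernel), M.w_ρ h 0 42 30 (by decide +kernel),
    M.w_ρ h 0 38 37 (by decide +kernel), M.w_ρ h 0 43 32 (by decide +kernel),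
    M.w_ρ h 0 29 35 (by decide +kernel), M.w_ρ h 0 41 31 (by decide +kernel),
    M.w_ρ h 0 44 40 (by decide +kernel), M.w_ρ h 0 47 46 (by decide +kernel),
    M.w_ρ h 0 39 39 (by decide +kernel), M.w_ρ h 0 45 45 (by decide +kernel),
    M.w_ρ h 0 27 34 (by decide +kernel), M.w_ρ h 0 25 26 (by decide +kernel),
    M.w_ρ h 0 28 36 (by decide +kernel), M.w_ρ h 0 30 42 (by decide +kernel),
    M.w_ρ h 0 37 38 (by decide +kernel), M.w_ρ h 0 32 43 (by decide +kernel),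
    M.w_ρ h 0 35 29 (by decide +kernel), M.w_ρ h 0 31 41 (by decide +kernel),
    M.w_ρ h 0 40 44 (by decide +kernel), M.w_ρ h 0 46 47 (by decide +kernel), and_self]

theorem n_conj (a : UO P) (ha : a ∈ Qs P) : nn S * M.u a * nn S = M.u (rn a) := by
  have e : a = x1 a.a1 * y2 a.b2 * x2 a.a2 * x3 a.a3 * y4 a.b4 * x4 a.a4 * x5 a.a5 * y6 a.b6 * x6 a.a6 * x7 a.a7 := by
    obtain ⟨h1, h2⟩ := ha
    ext <;> simp [h1, h2]
  rw [rn_eq]
  conv_lhs => rw [e]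
  simp only [map_mul, w_mul h, M.n_gen h]

theorem m_conj (a : UO P) (ha : a ∈ Qp P) : mm S * M.u a * mm S = M.u (rp a) := by
  have e : a = y2 a.b2 * x2 a.a2 * x3 a.a3 * y4 a.b4 * x4 a.a4 * x5 a.a5 * y6 a.b6 * x6 a.a6 * x7 a.a7 * y8 a.b8 *
      x8 a.a8 := by
    have h1 : a.a1 = 0 := ha
    ext <;> simp [h1]
  rw [rp_eq]
  conv_lhs => rw [e]
  simp only [map_mul, w_mul h, M.m_gen h]

omit [Finite Φ] in
theorem u_x1 (t : K) : M.u (x1 t) = h.psi (lo 0 t) := by rw [h.psi_lo, xJ, M.e1, M.s0, M.s3]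

omit [Finite Φ] in
theorem u_suz (t v : K) : M.u (y8 t * x8 (θ v ^ 2)) = suzW θ (S.x (R.simple 1)) (S.x (R.simple 2)) (S.x c) (S.x d) t v := by
  rw [map_mul, M.f8, M.e8, suzW, h.sq', M.s1, M.s2, M.sc h, M.sd h, S.x_add, mul_comm t]
  simp only [mul_assoc]

omit [Finite Φ] in
theorem mem_XP_iff {g : G} : (g ∈ S.XP (jF4 1) ∧ A.σ g = g) ↔ ∃ a ∈ U8 P, M.u a = g := by
  refine h.fix_suz_iff.trans ⟨?_, ?_⟩
  · rintro ⟨t, v, rfl⟩
    exact ⟨_, by simp, M.u_suz h t v⟩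
  · rintro ⟨a, ⟨h1, h2, h3, h4, h5, h6, h7, h8, h9, h10⟩, rfl⟩
    refine ⟨a.b8, θ a.a8, ?_⟩
    rw [← M.u_suz h, h.sq]
    congr 1
    ext <;> simp [h1, h2, h3, h4, h5, h6, h7, h8, h9, h10]

theorem σ_u (a : UO P) : A.σ (M.u a) = M.u a := by
  have e : ∀ (k : Fin 2) {b b' : UO P}, wprod S.nS (wF4 k) * M.u b * wprod S.nS (wF4 k) = M.u b' →
      A.σ (M.u b) = M.u b → A.σ (M.u b') = M.u b' := fun k b b' h1 h2 => by
    rw [← h1, map_mul, map_mul, h.σ_wprod, h2]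
  have a1 : ∀ t, A.σ (M.u (x1 t)) = M.u (x1 t) := fun t => by rw [M.u_x1 h, h.σ_psi]
  have b8 : ∀ t, A.σ (M.u (y8 t)) = M.u (y8 t) := fun t => ((M.mem_XP_iff h).2 ⟨_, by simp, rfl⟩).2
  have a8 : ∀ t, A.σ (M.u (x8 t)) = M.u (x8 t) := fun t => ((M.mem_XP_iff h).2 ⟨_, by simp, rfl⟩).2
  have a7 := fun t => e 1 (M.n_gen h t).1 (a1 t)
  have b2 := fun t => e 0 (M.m_gen h t).2.2.2.2.2.2.2.2.2.1 (b8 t)
  have a2 := fun t => e 0 (M.m_gen h t).2.2.2.2.2.2.2.2.2.2 (a8 t)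
  have a3 := fun t => e 0 (M.m_gen h t).2.2.2.2.2.2.2.2.1 (a7 t)
  have b6 := fun t => e 1 (M.n_gen h t).2.1 (b2 t)
  have a6 := fun t => e 1 (M.n_gen h t).2.2.1 (a2 t)
  have a5 := fun t => e 1 (M.n_gen h t).2.2.2.1 (a3 t)
  have b4 := fun t => e 0 (M.m_gen h t).2.2.2.2.2.2.1 (b6 t)
  have a4 := fun t => e 0 (M.m_gen h t).2.2.2.2.2.2.2.1 (a6 t)
  exact hom_ext (φ := A.σ.toMonoidHom.comp M.u) a1 b2 a2 a3 b4 a4 a5 b6 a6 a7 b8 a8 a

theorem exists_w_tor (k : Fin 2) (p : Kˣ × Kˣ) : ∃ q, wprod S.nS (wF4 k) * tor h p * wprod S.nS (wF4 k) = tor h q ∧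
    ∀ a b b', wprod S.nS (wF4 k) * M.u a * wprod S.nS (wF4 k) = M.u b →
      wprod S.nS (wF4 k) * M.u (dg P p b) * wprod S.nS (wF4 k) = M.u b' → dg P q a = b' := by
  obtain ⟨q, hq⟩ := exists_tor h (g := wprod S.nS (wF4 k) * tor h p * wprod S.nS (wF4 k))
    (by simpa [w_inv h] using (S.induces_wprod (wF4 k)).conj_mem_H (tor_mem_H h p))
    (by rw [map_mul, map_mul, h.σ_wprod, σ_tor])
  refine ⟨q, hq.symm, fun a b b' h1 h2 => M.inj ?_⟩
  rw [← M.h_conj h, ← h2, ← M.h_conj h, ← h1, hq, mul_inv_rev, mul_inv_rev, w_inv h]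
  simp only [mul_assoc]

include M in
theorem n_h (p : Kˣ × Kˣ) : nn S * tor h p * nn S = tor h (sn P p) := by
  obtain ⟨q, hq, e⟩ := M.exists_w_tor h 1 p
  have h1 := congrArg UO.a1 (e (x1 1) (x7 1) (x1 (c7 P p)) (M.n_gen h 1).1 (by
    rw [← (M.n_gen h _).2.2.2.2.2.2.2.2.2]; congr 3; ext <;> simp))
  have h2 := congrArg UO.b2 (e (y2 1) (y6 1) (y2 (d6 P p)) (M.n_gen h 1).2.1 (by
    rw [← (M.n_gen h _).2.2.2.2.2.2.2.1]; congr 3; ext <;> simp))
  simp only [dg_a1, dg_b2, x1_a1, y2_b2, c1, c7, d2, d6, mul_one] at h1 h2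
  rw [hq]
  congr 1
  have h3 : (p.1 : K) * p.2 * P.σ p.2 ≠ 0 := by simp
  refine Prod.ext (Units.ext (by simp [sn, h1])) (eq_inv_of_mul_eq_one_left (Units.ext (mul_left_cancel₀ h3 ?_)))
  rw [h1] at h2
  simp only [Units.val_mul, Units.val_one]
  linear_combination h2

include M in
theorem m_h (p : Kˣ × Kˣ) : mm S * tor h p * mm S = tor h (sp p) := by
  obtain ⟨q, hq, e⟩ := M.exists_w_tor h 0 p
  have h1 := congrArg UO.b8 (e (y8 1) (y2 1) (y8 (d2 p)) (M.m_gen h 1).2.2.2.2.2.2.2.2.2.1 (by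
    rw [← (M.m_gen h _).1]; congr 3; ext <;> simp))
  have h2 := congrArg UO.b2 (e (y2 1) (y8 1) (y2 (d8 p)) (M.m_gen h 1).1 (by
    rw [← (M.m_gen h _).2.2.2.2.2.2.2.2.2.1]; congr 3; ext <;> simp))
  simp only [dg_b8, dg_b2, y8_b8, y2_b2, d8, d2, mul_one] at h1 h2
  rw [hq]
  congr 1
  refine Prod.ext (eq_inv_of_mul_eq_one_left (Units.ext (mul_left_cancel₀ p.2.ne_zero ?_))) (Units.ext (by simp [sp, h1]))
  rw [h1] at h2
  simp only [Units.val_mul, Units.val_one]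
  linear_combination h2

omit h [Finite Φ] in
theorem sn_eq {p : Kˣ × Kˣ} (hp : p ∈ Dp P) : sn P p = p⁻¹ := by
  have h1 : c4 P p = 1 := hp
  have h2 := congrArg P.σ h1
  simp only [c4, map_mul, map_pow, P.sq, map_one] at h1 h2
  refine Prod.ext (eq_inv_of_mul_eq_one_left (Units.ext ?_)) rfl
  simp only [sn, Units.val_mul, Units.val_pow_eq_pow_val, coe_σu, Units.val_one]
  linear_combination (-(p.1 * p.2 ^ 2 * P.σ p.2 * p.1 : K)) * h2 +
    ((p.1 ^ 2 * P.σ p.1 * p.2 ^ 3 * P.σ p.2 ^ 2 : K) + 1) * h1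

theorem rank1 (t : Kˣ) : mm S * M.u (x1 (t : K)) * mm S =
    M.u (x1 (t⁻¹ : Kˣ)) * tor h (t⁻¹ ^ 2, t) * mm S * M.u (x1 (t⁻¹ : Kˣ)) := by
  have e : tor h (t⁻¹ ^ 2, t) = h.psi (dia t t⁻¹) := by
    rw [h.psi_dia, tor_apply, pinv_vec]
    congr 1
    ext i
    fin_cases i <;> simp <;> field_simp
  rw [e, M.u_x1 h, M.u_x1 h, mm, ← h.psi_w, ← map_mul, ← map_mul, ← map_mul, ← map_mul, ← map_mul]
  congr 1
  refine Units.ext ?_
  have h2 := h.two
  simp only [Units.val_mul, lo_val2, up_val2, dia_val]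
  ext i j
  fin_cases i <;> fin_cases j <;> simp
  linear_combination (t : K) * h2

theorem rank2 (a : UO P) (ha : a ∈ U8 P) (h1 : a ≠ 1) : ∃ b ∈ U8 P, ∃ b' ∈ U8 P, ∃ p : Dp P,
    nn S * M.u a * nn S = M.u b * tor h p * nn S * M.u b' := by
  have hS := h.faithful
  obtain ⟨k1, k2⟩ := (M.mem_XP_iff h).2 ⟨a, ha, rfl⟩
  have hM : nn S * M.u a * nn S ∈ S.XM (jF4 1) := by
    simpa [w_inv h] using (conj_mem_XM_iff (NW_induces (h.wprod_NW 1))).2 k1
  have hl := S.XM_le_LJ _ hM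
  have e : A.σ (nn S * M.u a * nn S) = nn S * M.u a * nn S := by rw [map_mul, map_mul, h.σ_wprod, k2]
  obtain ⟨n, w, hn, u, hu, u', hu', e0⟩ := exists_bruhat (S.P_le_grp _ (S.LJ_le_P _ hl))
  rw [e0] at e hl
  obtain ⟨e1, e2, e3⟩ := A.fixed_bruhat hS hn hu hu' e
  have hc := (mem_cell_iff hn).2 ⟨u, S.U_le_B hu, u', S.U_le_B (S.XS_mono (fun _ h => h.1) hu'), rfl⟩
  have hw := (hS.mem_P_iff_of_mem_cell hc).1 (S.LJ_le_P _ hl)
  have h2 : u' ∈ S.XP (jF4 1) := S.XS_mono (fun _ hr => And.intro hr.1 (R.inv_subset_PhiJ hw hr)) hu'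
  have h3 := hS.mem_XP_of_mem_LJ hu (J := jF4 1) ((Subgroup.mul_mem_cancel_right _ (mem_LJ_of_NW hn hw)).1
    ((Subgroup.mul_mem_cancel_right _ (S.XP_le_LJ _ h2)).1 hl))
  obtain ⟨b, hb, rfl⟩ := (M.mem_XP_iff h).1 ⟨h3, e1⟩
  obtain ⟨b', hb', rfl⟩ := (M.mem_XP_iff h).1 ⟨h2, e3⟩
  have h4 : w ≠ 1 := fun h4 => by
    rw [h4, mem_cell_one, ← e0] at hc
    have := hS.eq_one_of_mem_B_V hc (S.XM_le_V _ hM)
    rw [mul_eq_one_iff_eq_inv, w_inv h, mul_eq_left, ← map_one M.u] at this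
    exact h1 (M.inj this)
  obtain ⟨p, hp⟩ := exists_tor h (NW_mul_inv_mem_H ((A.isSym hS).eq_w0J (h.π_eq ▸ orbit_jF4 1) hw h4
    (A.commute_of_fixed hS hn e2) ▸ hn) (h.wprod_NW 1)) (by rw [map_mul, map_inv, e2, h.σ_wprod])
  rw [← eq_mul_inv_iff_mul_eq.1 hp, ← mul_assoc] at e0
  refine ⟨b, hb, b', hb', ⟨p, ?_⟩, e0⟩
  have c1 : ∀ x ∈ U8 P, Commute (M.u x) (M.u (x4 1)) := fun x ⟨h1, h2, h3, h4, h5, h6, h7, h8, h9, h10⟩ =>
    Commute.map (by change _ = _; ext <;> simp [h1, h2, h3, h4, h5, h6, h7, h8, h9, h10, add_comm]) _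
  have c2 : Commute (nn S) (M.u (x4 1)) := by
    have := (M.n_gen h 1).2.2.2.2.2.1
    rwa [← eq_mul_inv_iff_mul_eq, w_inv h] at this
  have c3 : Commute (tor h p) (M.u (x4 1)) := by
    rw [show tor h p = (M.u b)⁻¹ * (nn S * M.u a * nn S) * (M.u b')⁻¹ * (nn S)⁻¹ by rw [e0]; group]
    exact ((((c1 b hb).inv_left.mul_left ((c2.mul_left (c1 a ha)).mul_left c2))).mul_left
      (c1 b' hb').inv_left).mul_left c2.inv_left
  have c4' := M.h_conj h p (x4 1)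
  rw [c3.eq, mul_inv_cancel_right] at c4'
  simpa [mem_Dp] using (congrArg UO.a4 (M.inj c4')).symm

/-- the data of the rank one relation -/
noncomputable def rk : Rk P := by
  classical
  exact
  { β := fun a => if ha : a ∈ U8 P ∧ a ≠ 1 then (M.rank2 h a ha.1 ha.2).choose else 1
    γ := fun a => if ha : a ∈ U8 P ∧ a ≠ 1 then (M.rank2 h a ha.1 ha.2).choose_spec.2.choose else 1
    π := fun a => if ha : a ∈ U8 P ∧ a ≠ 1 then (M.rank2 h a ha.1 ha.2).choose_spec.2.choose_spec.2.choose else 1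
    β_mem := fun a => by
      split_ifs with ha
      exacts [(M.rank2 h a ha.1 ha.2).choose_spec.1, one_mem _]
    γ_mem := fun a => by
      split_ifs with ha
      exacts [(M.rank2 h a ha.1 ha.2).choose_spec.2.choose_spec.1, one_mem _] }

theorem le_B : M.u.range ⊔ (tor h).range ≤ S.B :=
  sup_le (by rintro _ ⟨a, rfl⟩; exact S.U_le_B (M.mem_U a)) (by rintro _ ⟨a, rfl⟩; exact S.H_le_B (tor_mem_H h a))

/-- the model in the ambient group -/
noncomputable def bm : BM (M.rk h) G where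
  u := M.u
  u_inj := M.inj
  d := (tor h).comp (Dp P).subtype
  d_conj p a := M.h_conj h p a
  n := nn S
  n_sq := w_sq h 1
  n_conj := M.n_conj h
  n_d p := by
    change nn S * tor h p * nn S = (tor h p)⁻¹
    rw [M.n_h h, sn_eq p.2, map_inv]
  rank2 a ha h1 := by
    simp only [rk, dif_pos (And.intro ha h1)]
    exact (M.rank2 h a ha h1).choose_spec.2.choose_spec.2.choose_spec
  n_not hn := by
    have h1 := Wd.eq_one_of_mem_B h ⟨_, rfl⟩ (M.le_B h ((sup_le_sup_left (by rintro _ ⟨a, rfl⟩; exact ⟨a, rfl⟩) _ :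
      M.u.range ⊔ ((tor h).comp (Dp P).subtype).range ≤ M.u.range ⊔ (tor h).range) hn))
    have h2 := (M.n_gen h 1).1
    rw [nn, h1, one_mul, mul_one] at h2
    simpa using congrArg UO.a1 (M.inj h2)
  T := ⟨tor h, M.h_conj h, fun _ => rfl, M.n_h h⟩
  m := mm S
  m_sq := w_sq h 0
  m_conj := M.m_conj h
  m_h := M.m_h h
  rank1 := M.rank1 h

theorem w_not (w : G) (hw : w ∈ Subgroup.closure {(M.bm h).n, (M.bm h).m}) (hB : w ∈ (M.bm h).B) : w = 1 := by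
  refine Wd.eq_one_of_mem_B h ?_ (M.le_B h hB)
  clear hB
  induction hw using Subgroup.closure_induction'' with
  | one => exact ⟨[], by simp⟩
  | mem x hx => rcases hx with rfl | rfl <;> exact ⟨_, rfl⟩
  | inv_mem x hx => rcases hx with rfl | rfl <;> exact ⟨_, w_inv h _⟩
  | mul x y _ _ hx hy => exact hx.mul hy

theorem σ_of_mem {g : G} (hg : g ∈ (M.bm h).grp) : A.σ g = g := by
  refine (sup_le (sup_le ?_ ?_) ?_ : (M.bm h).grp ≤ A.σ.toMonoidHom.eqLocus (MonoidHom.id G)) hg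
  · rintro _ ⟨a, rfl⟩; exact M.σ_u h a
  · rintro _ ⟨a, rfl⟩; exact σ_tor h a
  · rw [Subgroup.closure_le]
    rintro _ (rfl | rfl)
    exacts [h.σ_wprod 1, h.σ_wprod 0]

theorem gens_le : Subgroup.closure (f4Gens θ (fun i => S.x (R.simple i)) (fun i => S.x (R.neg (R.simple i))) (S.x c)
    (S.x d) (S.x (R.neg c)) (S.x (R.neg d))) ≤ (M.bm h).grp := by
  have hu : ∀ a, M.u a ∈ (M.bm h).grp := fun a => Subgroup.mem_sup_left (Subgroup.mem_sup_left ⟨a, rfl⟩)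
  have hn : nn S ∈ (M.bm h).grp := Subgroup.mem_sup_right (Subgroup.subset_closure (.inl rfl))
  have hm : mm S ∈ (M.bm h).grp := Subgroup.mem_sup_right (Subgroup.subset_closure (.inr rfl))
  have e : ∀ (k : Fin 2) {r : Φ} {v : Fin 4 → ℤ}, R.root r = v → RS.actV cF4 (wF4 k) v = -v → ∀ t,
      S.x (R.neg r) t = wprod S.nS (wF4 k) * S.x r t * wprod S.nS (wF4 k) := fun k r v h1 h2 t =>
    (w_conj h k (by rw [R.root_neg, h1, h2]) t).symm
  rw [Subgroup.closure_le]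
  rintro g (⟨t, rfl | rfl⟩ | ⟨t, v, rfl | rfl⟩)
  · simpa only [M.e1, ← M.s0, ← M.s3, SetLike.mem_coe] using hu (x1 t)
  · simp only [e 0 (R.root_simple 0) (by decide +kernel), e 0 (R.root_simple 3) (by decide +kernel), ← w_mul h]
    exact mul_mem (mul_mem hm (by simpa only [M.e1, ← M.s0, ← M.s3] using hu (x1 t))) hm
  · exact M.u_suz h t v ▸ hu _
  · simp only [suzW, e 1 (R.root_simple 1) (by decide +kernel), e 1 (R.root_simple 2) (by decide +kernel),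
      e 1 h.root_c (by decide +kernel), e 1 h.root_d (by decide +kernel), ← w_mul h]
    exact mul_mem (mul_mem hn (M.u_suz h t v ▸ hu _ :)) hn

end UH

/-! ### transport to a subgroup -/

section Lift

variable {P : Par K} {Q : Rk P} (b : BM Q G) {X : Type*} [Group X] (ι : X →* G) (hι : Function.Injective ι)
  (hr : ι.range = b.grp)

/-- the inverse of `ι` on its range -/
noncomputable def back : b.grp →* X :=
  (MonoidHom.ofInjective hι).symm.toMonoidHom.comp (MulEquiv.subgroupCongr hr.symm).toMonoidHom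

theorem ι_back (g : b.grp) : ι (back b ι hι hr g) = g := by
  simp [back, MonoidHom.apply_ofInjective_symm]

theorem _root_.CL.Oct.BM.md_u_mem (a : UO P) : b.u a ∈ b.grp := Subgroup.mem_sup_left (Subgroup.mem_sup_left ⟨a, rfl⟩)
theorem _root_.CL.Oct.BM.md_h_mem (p : Kˣ × Kˣ) : b.T.h p ∈ b.grp := Subgroup.mem_sup_left (Subgroup.mem_sup_right ⟨p, rfl⟩)
theorem _root_.CL.Oct.BM.md_d_mem (p : Dp P) : b.d p ∈ b.grp := b.T.h_d p ▸ b.md_h_mem p
theorem _root_.CL.Oct.BM.md_n_mem : b.n ∈ b.grp := Subgroup.mem_sup_right (Subgroup.subset_closure (.inl rfl))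
theorem _root_.CL.Oct.BM.md_m_mem : b.m ∈ b.grp := Subgroup.mem_sup_right (Subgroup.subset_closure (.inr rfl))

/-- the model inside the subgroup -/
noncomputable def _root_.CL.Oct.BM.md_lift : BM Q X where
  u := (back b ι hι hr).comp (b.u.codRestrict _ b.md_u_mem)
  u_inj x y e := b.u_inj (by simpa [ι_back] using congrArg ι e)
  d := (back b ι hι hr).comp (b.d.codRestrict _ b.md_d_mem)
  d_conj p a := hι (by simpa [ι_back] using b.d_conj p a)
  n := back b ι hι hr ⟨b.n, b.md_n_mem⟩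
  n_sq := hι (by simpa [ι_back] using b.n_sq)
  n_conj a ha := hι (by simpa [ι_back] using b.n_conj a ha)
  n_d p := hι (by simpa [ι_back] using b.n_d p)
  rank2 a ha h1 := hι (by simpa [ι_back] using b.rank2 a ha h1)
  n_not hn := b.n_not (by
    have := Subgroup.mem_map_of_mem ι hn
    rw [ι_back, Subgroup.map_sup] at this
    refine (sup_le_sup ?_ ?_ : _ ≤ b.u.range ⊔ b.d.range) this <;> rintro _ ⟨_, ⟨a, rfl⟩, rfl⟩ <;> exact ⟨a, by simp [ι_back]⟩)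
  T := ⟨(back b ι hι hr).comp (b.T.h.codRestrict _ b.md_h_mem), fun p a => hι (by simpa [ι_back] using b.T.h_conj p a),
    fun p => hι (by simpa [ι_back] using b.T.h_d p), fun p => hι (by simpa [ι_back] using b.T.n_h p)⟩
  m := back b ι hι hr ⟨b.m, b.md_m_mem⟩
  m_sq := hι (by simpa [ι_back] using b.m_sq)
  m_conj a ha := hι (by simpa [ι_back] using b.m_conj a ha)
  m_h p := hι (by simpa [ι_back] using b.m_h p)
  rank1 t := hι (by simpa [ι_back] using b.rank1 t)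

theorem _root_.CL.Oct.BM.md_map_B : (b.md_lift ι hι hr).B.map ι = b.B := by
  rw [Subgroup.map_sup, ← MonoidHom.range_comp, ← MonoidHom.range_comp]
  congr 2 <;> ext a <;> simp [BM.md_lift, ι_back]

theorem _root_.CL.Oct.BM.md_map_W : (Subgroup.closure {(b.md_lift ι hι hr).n, (b.md_lift ι hι hr).m}).map ι = Subgroup.closure {b.n, b.m} := by
  rw [MonoidHom.map_closure, Set.image_pair]
  simp [BM.md_lift, ι_back]

/-- the large Ree group from a model in an overgroup -/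
noncomputable def _root_.CL.Oct.BM.md_toRM (rel : b.Rel) (w_not : ∀ w ∈ Subgroup.closure {b.n, b.m}, w ∈ b.B → w = 1)
    (syl : ∃ k, Odd k ∧ Nat.card X = Nat.card (UO P) * k) (hU : Nat.card (UO P) ≠ 0)
    (simple : 2 < Nat.card K → IsSimpleGroup X ∧ ∀ k : ℕ, ¬ Nonempty (X ≃* alternatingGroup (Fin k))) : RM Q X where
  toBM := b.md_lift ι hι hr
  rel := hι (by simpa [BM.md_lift, ι_back, BM.Rel] using rel)
  gen := Subgroup.map_injective hι (by
    rw [BM.grp, Subgroup.map_sup, BM.md_map_B, BM.md_map_W, ← MonoidHom.range_eq_map, hr, BM.grp])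
  w_not w hw hB := hι ((w_not _ (b.md_map_W ι hι hr ▸ Subgroup.mem_map_of_mem ι hw)
    (b.md_map_B ι hι hr ▸ Subgroup.mem_map_of_mem ι hB)).trans (map_one ι).symm)
  syl := by
    obtain ⟨k, hk, e⟩ := syl
    have h1 := (b.md_lift ι hι hr).u.range.card_mul_index
    rw [← Nat.card_congr (MonoidHom.ofInjective (b.md_lift ι hι hr).u_inj).toEquiv, e] at h1
    rw [mul_left_cancel₀ hU h1]
    exact hk.not_two_dvd_nat
  simple := simple

end Lift

theorem card_UO (P : Par K) : Nat.card (UO P) = Nat.card K ^ 12 := by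
  have e : UO P ≃ (Fin 12 → K) :=
    ⟨fun x => ![x.a1, x.b2, x.a2, x.a3, x.b4, x.a4, x.a5, x.b6, x.a6, x.a7, x.b8, x.a8],
      fun f => ⟨f 0, f 1, f 2, f 3, f 4, f 5, f 6, f 7, f 8, f 9, f 10, f 11⟩, fun x => rfl,
      fun f => funext fun i => by fin_cases i <;> rfl⟩
  rw [Nat.card_congr e, Nat.card_fun, Nat.card_fin]

/-! ### the concrete model -/

section Concrete

variable (θ : K ≃+* K) (hsq : ∀ t, θ (θ t) ^ 2 = t)

/-- the parameter attached to `θ` -/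
def par : Par K where
  σ := (frobenius K 2).comp θ.toRingHom
  sq t := by simp [frobenius_def, hsq]

theorem par_σ (t : K) : (par θ hsq).σ t = θ t ^ 2 := rfl

/-- `θ` on coordinates -/
def tw : UO (par θ hsq) →* UO (par θ hsq) :=
  MonoidHom.mk' (fun x => ⟨θ x.a1, θ x.b2, θ x.a2, θ x.a3, θ x.b4, θ x.a4, θ x.a5, θ x.b6, θ x.a6, θ x.a7, θ x.b8, θ x.a8⟩)
    fun x y => by
      ext <;> simp only [mul_a1, mul_b2, mul_a2, mul_a3, mul_b4, mul_a4, mul_a5, mul_b6, mul_a6, mul_a7, mul_b8, mul_a8,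
        map_add, map_mul, map_pow, par_σ]

theorem tw_injective : Function.Injective (tw θ hsq) := fun x y e => by
  simp only [tw, MonoidHom.mk'_apply, UO.mk.injEq, θ.injective.eq_iff] at e
  ext <;> simp only [e]

theorem tw_gn (g : ℕ) (hg : g < 12) (t : K) : tw θ hsq (RF4.gn _ g t) = RF4.gn _ g (θ t) := by
  interval_cases g <;> ext <;> simp [tw, RF4.gn]

theorem nonempty_UH (E : Real Lie.chevF4) : Nonempty (UH (R := E.R) (E.S K).res θ (par θ hsq)) := by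
  have key : ∀ g < 12, ∀ t, RF4.uH _ E (tw θ hsq (RF4.gn _ g t)) = E.wordG (RF4.atomW g (θ t) t (t * θ t)) :=
    fun g hg t => by rw [tw_gn θ hsq g hg, RF4.uH_gn E hg, RF4.atm, E.coe_wordG, par_σ, hsq, mul_comm t]
  have hm : ∀ a, ((RF4.uH _ E).comp (tw θ hsq)) a ∈ (E.S K).grp := by
    have : ∀ g < 12, ∀ t, ((RF4.uH _ E).comp (tw θ hsq)) (RF4.gn _ g t) ∈ (E.S K).grp := fun g hg t => by
      rw [MonoidHom.comp_apply, key g hg]; exact SetLike.coe_mem _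
    exact mem_of_gens (this 0 (by decide)) (this 1 (by decide)) (this 2 (by decide)) (this 3 (by decide))
      (this 4 (by decide)) (this 5 (by decide)) (this 6 (by decide)) (this 7 (by decide)) (this 8 (by decide))
      (this 9 (by decide)) (this 10 (by decide)) (this 11 (by decide))
  let ρ : ℕ → Fin Lie.chevF4.nroots := fun r => if h : r < 48 then ⟨r, h⟩ else ⟨0, by decide⟩
  have hρ : ∀ r < 48, ∀ t : K, (E.S K).res.x (ρ r) t = E.xG r t := fun r hr t => by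
    simp only [ρ, dif_pos hr]; exact (E.xG_of_lt hr t).symm
  have k2 : ∀ g < 12, ∀ t, ((RF4.uH _ E).comp (tw θ hsq)).codRestrict _ hm (RF4.gn _ g t) =
      E.wordG (RF4.atomW g (θ t) t (t * θ t)) := fun g hg t => Subtype.ext (key g hg t)
  refine ⟨ρ, fun r hr => funext fun i => ?_, ((RF4.uH _ E).comp (tw θ hsq)).codRestrict _ hm, fun x y e =>
    tw_injective θ hsq (RF4.uH_injective E (congrArg Subtype.val e)), fun _ => rfl, fun t => (k2 0 (by decide) t).trans ?_,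
    fun t => (k2 1 (by decide) t).trans ?_, fun t => (k2 2 (by decide) t).trans ?_,
    fun t => (k2 3 (by decide) t).trans ?_, fun t => (k2 4 (by decide) t).trans ?_,
    fun t => (k2 5 (by decide) t).trans ?_, fun t => (k2 6 (by decide) t).trans ?_,
    fun t => (k2 7 (by decide) t).trans ?_, fun t => (k2 8 (by decide) t).trans ?_,
    fun t => (k2 9 (by decide) t).trans ?_, fun t => (k2 10 (by decide) t).trans ?_,
    fun t => (k2 11 (by decide) t).trans ?_⟩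
  · simp only [ρ, dif_pos hr]; exact tabF4.root E _ i
  all_goals simp (disch := decide) only [hρ, RF4.atomW, List.getD_cons_succ, List.getD_cons_zero, E.wordG_cons,
    E.wordG_nil, mul_one, mul_assoc]

end Concrete

end Md

open Md in
theorem exists_model {K : Type*} [Field K] [Fintype K] [CharP K 2] {m : ℕ} (hK : Fintype.card K = 2 ^ (2 * m + 1)) :
    ∃ (P : Par K) (R : Rk P), Nonempty (RM R (Cfsg.Lie.twistedF4 K (2 ^ m))) := by
  have H := isTwF4 realF4 hK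
  obtain ⟨A, θ, c, d, h, h2⟩ := H.ex
  have D : A.TwData jF4 ((Lie.twistedF4 K (2 ^ m)).subgroupOf (realF4.S K).grp) := h2 ▸ h.twData
  have hT : ∀ a, A.τ a = a → h.hMul.torus a ∈ (Lie.twistedF4 K (2 ^ m)).subgroupOf (realF4.S K).grp := fun a ha => by
    obtain ⟨k, hk⟩ := H.even
    have e : (a ^ k) ^ 2 = a := funext fun i => by
      have := pow_card_eq_one' (x := a i)
      rw [Nat.card_units, H.card] at this
      rw [← pow_mul, mul_two, ← hk, ← Nat.sub_add_cancel H.one_lt.le, pow_succ, Pi.mul_apply, Pi.pow_apply, this, one_mul]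
    rw [← e, map_pow]
    exact D.sq_mem_of_w0 H.faithful H.le h.hMul (w0_simple_F4 h.cartan) (h.hMul.torus_mem_H _)
      (by rw [A.map_torus, map_pow, ha])
  obtain ⟨M⟩ := nonempty_UH θ h.sq realF4
  have hc := H.card_eq
  have hq := H.one_lt
  have hU := card_UO (par θ h.sq)
  rw [H.card] at hU
  refine ⟨_, M.rk h, ⟨(M.bm h).md_toRM (Subgroup.inclusion H.le) (Subgroup.inclusion_injective _) ?_ (w_rel h) (M.w_not h)
    ?_ (by rw [hU]; positivity) fun h3 => ?_⟩⟩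
  · exact (Subgroup.inclusion_range H.le).trans (le_antisymm (h2.le.trans (M.gens_le h)) fun g hg =>
      h.mem_of_fixed (res_grp _) D hT (M.σ_of_mem h hg))
  · have h3 := H.even
    rw [hc, hU]
    generalize 2 ^ (2 * m + 1) = q at *
    refine ⟨(q - 1) * (q ^ 3 + 1) * (q ^ 4 - 1) * (q ^ 6 + 1), ?_, by ring⟩
    exact (((Nat.Even.sub_odd hq.le h3 odd_one).mul ((h3.pow_of_ne_zero (by decide)).add_one)).mul
      (Nat.Even.sub_odd (Nat.one_le_pow _ _ (by omega)) (h3.pow_of_ne_zero (by decide)) odd_one)).mul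
      ((h3.pow_of_ne_zero (by decide)).add_one)
  · rw [H.card] at h3
    have hm : 1 ≤ m := Nat.pos_of_ne_zero fun e => by simp [e] at h3
    have h8 : 8 ≤ 2 ^ (2 * m + 1) := Nat.pow_le_pow_right (n := 2) (by decide) (show 3 ≤ 2 * m + 1 by omega)
    refine ⟨(H.isSimpleGroup (by omega)).1, fun k ⟨e⟩ => ?_⟩
    have h4 := Agent.S2661.result hm hK k ⊤ ⊥ ⟨QuotientGroup.quotientBot.trans (Subgroup.topEquiv.trans e)⟩
    have h5 : Nat.card (alternatingGroup (Fin k)) ≤ 720 := (Subgroup.card_le_card_group _).trans (by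
      rw [Nat.card_perm, Nat.card_fin]; exact Nat.factorial_le h4)
    rw [← Nat.card_congr e.toEquiv, hc] at h5
    generalize 2 ^ (2 * m + 1) = q at *
    have h6 : 8 ^ 12 ≤ q ^ 12 := Nat.pow_le_pow_left h8 _
    have h7 : 0 < (q - 1) * (q ^ 3 + 1) * (q ^ 4 - 1) * (q ^ 6 + 1) := by
      have : 1 < q ^ 4 := Nat.one_lt_pow (by decide) hq
      exact mul_pos (mul_pos (mul_pos (by omega) (by positivity)) (by omega)) (by positivity)
    have h9 := Nat.le_mul_of_pos_right (q ^ 12) h7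
    simp only [← mul_assoc] at h9
    omega

end CL.Oct
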