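/-
Commutator relations of the positive root elements of `F₄` in characteristic two, oriented for collection.
-/
import Cfsg.Agent.Chev.TwRealF4

set_option autoImplicit false

namespace CL.Oct.M1

open CL.Chev CL.Chev.Cert Cfsg Cfsg.Lie

/-- the commutator terms with odd coefficient -/
def odd2 (l : List (ℕ × ℤ × ℕ × ℕ)) : List (ℕ × ℕ × ℕ) := (l.filter fun c => c.2.1 % 2 != 0).map fun c => (c.1, c.2.2)

def Cond (r s : ℕ) (l : List (ℕ × ℕ × ℕ)) : Prop :=
  r < auxF4.n ∧ s < auxF4.n ∧ s ≠ r ∧ s ≠ auxF4.ng r ∧ odd2 (auxF4.aTerms r s) = l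

instance (r s : ℕ) (l : List (ℕ × ℕ × ℕ)) : Decidable (Cond r s l) := by unfold Cond; infer_instance

variable {K : Type*} [Field K] {G : Type*} [Group G]

/-- the relations -/
structure FR (x : ℕ → K → G) : Prop where
  two : (2 : K) = 0
  add : ∀ r s t, x r (s + t) = x r s * x r t
  sw : ∀ {r s l}, Cond r s l → ∀ t u, x s u * x r t = x r t * x s u * (l.map fun c => x c.1 (t ^ c.2.1 * u ^ c.2.2)).prod

theorem fr_real (E : Real chevF4) (h2 : (2 : K) = 0) : FR (K := K) E.xG := by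
  refine ⟨h2, E.xG_add, ?_⟩
  rintro r s l ⟨h1, h3, h4, h5, rfl⟩ t u
  have hn : -t = t := by linear_combination -t * h2
  have z : ∀ r, E.xG r (0 : K) = 1 := fun r => by simpa using E.xG_add r (0 : K) 0
  rw [tabF4.comm_xG E ⟨h1, h3, h4, h5, rfl⟩, hn]
  congr 1
  induction auxF4.aTerms r s with
  | nil => rfl
  | cons c l ih =>
    rw [List.map_cons, Real.wordG_cons, ih]
    have e : (c.2.1 : K) = ((c.2.1 % 2 : ℤ) : K) := by
      conv_lhs => rw [← Int.emod_add_mul_ediv c.2.1 2]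
      push_cast; rw [h2]; simp
    rcases Int.emod_two_eq_zero_or_one c.2.1 with h | h <;> simp [odd2, e, h, z]

namespace FR

variable {x : ℕ → K → G} (h : FR x)
include h

theorem zero (r : ℕ) : x r 0 = 1 := by simpa using h.add r 0 0
theorem mg (r : ℕ) (s t : K) (z : G) : x r s * (x r t * z) = x r (s + t) * z := by rw [h.add, mul_assoc]
theorem sq (r : ℕ) (t : K) : x r t * x r t = 1 := by
  rw [← h.add, show t + t = 0 by linear_combination t * h.two, h.zero]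
theorem mv {A B : G} {r : ℕ} {t : K} (e : A * x r t = B) : A = B * x r t := by rw [← e, mul_assoc, h.sq, mul_one]
theorem mv1 {A : G} {r : ℕ} {t : K} (e : ∀ z, A * x r t * z = z) : A = x r t := by
  have := h.mv (e 1 ▸ (mul_one _).symm : A * x r t = 1); rwa [one_mul] at this
theorem z0 {r : ℕ} {p : K} {y z : G} (hp : p = 0) (e : y = z) : x r p * y = z := by rw [hp, h.zero, one_mul, e]

theorem s0 {r s : ℕ} (c : Cond r s []) (t u : K) (z : G) : x s u * (x r t * z) = x r t * (x s u * z) := by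
  rw [← mul_assoc, h.sw c]; simp [mul_assoc]
theorem s1 {r s a : ℕ} (c : Cond r s [(a, 1, 1)]) (t u : K) (z : G) :
    x s u * (x r t * z) = x r t * (x s u * (x a (t * u) * z)) := by
  rw [← mul_assoc, h.sw c]; simp [mul_assoc]
theorem s2 {r s a b : ℕ} (c : Cond r s [(a, 1, 1), (b, 2, 1)]) (t u : K) (z : G) :
    x s u * (x r t * z) = x r t * (x s u * (x a (t * u) * (x b (t ^ 2 * u) * z))) := by
  rw [← mul_assoc, h.sw c]; simp [mul_assoc]
theorem s3 {r s a b : ℕ} (c : Cond r s [(a, 1, 1), (b, 1, 2)]) (t u : K) (z : G) :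
    x s u * (x r t * z) = x r t * (x s u * (x a (t * u) * (x b (t * u ^ 2) * z))) := by
  rw [← mul_assoc, h.sw c]; simp [mul_assoc]

theorem w33 : (∀ (t u : K) (z : G), x 24 u * (x 33 t * z) = x 33 t * (x 24 u * z)) ∧
    (∀ (t u : K) (z : G), x 34 u * (x 33 t * z) = x 33 t * (x 34 u * z)) ∧
    (∀ (t u : K) (z : G), x 26 u * (x 33 t * z) = x 33 t * (x 26 u * z)) ∧
    (∀ (t u : K) (z : G), x 36 u * (x 33 t * z) = x 33 t * (x 36 u * z)) ∧
    (∀ (t u : K) (z : G), x 42 u * (x 33 t * z) = x 33 t * (x 42 u * z)) ∧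
    (∀ (t u : K) (z : G), x 38 u * (x 33 t * z) = x 33 t * (x 38 u * z)) ∧
    (∀ (t u : K) (z : G), x 43 u * (x 33 t * z) = x 33 t * (x 43 u * z)) ∧
    (∀ (t u : K) (z : G), x 29 u * (x 33 t * z) = x 33 t * (x 29 u * (x 36 (t * u) * z))) ∧
    (∀ (t u : K) (z : G), x 41 u * (x 33 t * z) = x 33 t * (x 41 u * z)) ∧
    (∀ (t u : K) (z : G), x 44 u * (x 33 t * z) = x 33 t * (x 44 u * z)) ∧
    (∀ (t u : K) (z : G), x 47 u * (x 33 t * z) = x 33 t * (x 47 u * z)) ∧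
    (∀ (t u : K) (z : G), x 39 u * (x 33 t * z) = x 33 t * (x 39 u * z)) ∧
    (∀ (t u : K) (z : G), x 45 u * (x 33 t * z) = x 33 t * (x 45 u * z)) ∧
    (∀ (t u : K) (z : G), x 35 u * (x 33 t * z) = x 33 t * (x 35 u * z)) ∧
    (∀ (t u : K) (z : G), x 31 u * (x 33 t * z) = x 33 t * (x 31 u * (x 38 (t * u) * (x 42 (t ^ 2 * u) * z)))) ∧
    (∀ (t u : K) (z : G), x 40 u * (x 33 t * z) = x 33 t * (x 40 u * (x 44 (t * u) * z))) ∧
    (∀ (t u : K) (z : G), x 46 u * (x 33 t * z) = x 33 t * (x 46 u * z)) ∧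
    (∀ (t u : K) (z : G), x 37 u * (x 33 t * z) = x 33 t * (x 37 u * z)) ∧
    (∀ (t u : K) (z : G), x 32 u * (x 33 t * z) = x 33 t * (x 32 u * (x 39 (t * u) * (x 43 (t ^ 2 * u) * z)))) ∧
    (∀ (t u : K) (z : G), x 27 u * (x 33 t * z) = x 33 t * (x 27 u * (x 34 (t * u) * z))) ∧
    (∀ (t u : K) (z : G), x 25 u * (x 33 t * z) = x 33 t * (x 25 u * z)) ∧
    (∀ (t u : K) (z : G), x 28 u * (x 33 t * z) = x 33 t * (x 28 u * (x 35 (t * u) * z))) ∧
    (∀ (t u : K) (z : G), x 30 u * (x 33 t * z) = x 33 t * (x 30 u * (x 37 (t * u) * (x 41 (t ^ 2 * u) * z)))) :=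
  ⟨h.s0 (by decide +kernel), h.s0 (by decide +kernel), h.s0 (by decide +kernel), h.s0 (by decide +kernel), h.s0 (by decide +kernel), h.s0 (by decide +kernel), h.s0 (by decide +kernel), h.s1 (by decide +kernel), h.s0 (by decide +kernel), h.s0 (by decide +kernel), h.s0 (by decide +kernel), h.s0 (by decide +kernel), h.s0 (by decide +kernel), h.s0 (by decide +kernel), h.s2 (by decide +kernel), h.s1 (by decide +kernel), h.s0 (by decide +kernel), h.s0 (by decide +kernel), h.s2 (by decide +kernel), h.s1 (by decide +kernel), h.s0 (by decide +kernel), h.s1 (by decide +kernel), h.s2 (by decide +kernel)⟩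

theorem w24 : (∀ (t u : K) (z : G), x 34 u * (x 24 t * z) = x 24 t * (x 34 u * z)) ∧
    (∀ (t u : K) (z : G), x 26 u * (x 24 t * z) = x 24 t * (x 26 u * z)) ∧
    (∀ (t u : K) (z : G), x 36 u * (x 24 t * z) = x 24 t * (x 36 u * z)) ∧
    (∀ (t u : K) (z : G), x 42 u * (x 24 t * z) = x 24 t * (x 42 u * z)) ∧
    (∀ (t u : K) (z : G), x 38 u * (x 24 t * z) = x 24 t * (x 38 u * z)) ∧
    (∀ (t u : K) (z : G), x 43 u * (x 24 t * z) = x 24 t * (x 43 u * z)) ∧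
    (∀ (t u : K) (z : G), x 29 u * (x 24 t * z) = x 24 t * (x 29 u * z)) ∧
    (∀ (t u : K) (z : G), x 41 u * (x 24 t * z) = x 24 t * (x 41 u * (x 42 (t * u) * z))) ∧
    (∀ (t u : K) (z : G), x 44 u * (x 24 t * z) = x 24 t * (x 44 u * z)) ∧
    (∀ (t u : K) (z : G), x 47 u * (x 24 t * z) = x 24 t * (x 47 u * z)) ∧
    (∀ (t u : K) (z : G), x 39 u * (x 24 t * z) = x 24 t * (x 39 u * z)) ∧
    (∀ (t u : K) (z : G), x 45 u * (x 24 t * z) = x 24 t * (x 45 u * z)) ∧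
    (∀ (t u : K) (z : G), x 35 u * (x 24 t * z) = x 24 t * (x 35 u * (x 36 (t * u) * (x 43 (t * u ^ 2) * z)))) ∧
    (∀ (t u : K) (z : G), x 31 u * (x 24 t * z) = x 24 t * (x 31 u * z)) ∧
    (∀ (t u : K) (z : G), x 40 u * (x 24 t * z) = x 24 t * (x 40 u * z)) ∧
    (∀ (t u : K) (z : G), x 46 u * (x 24 t * z) = x 24 t * (x 46 u * (x 47 (t * u) * z))) ∧
    (∀ (t u : K) (z : G), x 37 u * (x 24 t * z) = x 24 t * (x 37 u * (x 38 (t * u) * (x 45 (t * u ^ 2) * z)))) ∧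
    (∀ (t u : K) (z : G), x 32 u * (x 24 t * z) = x 24 t * (x 32 u * z)) ∧
    (∀ (t u : K) (z : G), x 27 u * (x 24 t * z) = x 24 t * (x 27 u * z)) ∧
    (∀ (t u : K) (z : G), x 25 u * (x 24 t * z) = x 24 t * (x 25 u * (x 26 (t * u) * z))) ∧
    (∀ (t u : K) (z : G), x 28 u * (x 24 t * z) = x 24 t * (x 28 u * (x 29 (t * u) * (x 32 (t * u ^ 2) * z)))) ∧
    (∀ (t u : K) (z : G), x 30 u * (x 24 t * z) = x 24 t * (x 30 u * (x 31 (t * u) * z))) :=
  ⟨h.s0 (by decide +kernel), h.s0 (by decide +kernel), h.s0 (by decide +kernel), h.s0 (by decide +kernel), h.s0 (by decide +kernel), h.s0 (by decide +kernel), h.s0 (by decide +kernel), h.s1 (by decide +kernel), h.s0 (by decide +kernel), h.s0 (by decide +kernel), h.s0 (by decide +kernel), h.s0 (by decide +kernel), h.s3 (by decide +kernel), h.s0 (by decide +kernel), h.s0 (by decide +kernel), h.s1 (by decide +kernel), h.s3 (by decide +kernel), h.s0 (by decide +kernel), h.s0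 (by decide +kernel), h.s1 (by decide +kernel), h.s3 (by decide +kernel), h.s1 (by decide +kernel)⟩

theorem w34 : (∀ (t u : K) (z : G), x 26 u * (x 34 t * z) = x 34 t * (x 26 u * (x 36 (t * u) * (x 42 (t ^ 2 * u) * z)))) ∧
    (∀ (t u : K) (z : G), x 36 u * (x 34 t * z) = x 34 t * (x 36 u * z)) ∧
    (∀ (t u : K) (z : G), x 42 u * (x 34 t * z) = x 34 t * (x 42 u * z)) ∧
    (∀ (t u : K) (z : G), x 38 u * (x 34 t * z) = x 34 t * (x 38 u * z)) ∧
    (∀ (t u : K) (z : G), x 43 u * (x 34 t * z) = x 34 t * (x 43 u * z)) ∧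
    (∀ (t u : K) (z : G), x 29 u * (x 34 t * z) = x 34 t * (x 29 u * (x 38 (t * u) * z))) ∧
    (∀ (t u : K) (z : G), x 41 u * (x 34 t * z) = x 34 t * (x 41 u * z)) ∧
    (∀ (t u : K) (z : G), x 44 u * (x 34 t * z) = x 34 t * (x 44 u * z)) ∧
    (∀ (t u : K) (z : G), x 47 u * (x 34 t * z) = x 34 t * (x 47 u * z)) ∧
    (∀ (t u : K) (z : G), x 39 u * (x 34 t * z) = x 34 t * (x 39 u * (x 44 (t * u) * z))) ∧
    (∀ (t u : K) (z : G), x 45 u * (x 34 t * z) = x 34 t * (x 45 u * z)) ∧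
    (∀ (t u : K) (z : G), x 35 u * (x 34 t * z) = x 34 t * (x 35 u * z)) ∧
    (∀ (t u : K) (z : G), x 31 u * (x 34 t * z) = x 34 t * (x 31 u * z)) ∧
    (∀ (t u : K) (z : G), x 40 u * (x 34 t * z) = x 34 t * (x 40 u * z)) ∧
    (∀ (t u : K) (z : G), x 46 u * (x 34 t * z) = x 34 t * (x 46 u * z)) ∧
    (∀ (t u : K) (z : G), x 37 u * (x 34 t * z) = x 34 t * (x 37 u * z)) ∧
    (∀ (t u : K) (z : G), x 32 u * (x 34 t * z) = x 34 t * (x 32 u * (x 40 (t * u) * (x 45 (t ^ 2 * u) * z)))) ∧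
    (∀ (t u : K) (z : G), x 27 u * (x 34 t * z) = x 34 t * (x 27 u * z)) ∧
    (∀ (t u : K) (z : G), x 25 u * (x 34 t * z) = x 34 t * (x 25 u * (x 35 (t * u) * (x 41 (t ^ 2 * u) * z)))) ∧
    (∀ (t u : K) (z : G), x 28 u * (x 34 t * z) = x 34 t * (x 28 u * (x 37 (t * u) * z))) ∧
    (∀ (t u : K) (z : G), x 30 u * (x 34 t * z) = x 34 t * (x 30 u * z)) :=
  ⟨h.s2 (by decide +kernel), h.s0 (by decide +kernel), h.s0 (by decide +kernel), h.s0 (by decide +kernel), h.s0 (by decide +kernel), h.s1 (by decide +kernel), h.s0 (by decide +kernel), h.s0 (by decide +kernel), h.s0 (by decide +kernel), h.s1 (by decide +kernel), h.s0 (by decide +kernel), h.s0 (by decide +kernel), h.s0 (by decide +kernel), h.s0 (by decide +kernel), h.s0 (by decide +kernel), h.s0 (by decide +kernel), h.s2 (by decide +kernel), h.s0 (by decide +kernel), h.s2 (by decide +kernel), h.s1 (by decide +kernel), h.s0 (by decide +kernel)⟩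

theorem w26 : (∀ (t u : K) (z : G), x 36 u * (x 26 t * z) = x 26 t * (x 36 u * z)) ∧
    (∀ (t u : K) (z : G), x 42 u * (x 26 t * z) = x 26 t * (x 42 u * z)) ∧
    (∀ (t u : K) (z : G), x 38 u * (x 26 t * z) = x 26 t * (x 38 u * z)) ∧
    (∀ (t u : K) (z : G), x 43 u * (x 26 t * z) = x 26 t * (x 43 u * z)) ∧
    (∀ (t u : K) (z : G), x 29 u * (x 26 t * z) = x 26 t * (x 29 u * z)) ∧
    (∀ (t u : K) (z : G), x 41 u * (x 26 t * z) = x 26 t * (x 41 u * (x 43 (t * u) * z))) ∧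
    (∀ (t u : K) (z : G), x 44 u * (x 26 t * z) = x 26 t * (x 44 u * z)) ∧
    (∀ (t u : K) (z : G), x 47 u * (x 26 t * z) = x 26 t * (x 47 u * z)) ∧
    (∀ (t u : K) (z : G), x 39 u * (x 26 t * z) = x 26 t * (x 39 u * z)) ∧
    (∀ (t u : K) (z : G), x 45 u * (x 26 t * z) = x 26 t * (x 45 u * (x 47 (t * u) * z))) ∧
    (∀ (t u : K) (z : G), x 35 u * (x 26 t * z) = x 26 t * (x 35 u * z)) ∧
    (∀ (t u : K) (z : G), x 31 u * (x 26 t * z) = x 26 t * (x 31 u * z)) ∧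
    (∀ (t u : K) (z : G), x 40 u * (x 26 t * z) = x 26 t * (x 40 u * z)) ∧
    (∀ (t u : K) (z : G), x 46 u * (x 26 t * z) = x 26 t * (x 46 u * z)) ∧
    (∀ (t u : K) (z : G), x 37 u * (x 26 t * z) = x 26 t * (x 37 u * (x 39 (t * u) * (x 46 (t * u ^ 2) * z)))) ∧
    (∀ (t u : K) (z : G), x 32 u * (x 26 t * z) = x 26 t * (x 32 u * z)) ∧
    (∀ (t u : K) (z : G), x 27 u * (x 26 t * z) = x 26 t * (x 27 u * (x 29 (t * u) * (x 31 (t * u ^ 2) * z)))) ∧
    (∀ (t u : K) (z : G), x 25 u * (x 26 t * z) = x 26 t * (x 25 u * z)) ∧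
    (∀ (t u : K) (z : G), x 28 u * (x 26 t * z) = x 26 t * (x 28 u * z)) ∧
    (∀ (t u : K) (z : G), x 30 u * (x 26 t * z) = x 26 t * (x 30 u * (x 32 (t * u) * z))) :=
  ⟨h.s0 (by decide +kernel), h.s0 (by decide +kernel), h.s0 (by decide +kernel), h.s0 (by decide +kernel), h.s0 (by decide +kernel), h.s1 (by decide +kernel), h.s0 (by decide +kernel), h.s0 (by decide +kernel), h.s0 (by decide +kernel), h.s1 (by decide +kernel), h.s0 (by decide +kernel), h.s0 (by decide +kernel), h.s0 (by decide +kernel), h.s0 (by decide +kernel), h.s3 (by decide +kernel), h.s0 (by decide +kernel), h.s3 (by decide +kernel), h.s0 (by decide +kernel), h.s0 (by decide +kernel), h.s1 (by decide +kernel)⟩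

theorem w36 : (∀ (t u : K) (z : G), x 42 u * (x 36 t * z) = x 36 t * (x 42 u * z)) ∧
    (∀ (t u : K) (z : G), x 38 u * (x 36 t * z) = x 36 t * (x 38 u * z)) ∧
    (∀ (t u : K) (z : G), x 43 u * (x 36 t * z) = x 36 t * (x 43 u * z)) ∧
    (∀ (t u : K) (z : G), x 29 u * (x 36 t * z) = x 36 t * (x 29 u * z)) ∧
    (∀ (t u : K) (z : G), x 41 u * (x 36 t * z) = x 36 t * (x 41 u * z)) ∧
    (∀ (t u : K) (z : G), x 44 u * (x 36 t * z) = x 36 t * (x 44 u * z)) ∧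
    (∀ (t u : K) (z : G), x 47 u * (x 36 t * z) = x 36 t * (x 47 u * z)) ∧
    (∀ (t u : K) (z : G), x 39 u * (x 36 t * z) = x 36 t * (x 39 u * z)) ∧
    (∀ (t u : K) (z : G), x 45 u * (x 36 t * z) = x 36 t * (x 45 u * z)) ∧
    (∀ (t u : K) (z : G), x 35 u * (x 36 t * z) = x 36 t * (x 35 u * z)) ∧
    (∀ (t u : K) (z : G), x 31 u * (x 36 t * z) = x 36 t * (x 31 u * z)) ∧
    (∀ (t u : K) (z : G), x 40 u * (x 36 t * z) = x 36 t * (x 40 u * z)) ∧
    (∀ (t u : K) (z : G), x 46 u * (x 36 t * z) = x 36 t * (x 46 u * z)) ∧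
    (∀ (t u : K) (z : G), x 37 u * (x 36 t * z) = x 36 t * (x 37 u * (x 44 (t * u) * z))) ∧
    (∀ (t u : K) (z : G), x 32 u * (x 36 t * z) = x 36 t * (x 32 u * z)) ∧
    (∀ (t u : K) (z : G), x 27 u * (x 36 t * z) = x 36 t * (x 27 u * (x 38 (t * u) * z))) ∧
    (∀ (t u : K) (z : G), x 25 u * (x 36 t * z) = x 36 t * (x 25 u * z)) ∧
    (∀ (t u : K) (z : G), x 28 u * (x 36 t * z) = x 36 t * (x 28 u * (x 39 (t * u) * z))) ∧
    (∀ (t u : K) (z : G), x 30 u * (x 36 t * z) = x 36 t * (x 30 u * (x 40 (t * u) * (x 47 (t ^ 2 * u) * z)))) :=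
  ⟨h.s0 (by decide +kernel), h.s0 (by decide +kernel), h.s0 (by decide +kernel), h.s0 (by decide +kernel), h.s0 (by decide +kernel), h.s0 (by decide +kernel), h.s0 (by decide +kernel), h.s0 (by decide +kernel), h.s0 (by decide +kernel), h.s0 (by decide +kernel), h.s0 (by decide +kernel), h.s0 (by decide +kernel), h.s0 (by decide +kernel), h.s1 (by decide +kernel), h.s0 (by decide +kernel), h.s1 (by decide +kernel), h.s0 (by decide +kernel), h.s1 (by decide +kernel), h.s2 (by decide +kernel)⟩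

theorem w42 : (∀ (t u : K) (z : G), x 38 u * (x 42 t * z) = x 42 t * (x 38 u * z)) ∧
    (∀ (t u : K) (z : G), x 43 u * (x 42 t * z) = x 42 t * (x 43 u * z)) ∧
    (∀ (t u : K) (z : G), x 29 u * (x 42 t * z) = x 42 t * (x 29 u * z)) ∧
    (∀ (t u : K) (z : G), x 41 u * (x 42 t * z) = x 42 t * (x 41 u * z)) ∧
    (∀ (t u : K) (z : G), x 44 u * (x 42 t * z) = x 42 t * (x 44 u * z)) ∧
    (∀ (t u : K) (z : G), x 47 u * (x 42 t * z) = x 42 t * (x 47 u * z)) ∧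
    (∀ (t u : K) (z : G), x 39 u * (x 42 t * z) = x 42 t * (x 39 u * z)) ∧
    (∀ (t u : K) (z : G), x 45 u * (x 42 t * z) = x 42 t * (x 45 u * z)) ∧
    (∀ (t u : K) (z : G), x 35 u * (x 42 t * z) = x 42 t * (x 35 u * z)) ∧
    (∀ (t u : K) (z : G), x 31 u * (x 42 t * z) = x 42 t * (x 31 u * z)) ∧
    (∀ (t u : K) (z : G), x 40 u * (x 42 t * z) = x 42 t * (x 40 u * z)) ∧
    (∀ (t u : K) (z : G), x 46 u * (x 42 t * z) = x 42 t * (x 46 u * z)) ∧
    (∀ (t u : K) (z : G), x 37 u * (x 42 t * z) = x 42 t * (x 37 u * z)) ∧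
    (∀ (t u : K) (z : G), x 32 u * (x 42 t * z) = x 42 t * (x 32 u * (x 47 (t * u) * z))) ∧
    (∀ (t u : K) (z : G), x 27 u * (x 42 t * z) = x 42 t * (x 27 u * z)) ∧
    (∀ (t u : K) (z : G), x 25 u * (x 42 t * z) = x 42 t * (x 25 u * (x 43 (t * u) * z))) ∧
    (∀ (t u : K) (z : G), x 28 u * (x 42 t * z) = x 42 t * (x 28 u * (x 44 (t * u) * (x 46 (t * u ^ 2) * z)))) ∧
    (∀ (t u : K) (z : G), x 30 u * (x 42 t * z) = x 42 t * (x 30 u * (x 45 (t * u) * z))) :=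
  ⟨h.s0 (by decide +kernel), h.s0 (by decide +kernel), h.s0 (by decide +kernel), h.s0 (by decide +kernel), h.s0 (by decide +kernel), h.s0 (by decide +kernel), h.s0 (by decide +kernel), h.s0 (by decide +kernel), h.s0 (by decide +kernel), h.s0 (by decide +kernel), h.s0 (by decide +kernel), h.s0 (by decide +kernel), h.s0 (by decide +kernel), h.s1 (by decide +kernel), h.s0 (by decide +kernel), h.s1 (by decide +kernel), h.s3 (by decide +kernel), h.s1 (by decide +kernel)⟩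

theorem w38 : (∀ (t u : K) (z : G), x 43 u * (x 38 t * z) = x 38 t * (x 43 u * z)) ∧
    (∀ (t u : K) (z : G), x 29 u * (x 38 t * z) = x 38 t * (x 29 u * z)) ∧
    (∀ (t u : K) (z : G), x 41 u * (x 38 t * z) = x 38 t * (x 41 u * z)) ∧
    (∀ (t u : K) (z : G), x 44 u * (x 38 t * z) = x 38 t * (x 44 u * z)) ∧
    (∀ (t u : K) (z : G), x 47 u * (x 38 t * z) = x 38 t * (x 47 u * z)) ∧
    (∀ (t u : K) (z : G), x 39 u * (x 38 t * z) = x 38 t * (x 39 u * z)) ∧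
    (∀ (t u : K) (z : G), x 45 u * (x 38 t * z) = x 38 t * (x 45 u * z)) ∧
    (∀ (t u : K) (z : G), x 35 u * (x 38 t * z) = x 38 t * (x 35 u * (x 44 (t * u) * z))) ∧
    (∀ (t u : K) (z : G), x 31 u * (x 38 t * z) = x 38 t * (x 31 u * z)) ∧
    (∀ (t u : K) (z : G), x 40 u * (x 38 t * z) = x 38 t * (x 40 u * z)) ∧
    (∀ (t u : K) (z : G), x 46 u * (x 38 t * z) = x 38 t * (x 46 u * z)) ∧
    (∀ (t u : K) (z : G), x 37 u * (x 38 t * z) = x 38 t * (x 37 u * z)) ∧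
    (∀ (t u : K) (z : G), x 32 u * (x 38 t * z) = x 38 t * (x 32 u * z)) ∧
    (∀ (t u : K) (z : G), x 27 u * (x 38 t * z) = x 38 t * (x 27 u * z)) ∧
    (∀ (t u : K) (z : G), x 25 u * (x 38 t * z) = x 38 t * (x 25 u * (x 39 (t * u) * (x 47 (t ^ 2 * u) * z)))) ∧
    (∀ (t u : K) (z : G), x 28 u * (x 38 t * z) = x 38 t * (x 28 u * (x 40 (t * u) * z))) ∧
    (∀ (t u : K) (z : G), x 30 u * (x 38 t * z) = x 38 t * (x 30 u * z)) :=
  ⟨h.s0 (by decide +kernel), h.s0 (by decide +kernel), h.s0 (by decide +kernel), h.s0 (by decide +kernel), h.s0 (by decide +kernel), h.s0 (by decide +kernel), h.s0 (by decide +kernel), h.s1 (by decide +kernel), h.s0 (by decide +kernel), h.s0 (by decide +kernel), h.s0 (by decide +kernel), h.s0 (by decide +kernel), h.s0 (by decide +kernel), h.s0 (by decide +kernel), h.s2 (by decide +kernel), h.s1 (by decide +kernel), h.s0 (by decide +kernel)⟩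

theorem w43 : (∀ (t u : K) (z : G), x 29 u * (x 43 t * z) = x 43 t * (x 29 u * z)) ∧
    (∀ (t u : K) (z : G), x 41 u * (x 43 t * z) = x 43 t * (x 41 u * z)) ∧
    (∀ (t u : K) (z : G), x 44 u * (x 43 t * z) = x 43 t * (x 44 u * z)) ∧
    (∀ (t u : K) (z : G), x 47 u * (x 43 t * z) = x 43 t * (x 47 u * z)) ∧
    (∀ (t u : K) (z : G), x 39 u * (x 43 t * z) = x 43 t * (x 39 u * z)) ∧
    (∀ (t u : K) (z : G), x 45 u * (x 43 t * z) = x 43 t * (x 45 u * z)) ∧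
    (∀ (t u : K) (z : G), x 35 u * (x 43 t * z) = x 43 t * (x 35 u * z)) ∧
    (∀ (t u : K) (z : G), x 31 u * (x 43 t * z) = x 43 t * (x 31 u * (x 47 (t * u) * z))) ∧
    (∀ (t u : K) (z : G), x 40 u * (x 43 t * z) = x 43 t * (x 40 u * z)) ∧
    (∀ (t u : K) (z : G), x 46 u * (x 43 t * z) = x 43 t * (x 46 u * z)) ∧
    (∀ (t u : K) (z : G), x 37 u * (x 43 t * z) = x 43 t * (x 37 u * z)) ∧
    (∀ (t u : K) (z : G), x 32 u * (x 43 t * z) = x 43 t * (x 32 u * z)) ∧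
    (∀ (t u : K) (z : G), x 27 u * (x 43 t * z) = x 43 t * (x 27 u * (x 44 (t * u) * (x 45 (t * u ^ 2) * z)))) ∧
    (∀ (t u : K) (z : G), x 25 u * (x 43 t * z) = x 43 t * (x 25 u * z)) ∧
    (∀ (t u : K) (z : G), x 28 u * (x 43 t * z) = x 43 t * (x 28 u * z)) ∧
    (∀ (t u : K) (z : G), x 30 u * (x 43 t * z) = x 43 t * (x 30 u * (x 46 (t * u) * z))) :=
  ⟨h.s0 (by decide +kernel), h.s0 (by decide +kernel), h.s0 (by decide +kernel), h.s0 (by decide +kernel), h.s0 (by decide +kernel), h.s0 (by decide +kernel), h.s0 (by decide +kernel), h.s1 (by decide +kernel), h.s0 (by decide +kernel), h.s0 (by decide +kernel), h.s0 (by decide +kernel), h.s0 (by decide +kernel), h.s3 (by decide +kernel), h.s0 (by decide +kernel), h.s0 (by decide +kernel), h.s1 (by decide +kernel)⟩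

theorem w29 : (∀ (t u : K) (z : G), x 41 u * (x 29 t * z) = x 29 t * (x 41 u * (x 44 (t * u) * (x 47 (t ^ 2 * u) * z)))) ∧
    (∀ (t u : K) (z : G), x 44 u * (x 29 t * z) = x 29 t * (x 44 u * z)) ∧
    (∀ (t u : K) (z : G), x 47 u * (x 29 t * z) = x 29 t * (x 47 u * z)) ∧
    (∀ (t u : K) (z : G), x 39 u * (x 29 t * z) = x 29 t * (x 39 u * z)) ∧
    (∀ (t u : K) (z : G), x 45 u * (x 29 t * z) = x 29 t * (x 45 u * z)) ∧
    (∀ (t u : K) (z : G), x 35 u * (x 29 t * z) = x 29 t * (x 35 u * (x 39 (t * u) * z))) ∧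
    (∀ (t u : K) (z : G), x 31 u * (x 29 t * z) = x 29 t * (x 31 u * z)) ∧
    (∀ (t u : K) (z : G), x 40 u * (x 29 t * z) = x 29 t * (x 40 u * z)) ∧
    (∀ (t u : K) (z : G), x 46 u * (x 29 t * z) = x 29 t * (x 46 u * z)) ∧
    (∀ (t u : K) (z : G), x 37 u * (x 29 t * z) = x 29 t * (x 37 u * (x 40 (t * u) * z))) ∧
    (∀ (t u : K) (z : G), x 32 u * (x 29 t * z) = x 29 t * (x 32 u * z)) ∧
    (∀ (t u : K) (z : G), x 27 u * (x 29 t * z) = x 29 t * (x 27 u * z)) ∧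
    (∀ (t u : K) (z : G), x 25 u * (x 29 t * z) = x 29 t * (x 25 u * z)) ∧
    (∀ (t u : K) (z : G), x 28 u * (x 29 t * z) = x 29 t * (x 28 u * z)) ∧
    (∀ (t u : K) (z : G), x 30 u * (x 29 t * z) = x 29 t * (x 30 u * z)) :=
  ⟨h.s2 (by decide +kernel), h.s0 (by decide +kernel), h.s0 (by decide +kernel), h.s0 (by decide +kernel), h.s0 (by decide +kernel), h.s1 (by decide +kernel), h.s0 (by decide +kernel), h.s0 (by decide +kernel), h.s0 (by decide +kernel), h.s1 (by decide +kernel), h.s0 (by decide +kernel), h.s0 (by decide +kernel), h.s0 (by decide +kernel), h.s0 (by decide +kernel), h.s0 (by decide +kernel)⟩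

theorem w41 : (∀ (t u : K) (z : G), x 44 u * (x 41 t * z) = x 41 t * (x 44 u * z)) ∧
    (∀ (t u : K) (z : G), x 47 u * (x 41 t * z) = x 41 t * (x 47 u * z)) ∧
    (∀ (t u : K) (z : G), x 39 u * (x 41 t * z) = x 41 t * (x 39 u * z)) ∧
    (∀ (t u : K) (z : G), x 45 u * (x 41 t * z) = x 41 t * (x 45 u * z)) ∧
    (∀ (t u : K) (z : G), x 35 u * (x 41 t * z) = x 41 t * (x 35 u * z)) ∧
    (∀ (t u : K) (z : G), x 31 u * (x 41 t * z) = x 41 t * (x 31 u * (x 45 (t * u) * z))) ∧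
    (∀ (t u : K) (z : G), x 40 u * (x 41 t * z) = x 41 t * (x 40 u * z)) ∧
    (∀ (t u : K) (z : G), x 46 u * (x 41 t * z) = x 41 t * (x 46 u * z)) ∧
    (∀ (t u : K) (z : G), x 37 u * (x 41 t * z) = x 41 t * (x 37 u * z)) ∧
    (∀ (t u : K) (z : G), x 32 u * (x 41 t * z) = x 41 t * (x 32 u * (x 46 (t * u) * z))) ∧
    (∀ (t u : K) (z : G), x 27 u * (x 41 t * z) = x 41 t * (x 27 u * z)) ∧
    (∀ (t u : K) (z : G), x 25 u * (x 41 t * z) = x 41 t * (x 25 u * z)) ∧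
    (∀ (t u : K) (z : G), x 28 u * (x 41 t * z) = x 41 t * (x 28 u * z)) ∧
    (∀ (t u : K) (z : G), x 30 u * (x 41 t * z) = x 41 t * (x 30 u * z)) :=
  ⟨h.s0 (by decide +kernel), h.s0 (by decide +kernel), h.s0 (by decide +kernel), h.s0 (by decide +kernel), h.s0 (by decide +kernel), h.s1 (by decide +kernel), h.s0 (by decide +kernel), h.s0 (by decide +kernel), h.s0 (by decide +kernel), h.s1 (by decide +kernel), h.s0 (by decide +kernel), h.s0 (by decide +kernel), h.s0 (by decide +kernel), h.s0 (by decide +kernel)⟩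

theorem w44 : (∀ (t u : K) (z : G), x 47 u * (x 44 t * z) = x 44 t * (x 47 u * z)) ∧
    (∀ (t u : K) (z : G), x 39 u * (x 44 t * z) = x 44 t * (x 39 u * z)) ∧
    (∀ (t u : K) (z : G), x 45 u * (x 44 t * z) = x 44 t * (x 45 u * z)) ∧
    (∀ (t u : K) (z : G), x 35 u * (x 44 t * z) = x 44 t * (x 35 u * z)) ∧
    (∀ (t u : K) (z : G), x 31 u * (x 44 t * z) = x 44 t * (x 31 u * z)) ∧
    (∀ (t u : K) (z : G), x 40 u * (x 44 t * z) = x 44 t * (x 40 u * z)) ∧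
    (∀ (t u : K) (z : G), x 46 u * (x 44 t * z) = x 44 t * (x 46 u * z)) ∧
    (∀ (t u : K) (z : G), x 37 u * (x 44 t * z) = x 44 t * (x 37 u * z)) ∧
    (∀ (t u : K) (z : G), x 32 u * (x 44 t * z) = x 44 t * (x 32 u * z)) ∧
    (∀ (t u : K) (z : G), x 27 u * (x 44 t * z) = x 44 t * (x 27 u * z)) ∧
    (∀ (t u : K) (z : G), x 25 u * (x 44 t * z) = x 44 t * (x 25 u * z)) ∧
    (∀ (t u : K) (z : G), x 28 u * (x 44 t * z) = x 44 t * (x 28 u * z)) ∧
    (∀ (t u : K) (z : G), x 30 u * (x 44 t * z) = x 44 t * (x 30 u * z)) :=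
  ⟨h.s0 (by decide +kernel), h.s0 (by decide +kernel), h.s0 (by decide +kernel), h.s0 (by decide +kernel), h.s0 (by decide +kernel), h.s0 (by decide +kernel), h.s0 (by decide +kernel), h.s0 (by decide +kernel), h.s0 (by decide +kernel), h.s0 (by decide +kernel), h.s0 (by decide +kernel), h.s0 (by decide +kernel), h.s0 (by decide +kernel)⟩

theorem w47 : (∀ (t u : K) (z : G), x 39 u * (x 47 t * z) = x 47 t * (x 39 u * z)) ∧
    (∀ (t u : K) (z : G), x 45 u * (x 47 t * z) = x 47 t * (x 45 u * z)) ∧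
    (∀ (t u : K) (z : G), x 35 u * (x 47 t * z) = x 47 t * (x 35 u * z)) ∧
    (∀ (t u : K) (z : G), x 31 u * (x 47 t * z) = x 47 t * (x 31 u * z)) ∧
    (∀ (t u : K) (z : G), x 40 u * (x 47 t * z) = x 47 t * (x 40 u * z)) ∧
    (∀ (t u : K) (z : G), x 46 u * (x 47 t * z) = x 47 t * (x 46 u * z)) ∧
    (∀ (t u : K) (z : G), x 37 u * (x 47 t * z) = x 47 t * (x 37 u * z)) ∧
    (∀ (t u : K) (z : G), x 32 u * (x 47 t * z) = x 47 t * (x 32 u * z)) ∧
    (∀ (t u : K) (z : G), x 27 u * (x 47 t * z) = x 47 t * (x 27 u * z)) ∧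
    (∀ (t u : K) (z : G), x 25 u * (x 47 t * z) = x 47 t * (x 25 u * z)) ∧
    (∀ (t u : K) (z : G), x 28 u * (x 47 t * z) = x 47 t * (x 28 u * z)) ∧
    (∀ (t u : K) (z : G), x 30 u * (x 47 t * z) = x 47 t * (x 30 u * z)) :=
  ⟨h.s0 (by decide +kernel), h.s0 (by decide +kernel), h.s0 (by decide +kernel), h.s0 (by decide +kernel), h.s0 (by decide +kernel), h.s0 (by decide +kernel), h.s0 (by decide +kernel), h.s0 (by decide +kernel), h.s0 (by decide +kernel), h.s0 (by decide +kernel), h.s0 (by decide +kernel), h.s0 (by decide +kernel)⟩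

theorem w39 : (∀ (t u : K) (z : G), x 45 u * (x 39 t * z) = x 39 t * (x 45 u * z)) ∧
    (∀ (t u : K) (z : G), x 35 u * (x 39 t * z) = x 39 t * (x 35 u * z)) ∧
    (∀ (t u : K) (z : G), x 31 u * (x 39 t * z) = x 39 t * (x 31 u * z)) ∧
    (∀ (t u : K) (z : G), x 40 u * (x 39 t * z) = x 39 t * (x 40 u * z)) ∧
    (∀ (t u : K) (z : G), x 46 u * (x 39 t * z) = x 39 t * (x 46 u * z)) ∧
    (∀ (t u : K) (z : G), x 37 u * (x 39 t * z) = x 39 t * (x 37 u * z)) ∧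
    (∀ (t u : K) (z : G), x 32 u * (x 39 t * z) = x 39 t * (x 32 u * z)) ∧
    (∀ (t u : K) (z : G), x 27 u * (x 39 t * z) = x 39 t * (x 27 u * (x 40 (t * u) * z))) ∧
    (∀ (t u : K) (z : G), x 25 u * (x 39 t * z) = x 39 t * (x 25 u * z)) ∧
    (∀ (t u : K) (z : G), x 28 u * (x 39 t * z) = x 39 t * (x 28 u * z)) ∧
    (∀ (t u : K) (z : G), x 30 u * (x 39 t * z) = x 39 t * (x 30 u * z)) :=
  ⟨h.s0 (by decide +kernel), h.s0 (by decide +kernel), h.s0 (by decide +kernel), h.s0 (by decide +kernel), h.s0 (by decide +kernel), h.s0 (by decide +kernel), h.s0 (by decide +kernel), h.s1 (by decide +kernel), h.s0 (by decide +kernel), h.s0 (by decide +kernel), h.s0 (by decide +kernel)⟩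

theorem w45 : (∀ (t u : K) (z : G), x 35 u * (x 45 t * z) = x 45 t * (x 35 u * z)) ∧
    (∀ (t u : K) (z : G), x 31 u * (x 45 t * z) = x 45 t * (x 31 u * z)) ∧
    (∀ (t u : K) (z : G), x 40 u * (x 45 t * z) = x 45 t * (x 40 u * z)) ∧
    (∀ (t u : K) (z : G), x 46 u * (x 45 t * z) = x 45 t * (x 46 u * z)) ∧
    (∀ (t u : K) (z : G), x 37 u * (x 45 t * z) = x 45 t * (x 37 u * z)) ∧
    (∀ (t u : K) (z : G), x 32 u * (x 45 t * z) = x 45 t * (x 32 u * z)) ∧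
    (∀ (t u : K) (z : G), x 27 u * (x 45 t * z) = x 45 t * (x 27 u * z)) ∧
    (∀ (t u : K) (z : G), x 25 u * (x 45 t * z) = x 45 t * (x 25 u * (x 46 (t * u) * z))) ∧
    (∀ (t u : K) (z : G), x 28 u * (x 45 t * z) = x 45 t * (x 28 u * z)) ∧
    (∀ (t u : K) (z : G), x 30 u * (x 45 t * z) = x 45 t * (x 30 u * z)) :=
  ⟨h.s0 (by decide +kernel), h.s0 (by decide +kernel), h.s0 (by decide +kernel), h.s0 (by decide +kernel), h.s0 (by decide +kernel), h.s0 (by decide +kernel), h.s0 (by decide +kernel), h.s1 (by decide +kernel), h.s0 (by decide +kernel), h.s0 (by decide +kernel)⟩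

theorem w35 : (∀ (t u : K) (z : G), x 31 u * (x 35 t * z) = x 35 t * (x 31 u * (x 40 (t * u) * (x 46 (t ^ 2 * u) * z)))) ∧
    (∀ (t u : K) (z : G), x 40 u * (x 35 t * z) = x 35 t * (x 40 u * z)) ∧
    (∀ (t u : K) (z : G), x 46 u * (x 35 t * z) = x 35 t * (x 46 u * z)) ∧
    (∀ (t u : K) (z : G), x 37 u * (x 35 t * z) = x 35 t * (x 37 u * z)) ∧
    (∀ (t u : K) (z : G), x 32 u * (x 35 t * z) = x 35 t * (x 32 u * z)) ∧
    (∀ (t u : K) (z : G), x 27 u * (x 35 t * z) = x 35 t * (x 27 u * (x 37 (t * u) * z))) ∧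
    (∀ (t u : K) (z : G), x 25 u * (x 35 t * z) = x 35 t * (x 25 u * z)) ∧
    (∀ (t u : K) (z : G), x 28 u * (x 35 t * z) = x 35 t * (x 28 u * z)) ∧
    (∀ (t u : K) (z : G), x 30 u * (x 35 t * z) = x 35 t * (x 30 u * z)) :=
  ⟨h.s2 (by decide +kernel), h.s0 (by decide +kernel), h.s0 (by decide +kernel), h.s0 (by decide +kernel), h.s0 (by decide +kernel), h.s1 (by decide +kernel), h.s0 (by decide +kernel), h.s0 (by decide +kernel), h.s0 (by decide +kernel)⟩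

theorem w31 : (∀ (t u : K) (z : G), x 40 u * (x 31 t * z) = x 31 t * (x 40 u * z)) ∧
    (∀ (t u : K) (z : G), x 46 u * (x 31 t * z) = x 31 t * (x 46 u * z)) ∧
    (∀ (t u : K) (z : G), x 37 u * (x 31 t * z) = x 31 t * (x 37 u * z)) ∧
    (∀ (t u : K) (z : G), x 32 u * (x 31 t * z) = x 31 t * (x 32 u * z)) ∧
    (∀ (t u : K) (z : G), x 27 u * (x 31 t * z) = x 31 t * (x 27 u * z)) ∧
    (∀ (t u : K) (z : G), x 25 u * (x 31 t * z) = x 31 t * (x 25 u * (x 32 (t * u) * z))) ∧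
    (∀ (t u : K) (z : G), x 28 u * (x 31 t * z) = x 31 t * (x 28 u * z)) ∧
    (∀ (t u : K) (z : G), x 30 u * (x 31 t * z) = x 31 t * (x 30 u * z)) :=
  ⟨h.s0 (by decide +kernel), h.s0 (by decide +kernel), h.s0 (by decide +kernel), h.s0 (by decide +kernel), h.s0 (by decide +kernel), h.s1 (by decide +kernel), h.s0 (by decide +kernel), h.s0 (by decide +kernel)⟩

theorem w40 : (∀ (t u : K) (z : G), x 46 u * (x 40 t * z) = x 40 t * (x 46 u * z)) ∧
    (∀ (t u : K) (z : G), x 37 u * (x 40 t * z) = x 40 t * (x 37 u * z)) ∧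
    (∀ (t u : K) (z : G), x 32 u * (x 40 t * z) = x 40 t * (x 32 u * z)) ∧
    (∀ (t u : K) (z : G), x 27 u * (x 40 t * z) = x 40 t * (x 27 u * z)) ∧
    (∀ (t u : K) (z : G), x 25 u * (x 40 t * z) = x 40 t * (x 25 u * z)) ∧
    (∀ (t u : K) (z : G), x 28 u * (x 40 t * z) = x 40 t * (x 28 u * z)) ∧
    (∀ (t u : K) (z : G), x 30 u * (x 40 t * z) = x 40 t * (x 30 u * z)) :=
  ⟨h.s0 (by decide +kernel), h.s0 (by decide +kernel), h.s0 (by decide +kernel), h.s0 (by decide +kernel), h.s0 (by decide +kernel), h.s0 (by decide +kernel), h.s0 (by decide +kernel)⟩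

theorem w46 : (∀ (t u : K) (z : G), x 37 u * (x 46 t * z) = x 46 t * (x 37 u * z)) ∧
    (∀ (t u : K) (z : G), x 32 u * (x 46 t * z) = x 46 t * (x 32 u * z)) ∧
    (∀ (t u : K) (z : G), x 27 u * (x 46 t * z) = x 46 t * (x 27 u * z)) ∧
    (∀ (t u : K) (z : G), x 25 u * (x 46 t * z) = x 46 t * (x 25 u * z)) ∧
    (∀ (t u : K) (z : G), x 28 u * (x 46 t * z) = x 46 t * (x 28 u * z)) ∧
    (∀ (t u : K) (z : G), x 30 u * (x 46 t * z) = x 46 t * (x 30 u * z)) :=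
  ⟨h.s0 (by decide +kernel), h.s0 (by decide +kernel), h.s0 (by decide +kernel), h.s0 (by decide +kernel), h.s0 (by decide +kernel), h.s0 (by decide +kernel)⟩

theorem w37 : (∀ (t u : K) (z : G), x 32 u * (x 37 t * z) = x 37 t * (x 32 u * z)) ∧
    (∀ (t u : K) (z : G), x 27 u * (x 37 t * z) = x 37 t * (x 27 u * z)) ∧
    (∀ (t u : K) (z : G), x 25 u * (x 37 t * z) = x 37 t * (x 25 u * z)) ∧
    (∀ (t u : K) (z : G), x 28 u * (x 37 t * z) = x 37 t * (x 28 u * z)) ∧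
    (∀ (t u : K) (z : G), x 30 u * (x 37 t * z) = x 37 t * (x 30 u * z)) :=
  ⟨h.s0 (by decide +kernel), h.s0 (by decide +kernel), h.s0 (by decide +kernel), h.s0 (by decide +kernel), h.s0 (by decide +kernel)⟩

theorem w32 : (∀ (t u : K) (z : G), x 27 u * (x 32 t * z) = x 32 t * (x 27 u * z)) ∧
    (∀ (t u : K) (z : G), x 25 u * (x 32 t * z) = x 32 t * (x 25 u * z)) ∧
    (∀ (t u : K) (z : G), x 28 u * (x 32 t * z) = x 32 t * (x 28 u * z)) ∧
    (∀ (t u : K) (z : G), x 30 u * (x 32 t * z) = x 32 t * (x 30 u * z)) :=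
  ⟨h.s0 (by decide +kernel), h.s0 (by decide +kernel), h.s0 (by decide +kernel), h.s0 (by decide +kernel)⟩

theorem w27 : (∀ (t u : K) (z : G), x 25 u * (x 27 t * z) = x 27 t * (x 25 u * (x 28 (t * u) * (x 30 (t ^ 2 * u) * z)))) ∧
    (∀ (t u : K) (z : G), x 28 u * (x 27 t * z) = x 27 t * (x 28 u * z)) ∧
    (∀ (t u : K) (z : G), x 30 u * (x 27 t * z) = x 27 t * (x 30 u * z)) :=
  ⟨h.s2 (by decide +kernel), h.s0 (by decide +kernel), h.s0 (by decide +kernel)⟩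

theorem w25 : (∀ (t u : K) (z : G), x 28 u * (x 25 t * z) = x 25 t * (x 28 u * z)) ∧
    (∀ (t u : K) (z : G), x 30 u * (x 25 t * z) = x 25 t * (x 30 u * z)) :=
  ⟨h.s0 (by decide +kernel), h.s0 (by decide +kernel)⟩

theorem w28 : (∀ (t u : K) (z : G), x 30 u * (x 28 t * z) = x 28 t * (x 30 u * z)) :=
  h.s0 (by decide +kernel)

end FR

/-! ### products of one-parameter families -/

variable {L : Type*} [Group L]

inductive Gam : List (K → L) → L → Prop
  | nil : Gam [] 1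
  | cons {γ : K → L} {r : List (K → L)} (t : K) {n : L} : Gam r n → Gam (γ :: r) (γ t * n)

def Good : List (K → L) → Prop
  | [] => True
  | γ :: r => γ 0 = 1 ∧ (∀ δ ∈ γ :: r, ∀ u t, Gam (γ :: r) (δ u * γ t)) ∧ Good r

theorem Good.one : ∀ {l : List (K → L)}, Good l → Gam l 1
  | [], _ => .nil
  | γ :: _, h => by have := Gam.cons (γ := γ) 0 h.2.2.one; rwa [h.1, one_mul] at this

theorem Good.mul : ∀ {l : List (K → L)}, Good l → ∀ {a b}, Gam l a → Gam l b → Gam l (a * b)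
  | [], _, _, _, .nil, .nil => by rw [one_mul]; exact .nil
  | γ :: r, h, a, _, ha, .cons t (n := n) hn => by
    have k1 : ∀ {w m}, Gam (γ :: r) w → Gam r m → Gam (γ :: r) (w * m) := by
      intro w m hw hm
      cases hw with
      | cons s hw => rw [mul_assoc]; exact .cons s (h.2.2.mul hw hm)
    have k2 : ∀ {l w}, Gam l w → (∀ δ ∈ l, δ ∈ γ :: r) → ∀ t, Gam (γ :: r) (w * γ t) := by
      intro l w hw
      induction hw with
      | nil => intro _ t; simpa using Gam.cons (γ := γ) t h.2.2.one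
      | @cons δ l s m _ ih =>
        intro hl t
        have := ih (fun δ hδ => hl δ (List.mem_cons_of_mem _ hδ)) t
        rw [mul_assoc]
        generalize m * γ t = y at this
        cases this with
        | cons t' hm' =>
          rw [← mul_assoc]
          exact k1 (h.2.1 δ (hl δ List.mem_cons_self) s t') hm'
    rw [← mul_assoc]
    exact k1 (k2 ha (fun _ => id) t) hn

end CL.Oct.M1
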