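/-
The octagon relations inside a group with the relations of `F₄` in characteristic two.
-/
import Cfsg.Agent.Oct.M1a
import Cfsg.Agent.Oct.U1

set_option autoImplicit false
set_option linter.unusedSimpArgs false
set_option linter.unusedSectionVars false
set_option linter.unusedTactic false
set_option linter.unreachableTactic false
set_option maxRecDepth 20000

namespace CL.Oct.M1

open UO

variable {K : Type*} [Field K] [CharP K 2] {G : Type*} [Group G]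

/-- the parameter attached to a square root `θ` of the inverse Frobenius map -/
def par (θ : K ≃+* K) (hsq : ∀ t, θ (θ t) ^ 2 = t) : Par K where
  σ := (frobenius K 2).comp (θ : K →+* K)
  sq t := by simp [frobenius_def, hsq]

@[simp] theorem par_σ (θ : K ≃+* K) (hsq : ∀ t, θ (θ t) ^ 2 = t) (t : K) : (par θ hsq).σ t = θ t ^ 2 := rfl

variable (x : ℕ → K → G) (θ : K ≃+* K)

def X1 (t : K) : G := x 33 (θ t) * x 24 t
def Y2 (t : K) : G := x 34 (θ t) * x 26 t * x 36 (t * θ t)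
def X2 (t : K) : G := x 36 (θ t) * x 42 t
def X3 (t : K) : G := x 38 (θ t) * x 43 t
def Y4 (t : K) : G := x 29 (θ t) * x 41 t * x 44 (t * θ t)
def X4 (t : K) : G := x 44 (θ t) * x 47 t
def X5 (t : K) : G := x 39 (θ t) * x 45 t
def Y6 (t : K) : G := x 35 (θ t) * x 31 t * x 40 (t * θ t)
def X6 (t : K) : G := x 40 (θ t) * x 46 t
def X7 (t : K) : G := x 37 (θ t) * x 32 t
def Y8 (t : K) : G := x 27 (θ t) * x 25 t * x 28 (t * θ t)
def X8 (t : K) : G := x 28 (θ t) * x 30 t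

variable (hsq : ∀ t, θ (θ t) ^ 2 = t)

/-- the value of the normal form -/
def fW (a : UO (par θ hsq)) : G :=
  X1 x θ a.a1 * (Y2 x θ a.b2 * (X2 x θ a.a2 * (X3 x θ a.a3 * (Y4 x θ a.b4 * (X4 x θ a.a4 * (X5 x θ a.a5 * (Y6 x θ a.b6 * (X6 x θ a.a6 * (X7 x θ a.a7 * (Y8 x θ a.b8 * (X8 x θ a.a8)))))))))))

variable {x θ} (h : FR x)
include h

theorem r_x1_x1 (u t : K) : fW x θ hsq (x1 u * x1 t) = X1 x θ u * X1 x θ t := by
  simp only [X1, Y2, X2, X3, Y4, X4, X5, Y6, X6, X7, Y8, X8, ← mul_assoc]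
  repeat refine h.mv ?_
  refine h.mv1 fun z => ?_
  simp [fW, X1, Y2, X2, X3, Y4, X4, X5, Y6, X6, X7, Y8, X8, h.zero, hsq, -mul_eq_right]
  simp only [mul_assoc, h.mg, CharTwo.add_self_eq_zero, h.zero, one_mul, h.w33, h.w24]
  repeat' first | rfl | refine h.z0 ?_ ?_
  all_goals grind

theorem r_y2_x1 (u t : K) : fW x θ hsq (y2 u * x1 t) = Y2 x θ u * X1 x θ t := by
  simp only [X1, Y2, X2, X3, Y4, X4, X5, Y6, X6, X7, Y8, X8, ← mul_assoc]
  repeat refine h.mv ?_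
  refine h.mv1 fun z => ?_
  simp [fW, X1, Y2, X2, X3, Y4, X4, X5, Y6, X6, X7, Y8, X8, h.zero, hsq, -mul_eq_right]
  simp only [mul_assoc, h.mg, CharTwo.add_self_eq_zero, h.zero, one_mul, h.w33, h.w24, h.w34, h.w26, h.w36, h.w42]
  repeat' first | rfl | refine h.z0 ?_ ?_
  all_goals grind

theorem r_x2_x1 (u t : K) : fW x θ hsq (x2 u * x1 t) = X2 x θ u * X1 x θ t := by
  simp only [X1, Y2, X2, X3, Y4, X4, X5, Y6, X6, X7, Y8, X8, ← mul_assoc]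
  repeat refine h.mv ?_
  refine h.mv1 fun z => ?_
  simp [fW, X1, Y2, X2, X3, Y4, X4, X5, Y6, X6, X7, Y8, X8, h.zero, hsq, -mul_eq_right]
  simp only [mul_assoc, h.mg, CharTwo.add_self_eq_zero, h.zero, one_mul, h.w33, h.w24, h.w34, h.w26, h.w36, h.w42]
  repeat' first | rfl | refine h.z0 ?_ ?_
  all_goals grind

theorem r_x3_x1 (u t : K) : fW x θ hsq (x3 u * x1 t) = X3 x θ u * X1 x θ t := by
  simp only [X1, Y2, X2, X3, Y4, X4, X5, Y6, X6, X7, Y8, X8, ← mul_assoc]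
  repeat refine h.mv ?_
  refine h.mv1 fun z => ?_
  simp [fW, X1, Y2, X2, X3, Y4, X4, X5, Y6, X6, X7, Y8, X8, h.zero, hsq, -mul_eq_right]
  simp only [mul_assoc, h.mg, CharTwo.add_self_eq_zero, h.zero, one_mul, h.w33, h.w24, h.w34, h.w26, h.w36, h.w42, h.w38, h.w43]
  repeat' first | rfl | refine h.z0 ?_ ?_
  all_goals grind

theorem r_y4_x1 (u t : K) : fW x θ hsq (y4 u * x1 t) = Y4 x θ u * X1 x θ t := by
  simp only [X1, Y2, X2, X3, Y4, X4, X5, Y6, X6, X7, Y8, X8, ← mul_assoc]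
  repeat refine h.mv ?_
  refine h.mv1 fun z => ?_
  simp [fW, X1, Y2, X2, X3, Y4, X4, X5, Y6, X6, X7, Y8, X8, h.zero, hsq, -mul_eq_right]
  simp only [mul_assoc, h.mg, CharTwo.add_self_eq_zero, h.zero, one_mul, h.w33, h.w24, h.w34, h.w26, h.w36, h.w42, h.w38, h.w43, h.w29, h.w41, h.w44, h.w47]
  repeat' first | rfl | refine h.z0 ?_ ?_
  all_goals grind

theorem r_x4_x1 (u t : K) : fW x θ hsq (x4 u * x1 t) = X4 x θ u * X1 x θ t := by
  simp only [X1, Y2, X2, X3, Y4, X4, X5, Y6, X6, X7, Y8, X8, ← mul_assoc]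
  repeat refine h.mv ?_
  refine h.mv1 fun z => ?_
  simp [fW, X1, Y2, X2, X3, Y4, X4, X5, Y6, X6, X7, Y8, X8, h.zero, hsq, -mul_eq_right]
  simp only [mul_assoc, h.mg, CharTwo.add_self_eq_zero, h.zero, one_mul, h.w33, h.w24, h.w34, h.w26, h.w36, h.w42, h.w38, h.w43, h.w29, h.w41, h.w44, h.w47]
  repeat' first | rfl | refine h.z0 ?_ ?_
  all_goals grind

theorem r_x5_x1 (u t : K) : fW x θ hsq (x5 u * x1 t) = X5 x θ u * X1 x θ t := by
  simp only [X1, Y2, X2, X3, Y4, X4, X5, Y6, X6, X7, Y8, X8, ← mul_assoc]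
  repeat refine h.mv ?_
  refine h.mv1 fun z => ?_
  simp [fW, X1, Y2, X2, X3, Y4, X4, X5, Y6, X6, X7, Y8, X8, h.zero, hsq, -mul_eq_right]
  simp only [mul_assoc, h.mg, CharTwo.add_self_eq_zero, h.zero, one_mul, h.w33, h.w24, h.w34, h.w26, h.w36, h.w42, h.w38, h.w43, h.w29, h.w41, h.w44, h.w47, h.w39, h.w45]
  repeat' first | rfl | refine h.z0 ?_ ?_
  all_goals grind

theorem r_y6_x1 (u t : K) : fW x θ hsq (y6 u * x1 t) = Y6 x θ u * X1 x θ t := by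
  simp only [X1, Y2, X2, X3, Y4, X4, X5, Y6, X6, X7, Y8, X8, ← mul_assoc]
  repeat refine h.mv ?_
  refine h.mv1 fun z => ?_
  simp [fW, X1, Y2, X2, X3, Y4, X4, X5, Y6, X6, X7, Y8, X8, h.zero, hsq, -mul_eq_right]
  simp only [mul_assoc, h.mg, CharTwo.add_self_eq_zero, h.zero, one_mul, h.w33, h.w24, h.w34, h.w26, h.w36, h.w42, h.w38, h.w43, h.w29, h.w41, h.w44, h.w47, h.w39, h.w45, h.w35, h.w31, h.w40, h.w46]
  repeat' first | rfl | refine h.z0 ?_ ?_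
  all_goals grind

theorem r_x6_x1 (u t : K) : fW x θ hsq (x6 u * x1 t) = X6 x θ u * X1 x θ t := by
  simp only [X1, Y2, X2, X3, Y4, X4, X5, Y6, X6, X7, Y8, X8, ← mul_assoc]
  repeat refine h.mv ?_
  refine h.mv1 fun z => ?_
  simp [fW, X1, Y2, X2, X3, Y4, X4, X5, Y6, X6, X7, Y8, X8, h.zero, hsq, -mul_eq_right]
  simp only [mul_assoc, h.mg, CharTwo.add_self_eq_zero, h.zero, one_mul, h.w33, h.w24, h.w34, h.w26, h.w36, h.w42, h.w38, h.w43, h.w29, h.w41, h.w44, h.w47, h.w39, h.w45, h.w35, h.w31, h.w40, h.w46]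
  repeat' first | rfl | refine h.z0 ?_ ?_
  all_goals grind

theorem r_x7_x1 (u t : K) : fW x θ hsq (x7 u * x1 t) = X7 x θ u * X1 x θ t := by
  simp only [X1, Y2, X2, X3, Y4, X4, X5, Y6, X6, X7, Y8, X8, ← mul_assoc]
  repeat refine h.mv ?_
  refine h.mv1 fun z => ?_
  simp [fW, X1, Y2, X2, X3, Y4, X4, X5, Y6, X6, X7, Y8, X8, h.zero, hsq, -mul_eq_right]
  simp only [mul_assoc, h.mg, CharTwo.add_self_eq_zero, h.zero, one_mul, h.w33, h.w24, h.w34, h.w26, h.w36, h.w42, h.w38, h.w43, h.w29, h.w41, h.w44, h.w47, h.w39, h.w45, h.w35, h.w31, h.w40, h.w46, h.w37, h.w32]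
  repeat' first | rfl | refine h.z0 ?_ ?_
  all_goals grind

set_option maxHeartbeats 4000000 in
theorem r_y8_x1 (u t : K) : fW x θ hsq (y8 u * x1 t) = Y8 x θ u * X1 x θ t := by
  simp only [X1, Y2, X2, X3, Y4, X4, X5, Y6, X6, X7, Y8, X8, ← mul_assoc]
  repeat refine h.mv ?_
  refine h.mv1 fun z => ?_
  simp [fW, X1, Y2, X2, X3, Y4, X4, X5, Y6, X6, X7, Y8, X8, h.zero, hsq, -mul_eq_right]
  simp only [mul_assoc, h.mg, CharTwo.add_self_eq_zero, h.zero, one_mul, h.w33, h.w24, h.w34, h.w26, h.w36, h.w42, h.w38, h.w43, h.w29, h.w41, h.w44, h.w47, h.w39, h.w45, h.w35, h.w31, h.w40, h.w46, h.w37, h.w32, h.w27, h.w25, h.w28]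
  repeat' first | rfl | refine h.z0 ?_ ?_
  all_goals grind

set_option maxHeartbeats 4000000 in
theorem r_x8_x1 (u t : K) : fW x θ hsq (x8 u * x1 t) = X8 x θ u * X1 x θ t := by
  simp only [X1, Y2, X2, X3, Y4, X4, X5, Y6, X6, X7, Y8, X8, ← mul_assoc]
  repeat refine h.mv ?_
  refine h.mv1 fun z => ?_
  simp [fW, X1, Y2, X2, X3, Y4, X4, X5, Y6, X6, X7, Y8, X8, h.zero, hsq, -mul_eq_right]
  simp only [mul_assoc, h.mg, CharTwo.add_self_eq_zero, h.zero, one_mul, h.w33, h.w24, h.w34, h.w26, h.w36, h.w42, h.w38, h.w43, h.w29, h.w41, h.w44, h.w47, h.w39, h.w45, h.w35, h.w31, h.w40, h.w46, h.w37, h.w32, h.w27, h.w25, h.w28]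
  repeat' first | rfl | refine h.z0 ?_ ?_
  all_goals grind

theorem r_y2_y2 (u t : K) : fW x θ hsq (y2 u * y2 t) = Y2 x θ u * Y2 x θ t := by
  simp only [X1, Y2, X2, X3, Y4, X4, X5, Y6, X6, X7, Y8, X8, ← mul_assoc]
  repeat refine h.mv ?_
  refine h.mv1 fun z => ?_
  simp [fW, X1, Y2, X2, X3, Y4, X4, X5, Y6, X6, X7, Y8, X8, h.zero, hsq, -mul_eq_right]
  simp only [mul_assoc, h.mg, CharTwo.add_self_eq_zero, h.zero, one_mul, h.w34, h.w26, h.w36, h.w42]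
  repeat' first | rfl | refine h.z0 ?_ ?_
  all_goals grind

theorem r_x2_y2 (u t : K) : fW x θ hsq (x2 u * y2 t) = X2 x θ u * Y2 x θ t := by
  simp only [X1, Y2, X2, X3, Y4, X4, X5, Y6, X6, X7, Y8, X8, ← mul_assoc]
  repeat refine h.mv ?_
  refine h.mv1 fun z => ?_
  simp [fW, X1, Y2, X2, X3, Y4, X4, X5, Y6, X6, X7, Y8, X8, h.zero, hsq, -mul_eq_right]
  simp only [mul_assoc, h.mg, CharTwo.add_self_eq_zero, h.zero, one_mul, h.w34, h.w26, h.w36, h.w42]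
  repeat' first | rfl | refine h.z0 ?_ ?_
  all_goals grind

theorem r_x3_y2 (u t : K) : fW x θ hsq (x3 u * y2 t) = X3 x θ u * Y2 x θ t := by
  simp only [X1, Y2, X2, X3, Y4, X4, X5, Y6, X6, X7, Y8, X8, ← mul_assoc]
  repeat refine h.mv ?_
  refine h.mv1 fun z => ?_
  simp [fW, X1, Y2, X2, X3, Y4, X4, X5, Y6, X6, X7, Y8, X8, h.zero, hsq, -mul_eq_right]
  simp only [mul_assoc, h.mg, CharTwo.add_self_eq_zero, h.zero, one_mul, h.w34, h.w26, h.w36, h.w42, h.w38, h.w43]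
  repeat' first | rfl | refine h.z0 ?_ ?_
  all_goals grind

theorem r_y4_y2 (u t : K) : fW x θ hsq (y4 u * y2 t) = Y4 x θ u * Y2 x θ t := by
  simp only [X1, Y2, X2, X3, Y4, X4, X5, Y6, X6, X7, Y8, X8, ← mul_assoc]
  repeat refine h.mv ?_
  refine h.mv1 fun z => ?_
  simp [fW, X1, Y2, X2, X3, Y4, X4, X5, Y6, X6, X7, Y8, X8, h.zero, hsq, -mul_eq_right]
  simp only [mul_assoc, h.mg, CharTwo.add_self_eq_zero, h.zero, one_mul, h.w34, h.w26, h.w36, h.w42, h.w38, h.w43, h.w29, h.w41, h.w44, h.w47]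
  repeat' first | rfl | refine h.z0 ?_ ?_
  all_goals grind

theorem r_x4_y2 (u t : K) : fW x θ hsq (x4 u * y2 t) = X4 x θ u * Y2 x θ t := by
  simp only [X1, Y2, X2, X3, Y4, X4, X5, Y6, X6, X7, Y8, X8, ← mul_assoc]
  repeat refine h.mv ?_
  refine h.mv1 fun z => ?_
  simp [fW, X1, Y2, X2, X3, Y4, X4, X5, Y6, X6, X7, Y8, X8, h.zero, hsq, -mul_eq_right]
  simp only [mul_assoc, h.mg, CharTwo.add_self_eq_zero, h.zero, one_mul, h.w34, h.w26, h.w36, h.w42, h.w38, h.w43, h.w29, h.w41, h.w44, h.w47]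
  repeat' first | rfl | refine h.z0 ?_ ?_
  all_goals grind

theorem r_x5_y2 (u t : K) : fW x θ hsq (x5 u * y2 t) = X5 x θ u * Y2 x θ t := by
  simp only [X1, Y2, X2, X3, Y4, X4, X5, Y6, X6, X7, Y8, X8, ← mul_assoc]
  repeat refine h.mv ?_
  refine h.mv1 fun z => ?_
  simp [fW, X1, Y2, X2, X3, Y4, X4, X5, Y6, X6, X7, Y8, X8, h.zero, hsq, -mul_eq_right]
  simp only [mul_assoc, h.mg, CharTwo.add_self_eq_zero, h.zero, one_mul, h.w34, h.w26, h.w36, h.w42, h.w38, h.w43, h.w29, h.w41, h.w44, h.w47, h.w39, h.w45]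
  repeat' first | rfl | refine h.z0 ?_ ?_
  all_goals grind

theorem r_y6_y2 (u t : K) : fW x θ hsq (y6 u * y2 t) = Y6 x θ u * Y2 x θ t := by
  simp only [X1, Y2, X2, X3, Y4, X4, X5, Y6, X6, X7, Y8, X8, ← mul_assoc]
  repeat refine h.mv ?_
  refine h.mv1 fun z => ?_
  simp [fW, X1, Y2, X2, X3, Y4, X4, X5, Y6, X6, X7, Y8, X8, h.zero, hsq, -mul_eq_right]
  simp only [mul_assoc, h.mg, CharTwo.add_self_eq_zero, h.zero, one_mul, h.w34, h.w26, h.w36, h.w42, h.w38, h.w43, h.w29, h.w41, h.w44, h.w47, h.w39, h.w45, h.w35, h.w31, h.w40, h.w46]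
  repeat' first | rfl | refine h.z0 ?_ ?_
  all_goals grind

theorem r_x6_y2 (u t : K) : fW x θ hsq (x6 u * y2 t) = X6 x θ u * Y2 x θ t := by
  simp only [X1, Y2, X2, X3, Y4, X4, X5, Y6, X6, X7, Y8, X8, ← mul_assoc]
  repeat refine h.mv ?_
  refine h.mv1 fun z => ?_
  simp [fW, X1, Y2, X2, X3, Y4, X4, X5, Y6, X6, X7, Y8, X8, h.zero, hsq, -mul_eq_right]
  simp only [mul_assoc, h.mg, CharTwo.add_self_eq_zero, h.zero, one_mul, h.w34, h.w26, h.w36, h.w42, h.w38, h.w43, h.w29, h.w41, h.w44, h.w47, h.w39, h.w45, h.w35, h.w31, h.w40, h.w46]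
  repeat' first | rfl | refine h.z0 ?_ ?_
  all_goals grind

theorem r_x7_y2 (u t : K) : fW x θ hsq (x7 u * y2 t) = X7 x θ u * Y2 x θ t := by
  simp only [X1, Y2, X2, X3, Y4, X4, X5, Y6, X6, X7, Y8, X8, ← mul_assoc]
  repeat refine h.mv ?_
  refine h.mv1 fun z => ?_
  simp [fW, X1, Y2, X2, X3, Y4, X4, X5, Y6, X6, X7, Y8, X8, h.zero, hsq, -mul_eq_right]
  simp only [mul_assoc, h.mg, CharTwo.add_self_eq_zero, h.zero, one_mul, h.w34, h.w26, h.w36, h.w42, h.w38, h.w43, h.w29, h.w41, h.w44, h.w47, h.w39, h.w45, h.w35, h.w31, h.w40, h.w46, h.w37, h.w32]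
  repeat' first | rfl | refine h.z0 ?_ ?_
  all_goals grind

theorem r_y8_y2 (u t : K) : fW x θ hsq (y8 u * y2 t) = Y8 x θ u * Y2 x θ t := by
  simp only [X1, Y2, X2, X3, Y4, X4, X5, Y6, X6, X7, Y8, X8, ← mul_assoc]
  repeat refine h.mv ?_
  refine h.mv1 fun z => ?_
  simp [fW, X1, Y2, X2, X3, Y4, X4, X5, Y6, X6, X7, Y8, X8, h.zero, hsq, -mul_eq_right]
  simp only [mul_assoc, h.mg, CharTwo.add_self_eq_zero, h.zero, one_mul, h.w34, h.w26, h.w36, h.w42, h.w38, h.w43, h.w29, h.w41, h.w44, h.w47, h.w39, h.w45, h.w35, h.w31, h.w40, h.w46, h.w37, h.w32, h.w27, h.w25, h.w28]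
  repeat' first | rfl | refine h.z0 ?_ ?_
  all_goals grind

theorem r_x8_y2 (u t : K) : fW x θ hsq (x8 u * y2 t) = X8 x θ u * Y2 x θ t := by
  simp only [X1, Y2, X2, X3, Y4, X4, X5, Y6, X6, X7, Y8, X8, ← mul_assoc]
  repeat refine h.mv ?_
  refine h.mv1 fun z => ?_
  simp [fW, X1, Y2, X2, X3, Y4, X4, X5, Y6, X6, X7, Y8, X8, h.zero, hsq, -mul_eq_right]
  simp only [mul_assoc, h.mg, CharTwo.add_self_eq_zero, h.zero, one_mul, h.w34, h.w26, h.w36, h.w42, h.w38, h.w43, h.w29, h.w41, h.w44, h.w47, h.w39, h.w45, h.w35, h.w31, h.w40, h.w46, h.w37, h.w32, h.w27, h.w25, h.w28]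
  repeat' first | rfl | refine h.z0 ?_ ?_
  all_goals grind

theorem r_x2_x2 (u t : K) : fW x θ hsq (x2 u * x2 t) = X2 x θ u * X2 x θ t := by
  simp only [X1, Y2, X2, X3, Y4, X4, X5, Y6, X6, X7, Y8, X8, ← mul_assoc]
  repeat refine h.mv ?_
  refine h.mv1 fun z => ?_
  simp [fW, X1, Y2, X2, X3, Y4, X4, X5, Y6, X6, X7, Y8, X8, h.zero, hsq, -mul_eq_right]
  simp only [mul_assoc, h.mg, CharTwo.add_self_eq_zero, h.zero, one_mul, h.w34, h.w26, h.w36, h.w42]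
  repeat' first | rfl | refine h.z0 ?_ ?_
  all_goals grind

theorem r_x3_x2 (u t : K) : fW x θ hsq (x3 u * x2 t) = X3 x θ u * X2 x θ t := by
  simp only [X1, Y2, X2, X3, Y4, X4, X5, Y6, X6, X7, Y8, X8, ← mul_assoc]
  repeat refine h.mv ?_
  refine h.mv1 fun z => ?_
  simp [fW, X1, Y2, X2, X3, Y4, X4, X5, Y6, X6, X7, Y8, X8, h.zero, hsq, -mul_eq_right]
  simp only [mul_assoc, h.mg, CharTwo.add_self_eq_zero, h.zero, one_mul, h.w34, h.w26, h.w36, h.w42, h.w38, h.w43]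
  repeat' first | rfl | refine h.z0 ?_ ?_
  all_goals grind

theorem r_y4_x2 (u t : K) : fW x θ hsq (y4 u * x2 t) = Y4 x θ u * X2 x θ t := by
  simp only [X1, Y2, X2, X3, Y4, X4, X5, Y6, X6, X7, Y8, X8, ← mul_assoc]
  repeat refine h.mv ?_
  refine h.mv1 fun z => ?_
  simp [fW, X1, Y2, X2, X3, Y4, X4, X5, Y6, X6, X7, Y8, X8, h.zero, hsq, -mul_eq_right]
  simp only [mul_assoc, h.mg, CharTwo.add_self_eq_zero, h.zero, one_mul, h.w34, h.w26, h.w36, h.w42, h.w38, h.w43, h.w29, h.w41, h.w44, h.w47]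
  repeat' first | rfl | refine h.z0 ?_ ?_
  all_goals grind

theorem r_x4_x2 (u t : K) : fW x θ hsq (x4 u * x2 t) = X4 x θ u * X2 x θ t := by
  simp only [X1, Y2, X2, X3, Y4, X4, X5, Y6, X6, X7, Y8, X8, ← mul_assoc]
  repeat refine h.mv ?_
  refine h.mv1 fun z => ?_
  simp [fW, X1, Y2, X2, X3, Y4, X4, X5, Y6, X6, X7, Y8, X8, h.zero, hsq, -mul_eq_right]
  simp only [mul_assoc, h.mg, CharTwo.add_self_eq_zero, h.zero, one_mul, h.w34, h.w26, h.w36, h.w42, h.w38, h.w43, h.w29, h.w41, h.w44, h.w47]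
  repeat' first | rfl | refine h.z0 ?_ ?_
  all_goals grind

theorem r_x5_x2 (u t : K) : fW x θ hsq (x5 u * x2 t) = X5 x θ u * X2 x θ t := by
  simp only [X1, Y2, X2, X3, Y4, X4, X5, Y6, X6, X7, Y8, X8, ← mul_assoc]
  repeat refine h.mv ?_
  refine h.mv1 fun z => ?_
  simp [fW, X1, Y2, X2, X3, Y4, X4, X5, Y6, X6, X7, Y8, X8, h.zero, hsq, -mul_eq_right]
  simp only [mul_assoc, h.mg, CharTwo.add_self_eq_zero, h.zero, one_mul, h.w34, h.w26, h.w36, h.w42, h.w38, h.w43, h.w29, h.w41, h.w44, h.w47, h.w39, h.w45]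
  repeat' first | rfl | refine h.z0 ?_ ?_
  all_goals grind

theorem r_y6_x2 (u t : K) : fW x θ hsq (y6 u * x2 t) = Y6 x θ u * X2 x θ t := by
  simp only [X1, Y2, X2, X3, Y4, X4, X5, Y6, X6, X7, Y8, X8, ← mul_assoc]
  repeat refine h.mv ?_
  refine h.mv1 fun z => ?_
  simp [fW, X1, Y2, X2, X3, Y4, X4, X5, Y6, X6, X7, Y8, X8, h.zero, hsq, -mul_eq_right]
  simp only [mul_assoc, h.mg, CharTwo.add_self_eq_zero, h.zero, one_mul, h.w34, h.w26, h.w36, h.w42, h.w38, h.w43, h.w29, h.w41, h.w44, h.w47, h.w39, h.w45, h.w35, h.w31, h.w40, h.w46]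
  repeat' first | rfl | refine h.z0 ?_ ?_
  all_goals grind

theorem r_x6_x2 (u t : K) : fW x θ hsq (x6 u * x2 t) = X6 x θ u * X2 x θ t := by
  simp only [X1, Y2, X2, X3, Y4, X4, X5, Y6, X6, X7, Y8, X8, ← mul_assoc]
  repeat refine h.mv ?_
  refine h.mv1 fun z => ?_
  simp [fW, X1, Y2, X2, X3, Y4, X4, X5, Y6, X6, X7, Y8, X8, h.zero, hsq, -mul_eq_right]
  simp only [mul_assoc, h.mg, CharTwo.add_self_eq_zero, h.zero, one_mul, h.w34, h.w26, h.w36, h.w42, h.w38, h.w43, h.w29, h.w41, h.w44, h.w47, h.w39, h.w45, h.w35, h.w31, h.w40, h.w46]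
  repeat' first | rfl | refine h.z0 ?_ ?_
  all_goals grind

theorem r_x7_x2 (u t : K) : fW x θ hsq (x7 u * x2 t) = X7 x θ u * X2 x θ t := by
  simp only [X1, Y2, X2, X3, Y4, X4, X5, Y6, X6, X7, Y8, X8, ← mul_assoc]
  repeat refine h.mv ?_
  refine h.mv1 fun z => ?_
  simp [fW, X1, Y2, X2, X3, Y4, X4, X5, Y6, X6, X7, Y8, X8, h.zero, hsq, -mul_eq_right]
  simp only [mul_assoc, h.mg, CharTwo.add_self_eq_zero, h.zero, one_mul, h.w34, h.w26, h.w36, h.w42, h.w38, h.w43, h.w29, h.w41, h.w44, h.w47, h.w39, h.w45, h.w35, h.w31, h.w40, h.w46, h.w37, h.w32]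
  repeat' first | rfl | refine h.z0 ?_ ?_
  all_goals grind

theorem r_y8_x2 (u t : K) : fW x θ hsq (y8 u * x2 t) = Y8 x θ u * X2 x θ t := by
  simp only [X1, Y2, X2, X3, Y4, X4, X5, Y6, X6, X7, Y8, X8, ← mul_assoc]
  repeat refine h.mv ?_
  refine h.mv1 fun z => ?_
  simp [fW, X1, Y2, X2, X3, Y4, X4, X5, Y6, X6, X7, Y8, X8, h.zero, hsq, -mul_eq_right]
  simp only [mul_assoc, h.mg, CharTwo.add_self_eq_zero, h.zero, one_mul, h.w34, h.w26, h.w36, h.w42, h.w38, h.w43, h.w29, h.w41, h.w44, h.w47, h.w39, h.w45, h.w35, h.w31, h.w40, h.w46, h.w37, h.w32, h.w27, h.w25, h.w28]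
  repeat' first | rfl | refine h.z0 ?_ ?_
  all_goals grind

theorem r_x8_x2 (u t : K) : fW x θ hsq (x8 u * x2 t) = X8 x θ u * X2 x θ t := by
  simp only [X1, Y2, X2, X3, Y4, X4, X5, Y6, X6, X7, Y8, X8, ← mul_assoc]
  repeat refine h.mv ?_
  refine h.mv1 fun z => ?_
  simp [fW, X1, Y2, X2, X3, Y4, X4, X5, Y6, X6, X7, Y8, X8, h.zero, hsq, -mul_eq_right]
  simp only [mul_assoc, h.mg, CharTwo.add_self_eq_zero, h.zero, one_mul, h.w34, h.w26, h.w36, h.w42, h.w38, h.w43, h.w29, h.w41, h.w44, h.w47, h.w39, h.w45, h.w35, h.w31, h.w40, h.w46, h.w37, h.w32, h.w27, h.w25, h.w28]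
  repeat' first | rfl | refine h.z0 ?_ ?_
  all_goals grind

theorem r_x3_x3 (u t : K) : fW x θ hsq (x3 u * x3 t) = X3 x θ u * X3 x θ t := by
  simp only [X1, Y2, X2, X3, Y4, X4, X5, Y6, X6, X7, Y8, X8, ← mul_assoc]
  repeat refine h.mv ?_
  refine h.mv1 fun z => ?_
  simp [fW, X1, Y2, X2, X3, Y4, X4, X5, Y6, X6, X7, Y8, X8, h.zero, hsq, -mul_eq_right]
  simp only [mul_assoc, h.mg, CharTwo.add_self_eq_zero, h.zero, one_mul, h.w38, h.w43]
  repeat' first | rfl | refine h.z0 ?_ ?_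
  all_goals grind

theorem r_y4_x3 (u t : K) : fW x θ hsq (y4 u * x3 t) = Y4 x θ u * X3 x θ t := by
  simp only [X1, Y2, X2, X3, Y4, X4, X5, Y6, X6, X7, Y8, X8, ← mul_assoc]
  repeat refine h.mv ?_
  refine h.mv1 fun z => ?_
  simp [fW, X1, Y2, X2, X3, Y4, X4, X5, Y6, X6, X7, Y8, X8, h.zero, hsq, -mul_eq_right]
  simp only [mul_assoc, h.mg, CharTwo.add_self_eq_zero, h.zero, one_mul, h.w38, h.w43, h.w29, h.w41, h.w44, h.w47]
  repeat' first | rfl | refine h.z0 ?_ ?_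
  all_goals grind

theorem r_x4_x3 (u t : K) : fW x θ hsq (x4 u * x3 t) = X4 x θ u * X3 x θ t := by
  simp only [X1, Y2, X2, X3, Y4, X4, X5, Y6, X6, X7, Y8, X8, ← mul_assoc]
  repeat refine h.mv ?_
  refine h.mv1 fun z => ?_
  simp [fW, X1, Y2, X2, X3, Y4, X4, X5, Y6, X6, X7, Y8, X8, h.zero, hsq, -mul_eq_right]
  simp only [mul_assoc, h.mg, CharTwo.add_self_eq_zero, h.zero, one_mul, h.w38, h.w43, h.w29, h.w41, h.w44, h.w47]
  repeat' first | rfl | refine h.z0 ?_ ?_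
  all_goals grind

theorem r_x5_x3 (u t : K) : fW x θ hsq (x5 u * x3 t) = X5 x θ u * X3 x θ t := by
  simp only [X1, Y2, X2, X3, Y4, X4, X5, Y6, X6, X7, Y8, X8, ← mul_assoc]
  repeat refine h.mv ?_
  refine h.mv1 fun z => ?_
  simp [fW, X1, Y2, X2, X3, Y4, X4, X5, Y6, X6, X7, Y8, X8, h.zero, hsq, -mul_eq_right]
  simp only [mul_assoc, h.mg, CharTwo.add_self_eq_zero, h.zero, one_mul, h.w38, h.w43, h.w29, h.w41, h.w44, h.w47, h.w39, h.w45]
  repeat' first | rfl | refine h.z0 ?_ ?_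
  all_goals grind

theorem r_y6_x3 (u t : K) : fW x θ hsq (y6 u * x3 t) = Y6 x θ u * X3 x θ t := by
  simp only [X1, Y2, X2, X3, Y4, X4, X5, Y6, X6, X7, Y8, X8, ← mul_assoc]
  repeat refine h.mv ?_
  refine h.mv1 fun z => ?_
  simp [fW, X1, Y2, X2, X3, Y4, X4, X5, Y6, X6, X7, Y8, X8, h.zero, hsq, -mul_eq_right]
  simp only [mul_assoc, h.mg, CharTwo.add_self_eq_zero, h.zero, one_mul, h.w38, h.w43, h.w29, h.w41, h.w44, h.w47, h.w39, h.w45, h.w35, h.w31, h.w40, h.w46]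
  repeat' first | rfl | refine h.z0 ?_ ?_
  all_goals grind

theorem r_x6_x3 (u t : K) : fW x θ hsq (x6 u * x3 t) = X6 x θ u * X3 x θ t := by
  simp only [X1, Y2, X2, X3, Y4, X4, X5, Y6, X6, X7, Y8, X8, ← mul_assoc]
  repeat refine h.mv ?_
  refine h.mv1 fun z => ?_
  simp [fW, X1, Y2, X2, X3, Y4, X4, X5, Y6, X6, X7, Y8, X8, h.zero, hsq, -mul_eq_right]
  simp only [mul_assoc, h.mg, CharTwo.add_self_eq_zero, h.zero, one_mul, h.w38, h.w43, h.w29, h.w41, h.w44, h.w47, h.w39, h.w45, h.w35, h.w31, h.w40, h.w46]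
  repeat' first | rfl | refine h.z0 ?_ ?_
  all_goals grind

theorem r_x7_x3 (u t : K) : fW x θ hsq (x7 u * x3 t) = X7 x θ u * X3 x θ t := by
  simp only [X1, Y2, X2, X3, Y4, X4, X5, Y6, X6, X7, Y8, X8, ← mul_assoc]
  repeat refine h.mv ?_
  refine h.mv1 fun z => ?_
  simp [fW, X1, Y2, X2, X3, Y4, X4, X5, Y6, X6, X7, Y8, X8, h.zero, hsq, -mul_eq_right]
  simp only [mul_assoc, h.mg, CharTwo.add_self_eq_zero, h.zero, one_mul, h.w38, h.w43, h.w29, h.w41, h.w44, h.w47, h.w39, h.w45, h.w35, h.w31, h.w40, h.w46, h.w37, h.w32]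
  repeat' first | rfl | refine h.z0 ?_ ?_
  all_goals grind

theorem r_y8_x3 (u t : K) : fW x θ hsq (y8 u * x3 t) = Y8 x θ u * X3 x θ t := by
  simp only [X1, Y2, X2, X3, Y4, X4, X5, Y6, X6, X7, Y8, X8, ← mul_assoc]
  repeat refine h.mv ?_
  refine h.mv1 fun z => ?_
  simp [fW, X1, Y2, X2, X3, Y4, X4, X5, Y6, X6, X7, Y8, X8, h.zero, hsq, -mul_eq_right]
  simp only [mul_assoc, h.mg, CharTwo.add_self_eq_zero, h.zero, one_mul, h.w38, h.w43, h.w29, h.w41, h.w44, h.w47, h.w39, h.w45, h.w35, h.w31, h.w40, h.w46, h.w37, h.w32, h.w27, h.w25, h.w28]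
  repeat' first | rfl | refine h.z0 ?_ ?_
  all_goals grind

theorem r_x8_x3 (u t : K) : fW x θ hsq (x8 u * x3 t) = X8 x θ u * X3 x θ t := by
  simp only [X1, Y2, X2, X3, Y4, X4, X5, Y6, X6, X7, Y8, X8, ← mul_assoc]
  repeat refine h.mv ?_
  refine h.mv1 fun z => ?_
  simp [fW, X1, Y2, X2, X3, Y4, X4, X5, Y6, X6, X7, Y8, X8, h.zero, hsq, -mul_eq_right]
  simp only [mul_assoc, h.mg, CharTwo.add_self_eq_zero, h.zero, one_mul, h.w38, h.w43, h.w29, h.w41, h.w44, h.w47, h.w39, h.w45, h.w35, h.w31, h.w40, h.w46, h.w37, h.w32, h.w27, h.w25, h.w28]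
  repeat' first | rfl | refine h.z0 ?_ ?_
  all_goals grind

theorem r_y4_y4 (u t : K) : fW x θ hsq (y4 u * y4 t) = Y4 x θ u * Y4 x θ t := by
  simp only [X1, Y2, X2, X3, Y4, X4, X5, Y6, X6, X7, Y8, X8, ← mul_assoc]
  repeat refine h.mv ?_
  refine h.mv1 fun z => ?_
  simp [fW, X1, Y2, X2, X3, Y4, X4, X5, Y6, X6, X7, Y8, X8, h.zero, hsq, -mul_eq_right]
  simp only [mul_assoc, h.mg, CharTwo.add_self_eq_zero, h.zero, one_mul, h.w29, h.w41, h.w44, h.w47]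
  repeat' first | rfl | refine h.z0 ?_ ?_
  all_goals grind

theorem r_x4_y4 (u t : K) : fW x θ hsq (x4 u * y4 t) = X4 x θ u * Y4 x θ t := by
  simp only [X1, Y2, X2, X3, Y4, X4, X5, Y6, X6, X7, Y8, X8, ← mul_assoc]
  repeat refine h.mv ?_
  refine h.mv1 fun z => ?_
  simp [fW, X1, Y2, X2, X3, Y4, X4, X5, Y6, X6, X7, Y8, X8, h.zero, hsq, -mul_eq_right]
  simp only [mul_assoc, h.mg, CharTwo.add_self_eq_zero, h.zero, one_mul, h.w29, h.w41, h.w44, h.w47]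
  repeat' first | rfl | refine h.z0 ?_ ?_
  all_goals grind

theorem r_x5_y4 (u t : K) : fW x θ hsq (x5 u * y4 t) = X5 x θ u * Y4 x θ t := by
  simp only [X1, Y2, X2, X3, Y4, X4, X5, Y6, X6, X7, Y8, X8, ← mul_assoc]
  repeat refine h.mv ?_
  refine h.mv1 fun z => ?_
  simp [fW, X1, Y2, X2, X3, Y4, X4, X5, Y6, X6, X7, Y8, X8, h.zero, hsq, -mul_eq_right]
  simp only [mul_assoc, h.mg, CharTwo.add_self_eq_zero, h.zero, one_mul, h.w29, h.w41, h.w44, h.w47, h.w39, h.w45]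
  repeat' first | rfl | refine h.z0 ?_ ?_
  all_goals grind

theorem r_y6_y4 (u t : K) : fW x θ hsq (y6 u * y4 t) = Y6 x θ u * Y4 x θ t := by
  simp only [X1, Y2, X2, X3, Y4, X4, X5, Y6, X6, X7, Y8, X8, ← mul_assoc]
  repeat refine h.mv ?_
  refine h.mv1 fun z => ?_
  simp [fW, X1, Y2, X2, X3, Y4, X4, X5, Y6, X6, X7, Y8, X8, h.zero, hsq, -mul_eq_right]
  simp only [mul_assoc, h.mg, CharTwo.add_self_eq_zero, h.zero, one_mul, h.w29, h.w41, h.w44, h.w47, h.w39, h.w45, h.w35, h.w31, h.w40, h.w46]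
  repeat' first | rfl | refine h.z0 ?_ ?_
  all_goals grind

theorem r_x6_y4 (u t : K) : fW x θ hsq (x6 u * y4 t) = X6 x θ u * Y4 x θ t := by
  simp only [X1, Y2, X2, X3, Y4, X4, X5, Y6, X6, X7, Y8, X8, ← mul_assoc]
  repeat refine h.mv ?_
  refine h.mv1 fun z => ?_
  simp [fW, X1, Y2, X2, X3, Y4, X4, X5, Y6, X6, X7, Y8, X8, h.zero, hsq, -mul_eq_right]
  simp only [mul_assoc, h.mg, CharTwo.add_self_eq_zero, h.zero, one_mul, h.w29, h.w41, h.w44, h.w47, h.w39, h.w45, h.w35, h.w31, h.w40, h.w46]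
  repeat' first | rfl | refine h.z0 ?_ ?_
  all_goals grind

theorem r_x7_y4 (u t : K) : fW x θ hsq (x7 u * y4 t) = X7 x θ u * Y4 x θ t := by
  simp only [X1, Y2, X2, X3, Y4, X4, X5, Y6, X6, X7, Y8, X8, ← mul_assoc]
  repeat refine h.mv ?_
  refine h.mv1 fun z => ?_
  simp [fW, X1, Y2, X2, X3, Y4, X4, X5, Y6, X6, X7, Y8, X8, h.zero, hsq, -mul_eq_right]
  simp only [mul_assoc, h.mg, CharTwo.add_self_eq_zero, h.zero, one_mul, h.w29, h.w41, h.w44, h.w47, h.w39, h.w45, h.w35, h.w31, h.w40, h.w46, h.w37, h.w32]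
  repeat' first | rfl | refine h.z0 ?_ ?_
  all_goals grind

theorem r_y8_y4 (u t : K) : fW x θ hsq (y8 u * y4 t) = Y8 x θ u * Y4 x θ t := by
  simp only [X1, Y2, X2, X3, Y4, X4, X5, Y6, X6, X7, Y8, X8, ← mul_assoc]
  repeat refine h.mv ?_
  refine h.mv1 fun z => ?_
  simp [fW, X1, Y2, X2, X3, Y4, X4, X5, Y6, X6, X7, Y8, X8, h.zero, hsq, -mul_eq_right]
  simp only [mul_assoc, h.mg, CharTwo.add_self_eq_zero, h.zero, one_mul, h.w29, h.w41, h.w44, h.w47, h.w39, h.w45, h.w35, h.w31, h.w40, h.w46, h.w37, h.w32, h.w27, h.w25, h.w28]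
  repeat' first | rfl | refine h.z0 ?_ ?_
  all_goals grind

theorem r_x8_y4 (u t : K) : fW x θ hsq (x8 u * y4 t) = X8 x θ u * Y4 x θ t := by
  simp only [X1, Y2, X2, X3, Y4, X4, X5, Y6, X6, X7, Y8, X8, ← mul_assoc]
  repeat refine h.mv ?_
  refine h.mv1 fun z => ?_
  simp [fW, X1, Y2, X2, X3, Y4, X4, X5, Y6, X6, X7, Y8, X8, h.zero, hsq, -mul_eq_right]
  simp only [mul_assoc, h.mg, CharTwo.add_self_eq_zero, h.zero, one_mul, h.w29, h.w41, h.w44, h.w47, h.w39, h.w45, h.w35, h.w31, h.w40, h.w46, h.w37, h.w32, h.w27, h.w25, h.w28]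
  repeat' first | rfl | refine h.z0 ?_ ?_
  all_goals grind

theorem r_x4_x4 (u t : K) : fW x θ hsq (x4 u * x4 t) = X4 x θ u * X4 x θ t := by
  simp only [X1, Y2, X2, X3, Y4, X4, X5, Y6, X6, X7, Y8, X8, ← mul_assoc]
  repeat refine h.mv ?_
  refine h.mv1 fun z => ?_
  simp [fW, X1, Y2, X2, X3, Y4, X4, X5, Y6, X6, X7, Y8, X8, h.zero, hsq, -mul_eq_right]
  simp only [mul_assoc, h.mg, CharTwo.add_self_eq_zero, h.zero, one_mul, h.w29, h.w41, h.w44, h.w47]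
  repeat' first | rfl | refine h.z0 ?_ ?_
  all_goals grind

theorem r_x5_x4 (u t : K) : fW x θ hsq (x5 u * x4 t) = X5 x θ u * X4 x θ t := by
  simp only [X1, Y2, X2, X3, Y4, X4, X5, Y6, X6, X7, Y8, X8, ← mul_assoc]
  repeat refine h.mv ?_
  refine h.mv1 fun z => ?_
  simp [fW, X1, Y2, X2, X3, Y4, X4, X5, Y6, X6, X7, Y8, X8, h.zero, hsq, -mul_eq_right]
  simp only [mul_assoc, h.mg, CharTwo.add_self_eq_zero, h.zero, one_mul, h.w29, h.w41, h.w44, h.w47, h.w39, h.w45]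
  repeat' first | rfl | refine h.z0 ?_ ?_
  all_goals grind

theorem r_y6_x4 (u t : K) : fW x θ hsq (y6 u * x4 t) = Y6 x θ u * X4 x θ t := by
  simp only [X1, Y2, X2, X3, Y4, X4, X5, Y6, X6, X7, Y8, X8, ← mul_assoc]
  repeat refine h.mv ?_
  refine h.mv1 fun z => ?_
  simp [fW, X1, Y2, X2, X3, Y4, X4, X5, Y6, X6, X7, Y8, X8, h.zero, hsq, -mul_eq_right]
  simp only [mul_assoc, h.mg, CharTwo.add_self_eq_zero, h.zero, one_mul, h.w29, h.w41, h.w44, h.w47, h.w39, h.w45, h.w35, h.w31, h.w40, h.w46]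
  repeat' first | rfl | refine h.z0 ?_ ?_
  all_goals grind

theorem r_x6_x4 (u t : K) : fW x θ hsq (x6 u * x4 t) = X6 x θ u * X4 x θ t := by
  simp only [X1, Y2, X2, X3, Y4, X4, X5, Y6, X6, X7, Y8, X8, ← mul_assoc]
  repeat refine h.mv ?_
  refine h.mv1 fun z => ?_
  simp [fW, X1, Y2, X2, X3, Y4, X4, X5, Y6, X6, X7, Y8, X8, h.zero, hsq, -mul_eq_right]
  simp only [mul_assoc, h.mg, CharTwo.add_self_eq_zero, h.zero, one_mul, h.w29, h.w41, h.w44, h.w47, h.w39, h.w45, h.w35, h.w31, h.w40, h.w46]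
  repeat' first | rfl | refine h.z0 ?_ ?_
  all_goals grind

theorem r_x7_x4 (u t : K) : fW x θ hsq (x7 u * x4 t) = X7 x θ u * X4 x θ t := by
  simp only [X1, Y2, X2, X3, Y4, X4, X5, Y6, X6, X7, Y8, X8, ← mul_assoc]
  repeat refine h.mv ?_
  refine h.mv1 fun z => ?_
  simp [fW, X1, Y2, X2, X3, Y4, X4, X5, Y6, X6, X7, Y8, X8, h.zero, hsq, -mul_eq_right]
  simp only [mul_assoc, h.mg, CharTwo.add_self_eq_zero, h.zero, one_mul, h.w29, h.w41, h.w44, h.w47, h.w39, h.w45, h.w35, h.w31, h.w40, h.w46, h.w37, h.w32]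
  repeat' first | rfl | refine h.z0 ?_ ?_
  all_goals grind

theorem r_y8_x4 (u t : K) : fW x θ hsq (y8 u * x4 t) = Y8 x θ u * X4 x θ t := by
  simp only [X1, Y2, X2, X3, Y4, X4, X5, Y6, X6, X7, Y8, X8, ← mul_assoc]
  repeat refine h.mv ?_
  refine h.mv1 fun z => ?_
  simp [fW, X1, Y2, X2, X3, Y4, X4, X5, Y6, X6, X7, Y8, X8, h.zero, hsq, -mul_eq_right]
  simp only [mul_assoc, h.mg, CharTwo.add_self_eq_zero, h.zero, one_mul, h.w29, h.w41, h.w44, h.w47, h.w39, h.w45, h.w35, h.w31, h.w40, h.w46, h.w37, h.w32, h.w27, h.w25, h.w28]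
  repeat' first | rfl | refine h.z0 ?_ ?_
  all_goals grind

theorem r_x8_x4 (u t : K) : fW x θ hsq (x8 u * x4 t) = X8 x θ u * X4 x θ t := by
  simp only [X1, Y2, X2, X3, Y4, X4, X5, Y6, X6, X7, Y8, X8, ← mul_assoc]
  repeat refine h.mv ?_
  refine h.mv1 fun z => ?_
  simp [fW, X1, Y2, X2, X3, Y4, X4, X5, Y6, X6, X7, Y8, X8, h.zero, hsq, -mul_eq_right]
  simp only [mul_assoc, h.mg, CharTwo.add_self_eq_zero, h.zero, one_mul, h.w29, h.w41, h.w44, h.w47, h.w39, h.w45, h.w35, h.w31, h.w40, h.w46, h.w37, h.w32, h.w27, h.w25, h.w28]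
  repeat' first | rfl | refine h.z0 ?_ ?_
  all_goals grind

theorem r_x5_x5 (u t : K) : fW x θ hsq (x5 u * x5 t) = X5 x θ u * X5 x θ t := by
  simp only [X1, Y2, X2, X3, Y4, X4, X5, Y6, X6, X7, Y8, X8, ← mul_assoc]
  repeat refine h.mv ?_
  refine h.mv1 fun z => ?_
  simp [fW, X1, Y2, X2, X3, Y4, X4, X5, Y6, X6, X7, Y8, X8, h.zero, hsq, -mul_eq_right]
  simp only [mul_assoc, h.mg, CharTwo.add_self_eq_zero, h.zero, one_mul, h.w39, h.w45]
  repeat' first | rfl | refine h.z0 ?_ ?_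
  all_goals grind

theorem r_y6_x5 (u t : K) : fW x θ hsq (y6 u * x5 t) = Y6 x θ u * X5 x θ t := by
  simp only [X1, Y2, X2, X3, Y4, X4, X5, Y6, X6, X7, Y8, X8, ← mul_assoc]
  repeat refine h.mv ?_
  refine h.mv1 fun z => ?_
  simp [fW, X1, Y2, X2, X3, Y4, X4, X5, Y6, X6, X7, Y8, X8, h.zero, hsq, -mul_eq_right]
  simp only [mul_assoc, h.mg, CharTwo.add_self_eq_zero, h.zero, one_mul, h.w39, h.w45, h.w35, h.w31, h.w40, h.w46]
  repeat' first | rfl | refine h.z0 ?_ ?_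
  all_goals grind

theorem r_x6_x5 (u t : K) : fW x θ hsq (x6 u * x5 t) = X6 x θ u * X5 x θ t := by
  simp only [X1, Y2, X2, X3, Y4, X4, X5, Y6, X6, X7, Y8, X8, ← mul_assoc]
  repeat refine h.mv ?_
  refine h.mv1 fun z => ?_
  simp [fW, X1, Y2, X2, X3, Y4, X4, X5, Y6, X6, X7, Y8, X8, h.zero, hsq, -mul_eq_right]
  simp only [mul_assoc, h.mg, CharTwo.add_self_eq_zero, h.zero, one_mul, h.w39, h.w45, h.w35, h.w31, h.w40, h.w46]
  repeat' first | rfl | refine h.z0 ?_ ?_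
  all_goals grind

theorem r_x7_x5 (u t : K) : fW x θ hsq (x7 u * x5 t) = X7 x θ u * X5 x θ t := by
  simp only [X1, Y2, X2, X3, Y4, X4, X5, Y6, X6, X7, Y8, X8, ← mul_assoc]
  repeat refine h.mv ?_
  refine h.mv1 fun z => ?_
  simp [fW, X1, Y2, X2, X3, Y4, X4, X5, Y6, X6, X7, Y8, X8, h.zero, hsq, -mul_eq_right]
  simp only [mul_assoc, h.mg, CharTwo.add_self_eq_zero, h.zero, one_mul, h.w39, h.w45, h.w35, h.w31, h.w40, h.w46, h.w37, h.w32]
  repeat' first | rfl | refine h.z0 ?_ ?_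
  all_goals grind

theorem r_y8_x5 (u t : K) : fW x θ hsq (y8 u * x5 t) = Y8 x θ u * X5 x θ t := by
  simp only [X1, Y2, X2, X3, Y4, X4, X5, Y6, X6, X7, Y8, X8, ← mul_assoc]
  repeat refine h.mv ?_
  refine h.mv1 fun z => ?_
  simp [fW, X1, Y2, X2, X3, Y4, X4, X5, Y6, X6, X7, Y8, X8, h.zero, hsq, -mul_eq_right]
  simp only [mul_assoc, h.mg, CharTwo.add_self_eq_zero, h.zero, one_mul, h.w39, h.w45, h.w35, h.w31, h.w40, h.w46, h.w37, h.w32, h.w27, h.w25, h.w28]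
  repeat' first | rfl | refine h.z0 ?_ ?_
  all_goals grind

theorem r_x8_x5 (u t : K) : fW x θ hsq (x8 u * x5 t) = X8 x θ u * X5 x θ t := by
  simp only [X1, Y2, X2, X3, Y4, X4, X5, Y6, X6, X7, Y8, X8, ← mul_assoc]
  repeat refine h.mv ?_
  refine h.mv1 fun z => ?_
  simp [fW, X1, Y2, X2, X3, Y4, X4, X5, Y6, X6, X7, Y8, X8, h.zero, hsq, -mul_eq_right]
  simp only [mul_assoc, h.mg, CharTwo.add_self_eq_zero, h.zero, one_mul, h.w39, h.w45, h.w35, h.w31, h.w40, h.w46, h.w37, h.w32, h.w27, h.w25, h.w28]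
  repeat' first | rfl | refine h.z0 ?_ ?_
  all_goals grind

theorem r_y6_y6 (u t : K) : fW x θ hsq (y6 u * y6 t) = Y6 x θ u * Y6 x θ t := by
  simp only [X1, Y2, X2, X3, Y4, X4, X5, Y6, X6, X7, Y8, X8, ← mul_assoc]
  repeat refine h.mv ?_
  refine h.mv1 fun z => ?_
  simp [fW, X1, Y2, X2, X3, Y4, X4, X5, Y6, X6, X7, Y8, X8, h.zero, hsq, -mul_eq_right]
  simp only [mul_assoc, h.mg, CharTwo.add_self_eq_zero, h.zero, one_mul, h.w35, h.w31, h.w40, h.w46]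
  repeat' first | rfl | refine h.z0 ?_ ?_
  all_goals grind

theorem r_x6_y6 (u t : K) : fW x θ hsq (x6 u * y6 t) = X6 x θ u * Y6 x θ t := by
  simp only [X1, Y2, X2, X3, Y4, X4, X5, Y6, X6, X7, Y8, X8, ← mul_assoc]
  repeat refine h.mv ?_
  refine h.mv1 fun z => ?_
  simp [fW, X1, Y2, X2, X3, Y4, X4, X5, Y6, X6, X7, Y8, X8, h.zero, hsq, -mul_eq_right]
  simp only [mul_assoc, h.mg, CharTwo.add_self_eq_zero, h.zero, one_mul, h.w35, h.w31, h.w40, h.w46]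
  repeat' first | rfl | refine h.z0 ?_ ?_
  all_goals grind

theorem r_x7_y6 (u t : K) : fW x θ hsq (x7 u * y6 t) = X7 x θ u * Y6 x θ t := by
  simp only [X1, Y2, X2, X3, Y4, X4, X5, Y6, X6, X7, Y8, X8, ← mul_assoc]
  repeat refine h.mv ?_
  refine h.mv1 fun z => ?_
  simp [fW, X1, Y2, X2, X3, Y4, X4, X5, Y6, X6, X7, Y8, X8, h.zero, hsq, -mul_eq_right]
  simp only [mul_assoc, h.mg, CharTwo.add_self_eq_zero, h.zero, one_mul, h.w35, h.w31, h.w40, h.w46, h.w37, h.w32]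
  repeat' first | rfl | refine h.z0 ?_ ?_
  all_goals grind

theorem r_y8_y6 (u t : K) : fW x θ hsq (y8 u * y6 t) = Y8 x θ u * Y6 x θ t := by
  simp only [X1, Y2, X2, X3, Y4, X4, X5, Y6, X6, X7, Y8, X8, ← mul_assoc]
  repeat refine h.mv ?_
  refine h.mv1 fun z => ?_
  simp [fW, X1, Y2, X2, X3, Y4, X4, X5, Y6, X6, X7, Y8, X8, h.zero, hsq, -mul_eq_right]
  simp only [mul_assoc, h.mg, CharTwo.add_self_eq_zero, h.zero, one_mul, h.w35, h.w31, h.w40, h.w46, h.w37, h.w32, h.w27, h.w25, h.w28]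
  repeat' first | rfl | refine h.z0 ?_ ?_
  all_goals grind

theorem r_x8_y6 (u t : K) : fW x θ hsq (x8 u * y6 t) = X8 x θ u * Y6 x θ t := by
  simp only [X1, Y2, X2, X3, Y4, X4, X5, Y6, X6, X7, Y8, X8, ← mul_assoc]
  repeat refine h.mv ?_
  refine h.mv1 fun z => ?_
  simp [fW, X1, Y2, X2, X3, Y4, X4, X5, Y6, X6, X7, Y8, X8, h.zero, hsq, -mul_eq_right]
  simp only [mul_assoc, h.mg, CharTwo.add_self_eq_zero, h.zero, one_mul, h.w35, h.w31, h.w40, h.w46, h.w37, h.w32, h.w27, h.w25, h.w28]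
  repeat' first | rfl | refine h.z0 ?_ ?_
  all_goals grind

theorem r_x6_x6 (u t : K) : fW x θ hsq (x6 u * x6 t) = X6 x θ u * X6 x θ t := by
  simp only [X1, Y2, X2, X3, Y4, X4, X5, Y6, X6, X7, Y8, X8, ← mul_assoc]
  repeat refine h.mv ?_
  refine h.mv1 fun z => ?_
  simp [fW, X1, Y2, X2, X3, Y4, X4, X5, Y6, X6, X7, Y8, X8, h.zero, hsq, -mul_eq_right]
  simp only [mul_assoc, h.mg, CharTwo.add_self_eq_zero, h.zero, one_mul, h.w35, h.w31, h.w40, h.w46]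
  repeat' first | rfl | refine h.z0 ?_ ?_
  all_goals grind

theorem r_x7_x6 (u t : K) : fW x θ hsq (x7 u * x6 t) = X7 x θ u * X6 x θ t := by
  simp only [X1, Y2, X2, X3, Y4, X4, X5, Y6, X6, X7, Y8, X8, ← mul_assoc]
  repeat refine h.mv ?_
  refine h.mv1 fun z => ?_
  simp [fW, X1, Y2, X2, X3, Y4, X4, X5, Y6, X6, X7, Y8, X8, h.zero, hsq, -mul_eq_right]
  simp only [mul_assoc, h.mg, CharTwo.add_self_eq_zero, h.zero, one_mul, h.w35, h.w31, h.w40, h.w46, h.w37, h.w32]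
  repeat' first | rfl | refine h.z0 ?_ ?_
  all_goals grind

theorem r_y8_x6 (u t : K) : fW x θ hsq (y8 u * x6 t) = Y8 x θ u * X6 x θ t := by
  simp only [X1, Y2, X2, X3, Y4, X4, X5, Y6, X6, X7, Y8, X8, ← mul_assoc]
  repeat refine h.mv ?_
  refine h.mv1 fun z => ?_
  simp [fW, X1, Y2, X2, X3, Y4, X4, X5, Y6, X6, X7, Y8, X8, h.zero, hsq, -mul_eq_right]
  simp only [mul_assoc, h.mg, CharTwo.add_self_eq_zero, h.zero, one_mul, h.w35, h.w31, h.w40, h.w46, h.w37, h.w32, h.w27, h.w25, h.w28]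
  repeat' first | rfl | refine h.z0 ?_ ?_
  all_goals grind

theorem r_x8_x6 (u t : K) : fW x θ hsq (x8 u * x6 t) = X8 x θ u * X6 x θ t := by
  simp only [X1, Y2, X2, X3, Y4, X4, X5, Y6, X6, X7, Y8, X8, ← mul_assoc]
  repeat refine h.mv ?_
  refine h.mv1 fun z => ?_
  simp [fW, X1, Y2, X2, X3, Y4, X4, X5, Y6, X6, X7, Y8, X8, h.zero, hsq, -mul_eq_right]
  simp only [mul_assoc, h.mg, CharTwo.add_self_eq_zero, h.zero, one_mul, h.w35, h.w31, h.w40, h.w46, h.w37, h.w32, h.w27, h.w25, h.w28]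
  repeat' first | rfl | refine h.z0 ?_ ?_
  all_goals grind

theorem r_x7_x7 (u t : K) : fW x θ hsq (x7 u * x7 t) = X7 x θ u * X7 x θ t := by
  simp only [X1, Y2, X2, X3, Y4, X4, X5, Y6, X6, X7, Y8, X8, ← mul_assoc]
  repeat refine h.mv ?_
  refine h.mv1 fun z => ?_
  simp [fW, X1, Y2, X2, X3, Y4, X4, X5, Y6, X6, X7, Y8, X8, h.zero, hsq, -mul_eq_right]
  simp only [mul_assoc, h.mg, CharTwo.add_self_eq_zero, h.zero, one_mul, h.w37, h.w32]
  repeat' first | rfl | refine h.z0 ?_ ?_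
  all_goals grind

theorem r_y8_x7 (u t : K) : fW x θ hsq (y8 u * x7 t) = Y8 x θ u * X7 x θ t := by
  simp only [X1, Y2, X2, X3, Y4, X4, X5, Y6, X6, X7, Y8, X8, ← mul_assoc]
  repeat refine h.mv ?_
  refine h.mv1 fun z => ?_
  simp [fW, X1, Y2, X2, X3, Y4, X4, X5, Y6, X6, X7, Y8, X8, h.zero, hsq, -mul_eq_right]
  simp only [mul_assoc, h.mg, CharTwo.add_self_eq_zero, h.zero, one_mul, h.w37, h.w32, h.w27, h.w25, h.w28]
  repeat' first | rfl | refine h.z0 ?_ ?_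
  all_goals grind

theorem r_x8_x7 (u t : K) : fW x θ hsq (x8 u * x7 t) = X8 x θ u * X7 x θ t := by
  simp only [X1, Y2, X2, X3, Y4, X4, X5, Y6, X6, X7, Y8, X8, ← mul_assoc]
  repeat refine h.mv ?_
  refine h.mv1 fun z => ?_
  simp [fW, X1, Y2, X2, X3, Y4, X4, X5, Y6, X6, X7, Y8, X8, h.zero, hsq, -mul_eq_right]
  simp only [mul_assoc, h.mg, CharTwo.add_self_eq_zero, h.zero, one_mul, h.w37, h.w32, h.w27, h.w25, h.w28]
  repeat' first | rfl | refine h.z0 ?_ ?_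
  all_goals grind

theorem r_y8_y8 (u t : K) : fW x θ hsq (y8 u * y8 t) = Y8 x θ u * Y8 x θ t := by
  simp only [X1, Y2, X2, X3, Y4, X4, X5, Y6, X6, X7, Y8, X8, ← mul_assoc]
  repeat refine h.mv ?_
  refine h.mv1 fun z => ?_
  simp [fW, X1, Y2, X2, X3, Y4, X4, X5, Y6, X6, X7, Y8, X8, h.zero, hsq, -mul_eq_right]
  simp only [mul_assoc, h.mg, CharTwo.add_self_eq_zero, h.zero, one_mul, h.w27, h.w25, h.w28]
  repeat' first | rfl | refine h.z0 ?_ ?_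
  all_goals grind

theorem r_x8_y8 (u t : K) : fW x θ hsq (x8 u * y8 t) = X8 x θ u * Y8 x θ t := by
  simp only [X1, Y2, X2, X3, Y4, X4, X5, Y6, X6, X7, Y8, X8, ← mul_assoc]
  repeat refine h.mv ?_
  refine h.mv1 fun z => ?_
  simp [fW, X1, Y2, X2, X3, Y4, X4, X5, Y6, X6, X7, Y8, X8, h.zero, hsq, -mul_eq_right]
  simp only [mul_assoc, h.mg, CharTwo.add_self_eq_zero, h.zero, one_mul, h.w27, h.w25, h.w28]
  repeat' first | rfl | refine h.z0 ?_ ?_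
  all_goals grind

theorem r_x8_x8 (u t : K) : fW x θ hsq (x8 u * x8 t) = X8 x θ u * X8 x θ t := by
  simp only [X1, Y2, X2, X3, Y4, X4, X5, Y6, X6, X7, Y8, X8, ← mul_assoc]
  repeat refine h.mv ?_
  refine h.mv1 fun z => ?_
  simp [fW, X1, Y2, X2, X3, Y4, X4, X5, Y6, X6, X7, Y8, X8, h.zero, hsq, -mul_eq_right]
  simp only [mul_assoc, h.mg, CharTwo.add_self_eq_zero, h.zero, one_mul, h.w27, h.w25, h.w28]
  repeat' first | rfl | refine h.z0 ?_ ?_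
  all_goals grind

end CL.Oct.M1
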